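import Mathlib
import Cfsg.Agent.Helper8.LSD
import Cfsg.Agent.Helper8.SLPermD

set_option autoImplicit false

/-!
# S2332 (exact minimal degree of `SL_n(q)`): common definitions (helper3)

`G = SL (Fin (m+3)) F`, natural module `F^(m+3)`, `e0`, `e1` the first two basis vectors
(`Cfsg.Agent.Helper8.SLTrans.e0/e1`), `E = span {e0, e1}`.  Blueprint:
`notes/S2332_blueprint_helper3.md`.
-/

namespace Cfsg.Agent.SLMin

open Matrix
open Cfsg.Agent.Helper8.SLTrans (e0 e1)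

variable {F : Type*} [Field F] {m : ℕ}

/-- `SL_(m+3)(F)`. -/
abbrev SLn (F : Type*) [Field F] (m : ℕ) := SpecialLinearGroup (Fin (m + 3)) F

/-- The fixed space of a subgroup `H` in a representation. -/
def s_fix {G : Type*} [Group G] {V : Type*} [AddCommGroup V] [Module ℂ V]
    (ρ : Representation ℂ G V) (H : Subgroup G) : Submodule ℂ V where
  carrier := {v | ∀ h ∈ H, ρ h v = v}
  add_mem' := by
    intro a b ha hb h hh
    rw [map_add, ha h hh, hb h hh]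
  zero_mem' := by
    intro h _
    exact map_zero _
  smul_mem' := by
    intro c v hv h hh
    rw [map_smul, hv h hh]

theorem s_mem_fix {G : Type*} [Group G] {V : Type*} [AddCommGroup V] [Module ℂ V]
    (ρ : Representation ℂ G V) (H : Subgroup G) (v : V) :
    v ∈ s_fix ρ H ↔ ∀ h ∈ H, ρ h v = v := Iff.rfl

theorem s_fix_anti {G : Type*} [Group G] {V : Type*} [AddCommGroup V] [Module ℂ V]
    (ρ : Representation ℂ G V) {H K : Subgroup G} (h : H ≤ K) : s_fix ρ K ≤ s_fix ρ H :=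
  fun _ hv x hx => hv x (h hx)

theorem s_coe_mul (a b : SLn F m) :
    ((a * b : SLn F m) : Matrix (Fin (m + 3)) (Fin (m + 3)) F) =
      (a : Matrix (Fin (m + 3)) (Fin (m + 3)) F) * (b : Matrix (Fin (m + 3)) (Fin (m + 3)) F) := rfl

theorem s_coe_one :
    ((1 : SLn F m) : Matrix (Fin (m + 3)) (Fin (m + 3)) F) = 1 := rfl

theorem s_inv_mulVec (g : SLn F m) (x : Fin (m + 3) → F) :
    ((g⁻¹ : SLn F m) : Matrix (Fin (m + 3)) (Fin (m + 3)) F) *ᵥ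
      ((g : Matrix (Fin (m + 3)) (Fin (m + 3)) F) *ᵥ x) = x := by
  rw [Matrix.mulVec_mulVec, ← s_coe_mul, inv_mul_cancel, s_coe_one]
  exact Matrix.one_mulVec _

theorem s_mulVec_inv (g : SLn F m) (x : Fin (m + 3) → F) :
    (g : Matrix (Fin (m + 3)) (Fin (m + 3)) F) *ᵥ
      (((g⁻¹ : SLn F m) : Matrix (Fin (m + 3)) (Fin (m + 3)) F) *ᵥ x) = x := by
  rw [Matrix.mulVec_mulVec, ← s_coe_mul, mul_inv_cancel, s_coe_one]
  exact Matrix.one_mulVec _

/-- The stabiliser of a vector `v` of the natural module. -/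
def s_stabV (v : Fin (m + 3) → F) : Subgroup (SLn F m) where
  carrier := {g | (g : Matrix (Fin (m + 3)) (Fin (m + 3)) F) *ᵥ v = v}
  mul_mem' := by
    intro a b ha hb
    change ((a * b : SLn F m) : Matrix (Fin (m + 3)) (Fin (m + 3)) F) *ᵥ v = v
    rw [s_coe_mul, ← Matrix.mulVec_mulVec, hb, ha]
  one_mem' := by
    change ((1 : SLn F m) : Matrix (Fin (m + 3)) (Fin (m + 3)) F) *ᵥ v = v
    rw [s_coe_one, Matrix.one_mulVec]
  inv_mem' := by
    intro a ha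
    change ((a⁻¹ : SLn F m) : Matrix (Fin (m + 3)) (Fin (m + 3)) F) *ᵥ v = v
    conv_lhs => rw [← ha]
    exact s_inv_mulVec a v

theorem s_mem_stabV (v : Fin (m + 3) → F) (g : SLn F m) :
    g ∈ s_stabV v ↔ (g : Matrix (Fin (m + 3)) (Fin (m + 3)) F) *ᵥ v = v := Iff.rfl

/-- The stabiliser of a subspace `S` of the natural module. -/
def s_stabS (S : Submodule F (Fin (m + 3) → F)) : Subgroup (SLn F m) where
  carrier := {g | ∀ x, (g : Matrix (Fin (m + 3)) (Fin (m + 3)) F) *ᵥ x ∈ S ↔ x ∈ S}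
  mul_mem' := by
    intro a b ha hb x
    change ((a * b : SLn F m) : Matrix (Fin (m + 3)) (Fin (m + 3)) F) *ᵥ x ∈ S ↔ x ∈ S
    rw [s_coe_mul, ← Matrix.mulVec_mulVec, ha, hb]
  one_mem' := by
    intro x
    change ((1 : SLn F m) : Matrix (Fin (m + 3)) (Fin (m + 3)) F) *ᵥ x ∈ S ↔ x ∈ S
    rw [s_coe_one, Matrix.one_mulVec]
  inv_mem' := by
    intro a ha x
    change ((a⁻¹ : SLn F m) : Matrix (Fin (m + 3)) (Fin (m + 3)) F) *ᵥ x ∈ S ↔ x ∈ S
    rw [← ha (((a⁻¹ : SLn F m) : Matrix (Fin (m + 3)) (Fin (m + 3)) F) *ᵥ x), s_mulVec_inv]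

theorem s_mem_stabS (S : Submodule F (Fin (m + 3) → F)) (g : SLn F m) :
    g ∈ s_stabS S ↔ ∀ x, (g : Matrix (Fin (m + 3)) (Fin (m + 3)) F) *ᵥ x ∈ S ↔ x ∈ S := Iff.rfl

/-- The line `F e0`. -/
def s_L0 (F : Type*) [Field F] (m : ℕ) : Submodule F (Fin (m + 3) → F) :=
  Submodule.span F {e0 F m}

/-- The plane `E = ⟨e0, e1⟩`. -/
def s_E (F : Type*) [Field F] (m : ℕ) : Submodule F (Fin (m + 3) → F) :=
  Submodule.span F {e0 F m, e1 F m}

/-- `B^u`: the transvections with centre `e0` (= range of helper8's `Uhom`). -/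
def s_Bu (F : Type*) [Field F] (m : ℕ) : Subgroup (SLn F m) :=
  (Cfsg.Agent.Helper8.LS.Uhom (F := F) (m := m)).range

/-- `G_u`: the stabiliser of the vector `e0`. -/
def s_Gu (F : Type*) [Field F] (m : ℕ) : Subgroup (SLn F m) := s_stabV (e0 F m)

/-- `R^E`: the pointwise stabiliser of `E`. -/
def s_RE (F : Type*) [Field F] (m : ℕ) : Subgroup (SLn F m) := s_stabV (e0 F m) ⊓ s_stabV (e1 F m)

/-- `P_E`: the stabiliser of the plane `E`. -/
def s_PE (F : Type*) [Field F] (m : ℕ) : Subgroup (SLn F m) := s_stabS (s_E F m)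

/-- `P`: the stabiliser of the flag `F e0 < E`. -/
def s_P (F : Type*) [Field F] (m : ℕ) : Subgroup (SLn F m) := s_stabS (s_L0 F m) ⊓ s_stabS (s_E F m)

/-- `P^0`: the elements of `P` fixing the vector `e0`. -/
def s_P0 (F : Type*) [Field F] (m : ℕ) : Subgroup (SLn F m) := s_stabV (e0 F m) ⊓ s_stabS (s_E F m)

/-- `Q`: `g e0 = e0` and `g e1 ∈ e1 + F e0`. -/
def s_Q (F : Type*) [Field F] (m : ℕ) : Subgroup (SLn F m) where
  carrier := {g | (g : Matrix (Fin (m + 3)) (Fin (m + 3)) F) *ᵥ e0 F m = e0 F m ∧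
    (g : Matrix (Fin (m + 3)) (Fin (m + 3)) F) *ᵥ e1 F m - e1 F m ∈ s_L0 F m}
  mul_mem' := by
    rintro a b ⟨ha0, ha1⟩ ⟨hb0, hb1⟩
    refine ⟨(s_stabV (e0 F m)).mul_mem ha0 hb0, ?_⟩
    change ((a * b : SLn F m) : Matrix (Fin (m + 3)) (Fin (m + 3)) F) *ᵥ e1 F m - e1 F m ∈ s_L0 F m
    rw [s_coe_mul, ← Matrix.mulVec_mulVec]
    have h1 : (a : Matrix (Fin (m + 3)) (Fin (m + 3)) F) *ᵥ
        ((b : Matrix (Fin (m + 3)) (Fin (m + 3)) F) *ᵥ e1 F m) - e1 F m =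
        (a : Matrix (Fin (m + 3)) (Fin (m + 3)) F) *ᵥ
          ((b : Matrix (Fin (m + 3)) (Fin (m + 3)) F) *ᵥ e1 F m - e1 F m) +
        ((a : Matrix (Fin (m + 3)) (Fin (m + 3)) F) *ᵥ e1 F m - e1 F m) := by
      rw [Matrix.mulVec_sub]
      abel
    rw [h1]
    refine (s_L0 F m).add_mem ?_ ha1
    obtain ⟨c, hc⟩ := Submodule.mem_span_singleton.mp hb1
    rw [← hc, Matrix.mulVec_smul, ha0]
    exact Submodule.smul_mem _ _ (Submodule.mem_span_singleton_self _)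
  one_mem' := by
    refine ⟨(s_stabV (e0 F m)).one_mem, ?_⟩
    change ((1 : SLn F m) : Matrix (Fin (m + 3)) (Fin (m + 3)) F) *ᵥ e1 F m - e1 F m ∈ s_L0 F m
    rw [s_coe_one, Matrix.one_mulVec, sub_self]
    exact (s_L0 F m).zero_mem
  inv_mem' := by
    rintro a ⟨ha0, ha1⟩
    have hi0 : ((a⁻¹ : SLn F m) : Matrix (Fin (m + 3)) (Fin (m + 3)) F) *ᵥ e0 F m = e0 F m :=
      (s_stabV (e0 F m)).inv_mem ha0
    refine ⟨hi0, ?_⟩
    obtain ⟨c, hc⟩ := Submodule.mem_span_singleton.mp ha1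
    have h2 : ((a⁻¹ : SLn F m) : Matrix (Fin (m + 3)) (Fin (m + 3)) F) *ᵥ e1 F m - e1 F m =
        -(((a⁻¹ : SLn F m) : Matrix (Fin (m + 3)) (Fin (m + 3)) F) *ᵥ
          ((a : Matrix (Fin (m + 3)) (Fin (m + 3)) F) *ᵥ e1 F m - e1 F m)) := by
      rw [Matrix.mulVec_sub, s_inv_mulVec]
      abel
    rw [h2, ← hc, Matrix.mulVec_smul, hi0]
    exact (s_L0 F m).neg_mem (Submodule.smul_mem _ _ (Submodule.mem_span_singleton_self _))

theorem s_mem_Q (g : SLn F m) : g ∈ s_Q F m ↔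
    (g : Matrix (Fin (m + 3)) (Fin (m + 3)) F) *ᵥ e0 F m = e0 F m ∧
    (g : Matrix (Fin (m + 3)) (Fin (m + 3)) F) *ᵥ e1 F m - e1 F m ∈ s_L0 F m := Iff.rfl

/-- The weight space of `B^u` for the character `φ ↦ ψ (z0 φ · d)` (`USL φ = 1 + e0 (z0 φ)ᵀ`,
`z0 φ` = `φ` with the `0`-th coordinate put to `0`; only `d` modulo `F e0` matters). -/
def s_wt (ψ : Multiplicative F →* ℂˣ) {V : Type*} [AddCommGroup V] [Module ℂ V]
    (ρ : Representation ℂ (SLn F m) V) (d : Fin (m + 3) → F) : Submodule ℂ V where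
  carrier := {v | ∀ φ : Fin (m + 3) → F, ρ (Cfsg.Agent.Helper8.LS.USL φ) v =
    ((ψ (Multiplicative.ofAdd (Cfsg.Agent.Helper8.LS.z0 φ ⬝ᵥ d)) : ℂˣ) : ℂ) • v}
  add_mem' := by
    intro a b ha hb φ
    rw [map_add, ha φ, hb φ, smul_add]
  zero_mem' := by
    intro φ
    rw [map_zero, smul_zero]
  smul_mem' := by
    intro c v hv φ
    rw [map_smul, hv φ, smul_comm]

theorem s_mem_wt (ψ : Multiplicative F →* ℂˣ) {V : Type*} [AddCommGroup V] [Module ℂ V]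
    (ρ : Representation ℂ (SLn F m) V) (d : Fin (m + 3) → F) (v : V) :
    v ∈ s_wt ψ ρ d ↔ ∀ φ : Fin (m + 3) → F, ρ (Cfsg.Agent.Helper8.LS.USL φ) v =
      ((ψ (Multiplicative.ofAdd (Cfsg.Agent.Helper8.LS.z0 φ ⬝ᵥ d)) : ℂˣ) : ℂ) • v := Iff.rfl

/-- `N_n = (q^n − 1)/(q − 1)`. -/
def s_N (q n : ℕ) : ℕ := (q ^ n - 1) / (q - 1)

/-- `b_n = (q^n − q)/(q − 1)`. -/
def s_b (q n : ℕ) : ℕ := (q ^ n - q) / (q - 1)

/-- The hypothesis on `(n, q) = (m + 3, q)` of S2332. -/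
def s_good (m q : ℕ) : Prop :=
  (m + 3, q) ≠ (3, 2) ∧ (m + 3, q) ≠ (3, 4) ∧ (m + 3, q) ≠ (4, 2) ∧ (m + 3, q) ≠ (4, 3)

end Cfsg.Agent.SLMin
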