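import Mathlib
import Cfsg.Agent.SLMin.H3_Defs

set_option autoImplicit false

/-!
# S2332, piece S7 (helper5): the `SL_2` intertwiner

`y_s = ∑_b x(b) s y` for an `X`-fixed vector `y` on which the torus acts by scalars: it is
`X`-fixed, nonzero (Hecke quadratic relation), and a torus element normalising the picture acts on
it through its `s`-conjugate.
-/

namespace Cfsg.Agent.SLMin

open Matrix Module

variable {F : Type*} [Field F] [Fintype F] [DecidableEq F] {m : ℕ}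
variable {V : Type*} [AddCommGroup V] [Module ℂ V] [FiniteDimensional ℂ V]

/-- `x(b) = [[1,b],[0,1]]`. -/
def s7_x (b : F) : SpecialLinearGroup (Fin 2) F := ⟨!![1, b; 0, 1], by simp [Matrix.det_fin_two]⟩
/-- `h(a) = diag(a, a⁻¹)`. -/
def s7_h (a : Fˣ) : SpecialLinearGroup (Fin 2) F :=
  ⟨!![(a : F), 0; 0, ((a⁻¹ : Fˣ) : F)], by simp [Matrix.det_fin_two]⟩
/-- `s = [[0,1],[-1,0]]`. -/
def s7_s : SpecialLinearGroup (Fin 2) F := ⟨!![0, 1; -1, 0], by simp [Matrix.det_fin_two]⟩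

omit [Fintype F] [DecidableEq F] in
theorem h5_s7_x_add (a b : F) : s7_x (a + b) = s7_x a * s7_x b := by
  ext i j
  simp only [Matrix.SpecialLinearGroup.coe_mul]
  fin_cases i <;> fin_cases j <;>
    simp [s7_x, Matrix.mul_apply, Fin.sum_univ_two, add_comm]

omit [Fintype F] [DecidableEq F] in
theorem h5_s7_x_zero : s7_x (0 : F) = 1 := by
  ext i j
  fin_cases i <;> fin_cases j <;> simp [s7_x]

omit [Fintype F] [DecidableEq F] in
theorem h5_s7_h_neg_one_sq : s7_h (-1 : Fˣ) * s7_h (-1 : Fˣ) = 1 := by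
  ext i j
  simp only [Matrix.SpecialLinearGroup.coe_mul]
  fin_cases i <;> fin_cases j <;>
    simp [s7_h, Matrix.mul_apply, Fin.sum_univ_two]

omit [Fintype F] [DecidableEq F] in
/-- `x(b') s x(0) s = x(b') h(-1)`. -/
theorem h5_s7_W0 (b' : F) :
    s7_x b' * s7_s * (s7_x (0 : F) * s7_s) = s7_x b' * s7_h (-1 : Fˣ) := by
  ext i j
  simp only [Matrix.SpecialLinearGroup.coe_mul]
  fin_cases i <;> fin_cases j <;>
    simp [s7_x, s7_h, s7_s, Matrix.mul_apply, Fin.sum_univ_two]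

omit [Fintype F] [DecidableEq F] in
/-- The `SL_2` relation behind the Hecke quadratic relation. -/
theorem h5_s7_key (a : Fˣ) (b' : F) :
    s7_x b' * s7_s * (s7_x (-((a⁻¹ : Fˣ) : F)) * s7_s) =
      s7_h a * (s7_x (((a⁻¹ : Fˣ) : F) * ((a⁻¹ : Fˣ) : F) * (b' + (a : F))) * s7_s) *
        s7_x (a : F) := by
  have ha : (a : F) ≠ 0 := a.ne_zero
  ext i j
  simp only [Matrix.SpecialLinearGroup.coe_mul]
  fin_cases i <;> fin_cases j <;>
    simp [s7_x, s7_h, s7_s, Matrix.mul_apply, Fin.sum_univ_two] <;> field_simp <;> ring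


omit [FiniteDimensional ℂ V] in
theorem h5_rho_mul {G : Type*} [Group G] (ρ : Representation ℂ G V) (g h : G) (v : V) :
    ρ (g * h) v = ρ g (ρ h v) := by
  rw [map_mul]
  rfl

omit [DecidableEq F] [FiniteDimensional ℂ V] in
/-- `X`-invariance of `y_s` (no hypothesis on `y` needed). -/
theorem h5_s7_inv (σ : Representation ℂ (SpecialLinearGroup (Fin 2) F) V) (y : V) (b : F) :
    σ (s7_x b) (∑ b' : F, σ (s7_x b' * s7_s) y) = ∑ b' : F, σ (s7_x b' * s7_s) y := by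
  rw [map_sum]
  refine Fintype.sum_equiv (Equiv.addLeft b) _ _ (fun b' => ?_)
  rw [Equiv.coe_addLeft, h5_s7_x_add, mul_assoc]
  exact (h5_rho_mul σ _ _ y).symm

omit [DecidableEq F] [FiniteDimensional ℂ V] in
/-- `y_s ≠ 0` (the Hecke quadratic relation; no condition on `ϑ` is needed). -/
theorem h5_s7_ne (σ : Representation ℂ (SpecialLinearGroup (Fin 2) F) V) (y : V) (hy : y ≠ 0)
    (hx : ∀ b : F, σ (s7_x b) y = y) (ϑ : Fˣ → ℂ)
    (hh : ∀ a : Fˣ, σ (s7_h a) y = ϑ a • y) :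
    (∑ b : F, σ (s7_x b * s7_s) y) ≠ 0 := by
  intro h0
  -- the terms `b ≠ 0`
  have hW : ∀ b : F, b ≠ 0 → ∑ b' : F, σ (s7_x b' * s7_s * (s7_x b * s7_s)) y = 0 := by
    intro b hb
    have hne : -b⁻¹ ≠ 0 := neg_ne_zero.mpr (inv_ne_zero hb)
    obtain ⟨a, ha⟩ : ∃ a : Fˣ, b = -((a⁻¹ : Fˣ) : F) := by
      refine ⟨Units.mk0 (-b⁻¹) hne, ?_⟩
      rw [Units.val_inv_eq_inv_val, Units.val_mk0, inv_neg, inv_inv, neg_neg]
    have hne2 : ((a⁻¹ : Fˣ) : F) * ((a⁻¹ : Fˣ) : F) ≠ 0 :=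
      mul_ne_zero (a⁻¹).ne_zero (a⁻¹).ne_zero
    have h1 : ∀ b' : F, σ (s7_x b' * s7_s * (s7_x b * s7_s)) y =
        σ (s7_h a) (σ (s7_x (((a⁻¹ : Fˣ) : F) * ((a⁻¹ : Fˣ) : F) * (b' + (a : F))) * s7_s) y) := by
      intro b'
      rw [ha, h5_s7_key, h5_rho_mul, h5_rho_mul, hx]
    have h2 : ∑ b' : F, σ (s7_x (((a⁻¹ : Fˣ) : F) * ((a⁻¹ : Fˣ) : F) * (b' + (a : F))) * s7_s) y =
        ∑ b : F, σ (s7_x b * s7_s) y :=
      Fintype.sum_equiv ((Equiv.addRight (a : F)).trans (Equiv.mulLeft₀ _ hne2)) _ _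
        (fun b' => rfl)
    rw [Finset.sum_congr rfl (fun b' _ => h1 b'), ← map_sum, h2, h0, map_zero]
  -- the double sum vanishes
  have hZ : ∑ b : F, ∑ b' : F, σ (s7_x b' * s7_s * (s7_x b * s7_s)) y = 0 := by
    rw [Finset.sum_comm]
    refine Finset.sum_eq_zero (fun b' _ => ?_)
    have : ∑ b : F, σ (s7_x b' * s7_s * (s7_x b * s7_s)) y =
        σ (s7_x b' * s7_s) (∑ b : F, σ (s7_x b * s7_s) y) := by
      rw [map_sum]
      exact Finset.sum_congr rfl (fun b _ => h5_rho_mul σ _ _ y)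
    rw [this, h0, map_zero]
  rw [Finset.sum_eq_single (0 : F) (fun b _ hb => hW b hb)
    (fun h => absurd (Finset.mem_univ _) h)] at hZ
  -- the term `b = 0`
  have h3 : ∀ b' : F, σ (s7_x b' * s7_s * (s7_x (0 : F) * s7_s)) y = ϑ (-1) • y := by
    intro b'
    rw [h5_s7_W0, h5_rho_mul, hh, map_smul, hx]
  rw [Finset.sum_congr rfl (fun b' _ => h3 b'), Finset.sum_const, Finset.card_univ,
    ← Nat.cast_smul_eq_nsmul ℂ, smul_smul] at hZ
  have hϑ : ϑ (-1) ≠ 0 := by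
    intro h
    apply hy
    have h4 : σ (s7_h (-1 : Fˣ) * s7_h (-1 : Fˣ)) y = y := by
      rw [h5_s7_h_neg_one_sq, map_one]
      rfl
    rw [h5_rho_mul, hh, map_smul, hh, h, zero_smul] at h4
    exact h4.symm
  rcases smul_eq_zero.mp hZ with h | h
  · rcases mul_eq_zero.mp h with h | h
    · exact Fintype.card_ne_zero (Nat.cast_eq_zero.mp h)
    · exact hϑ h
  · exact hy h

theorem s7_intertwiner {G : Type*} [Group G] (ι : SpecialLinearGroup (Fin 2) F →* G)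
    (ρ : Representation ℂ G V) (y : V) (hy : y ≠ 0)
    (hx : ∀ b : F, ρ (ι (s7_x b)) y = y) (ϑ : Fˣ → ℂ)
    (hh : ∀ a : Fˣ, ρ (ι (s7_h a)) y = ϑ a • y) (hϑ : ∃ a, ϑ a ≠ 1) :
    (∑ b : F, ρ (ι (s7_x b * s7_s)) y) ≠ 0 ∧
    ∀ b : F, ρ (ι (s7_x b)) (∑ b' : F, ρ (ι (s7_x b' * s7_s)) y) = ∑ b' : F, ρ (ι (s7_x b' * s7_s)) y :=
  ⟨h5_s7_ne (ρ.comp ι) y hy hx ϑ hh, fun b => h5_s7_inv (ρ.comp ι) y b⟩

theorem s7_torus {G : Type*} [Group G] (ι : SpecialLinearGroup (Fin 2) F →* G)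
    (ρ : Representation ℂ G V) (y : V) (t t' : G) (r : Fˣ)
    (hconj : ∀ b : F, t * ι (s7_x b) = ι (s7_x ((r : F) * b)) * t)
    (hs : t * ι s7_s = ι s7_s * t') (c : ℂ) (ht' : ρ t' y = c • y) :
    ρ t (∑ b : F, ρ (ι (s7_x b * s7_s)) y) = c • ∑ b : F, ρ (ι (s7_x b * s7_s)) y := by
  rw [map_sum, Finset.smul_sum]
  refine Fintype.sum_equiv (Equiv.mulLeft₀ (r : F) r.ne_zero) _ _ (fun b => ?_)
  rw [Equiv.mulLeft₀_apply]
  have h1 : t * ι (s7_x b * s7_s) = ι (s7_x ((r : F) * b) * s7_s) * t' := by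
    rw [map_mul, ← mul_assoc, hconj, mul_assoc, hs, ← mul_assoc, ← map_mul]
  calc ρ t (ρ (ι (s7_x b * s7_s)) y) = ρ (t * ι (s7_x b * s7_s)) y :=
        (h5_rho_mul ρ _ _ y).symm
    _ = ρ (ι (s7_x ((r : F) * b) * s7_s)) (ρ t' y) := by
        rw [h1, h5_rho_mul]
    _ = c • ρ (ι (s7_x ((r : F) * b) * s7_s)) y := by
        rw [ht', map_smul]

end Cfsg.Agent.SLMin
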