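import Mathlib
import Cfsg.Agent.SLMin.H3_Defs
import Cfsg.Agent.Helper7.PSLSimple

set_option autoImplicit false
set_option linter.unusedSectionVars false

/-! S2332, piece S3 (helper1): the weights of `B^u` (transvections with centre `e0`) on a
representation of `SL_(m+3)(F)`: all non-trivial weights have the same multiplicity `mult ≥ 1`
and `dim V = dim C_V(B^u) + mult (q^(m+2) - 1)`. -/

namespace Cfsg.Agent.SLMin

open Matrix Module
open Cfsg.Agent.Helper8.SLTrans (e0 e1)
open Cfsg.Agent.Helper8.LS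
open scoped commutatorElement

section normal

/-- A normal subgroup of `SL_n`, `n ≥ 3`, which is not central is everything. -/
theorem h1_normal_eq_top {F : Type*} [Field F] {n : ℕ} (hn : 3 ≤ n)
    (N : Subgroup (SpecialLinearGroup (Fin n) F)) [hNn : N.Normal]
    (hN : ¬ N ≤ Subgroup.center (SpecialLinearGroup (Fin n) F)) : N = ⊤ := by
  have hs : IsSimpleGroup (SpecialLinearGroup (Fin n) F ⧸
      Subgroup.center (SpecialLinearGroup (Fin n) F)) :=
    Cfsg.Agent.Helper7.Transv.isSimpleGroup_PSL (F := F) hn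
  set π := QuotientGroup.mk' (Subgroup.center (SpecialLinearGroup (Fin n) F)) with hπ
  have hnorm : (N.map π).Normal :=
    Subgroup.Normal.map hNn π (QuotientGroup.mk'_surjective _)
  rcases hnorm.eq_bot_or_eq_top with h | h
  · exfalso
    apply hN
    intro x hx
    have h1 : π x ∈ N.map π := Subgroup.mem_map_of_mem π hx
    rw [h, Subgroup.mem_bot] at h1
    exact (QuotientGroup.eq_one_iff x).mp h1
  · rw [eq_top_iff, ← Cfsg.Agent.Helper7.Transv.commutator_SL_eq_top (F := F) hn, commutator_def,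
      Subgroup.commutator_le]
    intro a _ b _
    have ha : π a ∈ N.map π := by
      rw [h]
      exact Subgroup.mem_top _
    obtain ⟨n₁, hn₁, h1⟩ := Subgroup.mem_map.mp ha
    have hz : n₁⁻¹ * a ∈ Subgroup.center (SpecialLinearGroup (Fin n) F) :=
      QuotientGroup.eq.mp h1
    set c := n₁⁻¹ * a with hc
    have hac : a = n₁ * c := by
      rw [hc]
      group
    have hcomm : ∀ g : SpecialLinearGroup (Fin n) F, g * c = c * g :=
      fun g => Subgroup.mem_center_iff.mp hz g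
    have h2 : ⁅a, b⁆ = n₁ * (b * n₁⁻¹ * b⁻¹) := by
      rw [commutatorElement_def, hac, _root_.mul_inv_rev]
      calc n₁ * c * b * (c⁻¹ * n₁⁻¹) * b⁻¹ = n₁ * (c * b) * c⁻¹ * n₁⁻¹ * b⁻¹ := by group
        _ = n₁ * (b * c) * c⁻¹ * n₁⁻¹ * b⁻¹ := by rw [hcomm b]
        _ = n₁ * (b * n₁⁻¹ * b⁻¹) := by group
    rw [h2]
    exact N.mul_mem hn₁ (hNn.conj_mem _ (N.inv_mem hn₁) b)

end normal

section weights

variable {F : Type*} [Field F] [Fintype F] [DecidableEq F] {m : ℕ}
variable {V : Type*} [AddCommGroup V] [Module ℂ V]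

/-- the action of `B^u ≅ F^(m+3) / F e0`. -/
def h1_T (ρ : Representation ℂ (SLn F m) V) :
    Multiplicative (Fin (m + 3) → F) →* Module.End ℂ V :=
  (ρ : SLn F m →* Module.End ℂ V).comp Uhom

omit [Fintype F] [DecidableEq F] in
theorem h1_T_apply (ρ : Representation ℂ (SLn F m) V) (φ : Fin (m + 3) → F) :
    h1_T ρ (Multiplicative.ofAdd φ) = ρ (USL φ) := rfl

omit [Fintype F] [DecidableEq F] in
theorem h1_dot (φ d : Fin (m + 3) → F) : z0 φ ⬝ᵥ d = φ ⬝ᵥ z0 d := by
  unfold dotProduct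
  refine Finset.sum_congr rfl (fun i _ => ?_)
  by_cases hi : i = 0
  · subst hi
    rw [z0_zero, z0_zero, zero_mul, mul_zero]
  · rw [z0_succ φ hi, z0_succ d hi]

theorem h1_wt_eq (ρ : Representation ℂ (SLn F m) V) (ψ : Multiplicative F →* ℂˣ)
    (d : Fin (m + 3) → F) : s_wt ψ ρ d = wt (h1_T ρ) (dotChar ψ (z0 d)) := by
  ext v
  rw [s_mem_wt, mem_wt]
  constructor
  · intro h a
    have ha : a = Multiplicative.ofAdd (Multiplicative.toAdd a) := rfl
    rw [ha, dotChar_apply, h1_T_apply, h, h1_dot]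
  · intro h φ
    have h1 := h (Multiplicative.ofAdd φ)
    rw [dotChar_apply, h1_T_apply, ← h1_dot] at h1
    exact h1

theorem h1_fix_eq (ρ : Representation ℂ (SLn F m) V) :
    s_fix ρ (s_Bu F m) = wt (h1_T ρ) 1 := by
  ext v
  rw [s_mem_fix, mem_wt]
  constructor
  · intro h a
    have h1 : ρ (Uhom a) v = v := h _ ⟨a, rfl⟩
    show ρ (Uhom a) v = _
    rw [h1]
    simp
  · rintro h _ ⟨a, rfl⟩
    have h1 := h a
    simp only [MonoidHom.one_apply, Units.val_one, one_smul] at h1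
    exact h1

/-- weights live on `b 0 = 0`. -/
theorem h1_weight_zero (ρ : Representation ℂ (SLn F m) V) {ψ : Multiplicative F →* ℂˣ}
    (hψ : ψ ≠ 1) (b : Fin (m + 3) → F) (hne : wt (h1_T ρ) (dotChar ψ b) ≠ ⊥) : b 0 = 0 := by
  obtain ⟨v, hv, hv0⟩ := (Submodule.ne_bot_iff _).mp hne
  by_contra hb
  apply hψ
  refine MonoidHom.ext (fun t' => ?_)
  set t : F := Multiplicative.toAdd t' with ht
  have h1 := hv (Multiplicative.ofAdd ((t / b 0) • e0 F m))
  have h2 : h1_T ρ (Multiplicative.ofAdd ((t / b 0) • e0 F m)) = 1 := by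
    show ρ (Uhom _) = 1
    rw [Uhom_smul_e0, map_one]
  rw [h2, Module.End.one_apply, dotChar_apply] at h1
  have h3 : ((t / b 0) • e0 F m) ⬝ᵥ b = t := by
    rw [smul_dotProduct]
    simp [e0]
    field_simp
  rw [h3] at h1
  have h4 : ((1 : ℂ) - ((ψ (Multiplicative.ofAdd t) : ℂˣ) : ℂ)) • v = 0 := by
    rw [sub_smul, one_smul, ← h1, sub_self]
  rcases smul_eq_zero.mp h4 with h5 | h5
  · have h6 : ψ (Multiplicative.ofAdd t) = 1 := Units.ext (sub_eq_zero.mp h5).symm
    exact h6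
  · exact absurd h5 hv0

theorem h1_rep_injective (ρ : Representation ℂ (SLn F m) V) (g : SLn F m) :
    Function.Injective (ρ g) := by
  intro v w hvw
  have h1 : ρ g⁻¹ (ρ g v) = ρ g⁻¹ (ρ g w) := by rw [hvw]
  rw [← Module.End.mul_apply, ← Module.End.mul_apply, ← map_mul, inv_mul_cancel, map_one] at h1
  exact h1

variable [FiniteDimensional ℂ V]

/-- the multiplicities of two non-trivial weights agree. -/
theorem h1_mult_le (ρ : Representation ℂ (SLn F m) V) (ψ : Multiplicative F →* ℂˣ)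
    {b b' : Fin (m + 3) → F} (hb : b ≠ 0) (hb0 : b 0 = 0) (hb' : b' ≠ 0) (hb'0 : b' 0 = 0) :
    finrank ℂ (wt (h1_T ρ) (dotChar ψ b)) ≤ finrank ℂ (wt (h1_T ρ) (dotChar ψ b')) := by
  obtain ⟨g, hg0, hgb⟩ := exists_fix_e0 hb hb0 hb' hb'0
  refine finrank_wt_le_of_conj' (h1_T ρ) (ρ g) (h1_rep_injective ρ g) (dotChar ψ b')
    (dotChar ψ b) ?_
  intro a'
  refine ⟨Multiplicative.ofAdd (z0 a'.toAdd ᵥ* (g : Matrix (Fin (m + 3)) (Fin (m + 3)) F)), ?_, ?_⟩
  · show ρ g * ρ (Uhom _) = ρ (Uhom a') * ρ g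
    rw [← map_mul, ← map_mul]
    congr 1
    exact conj_Uhom g hg0 a'.toAdd
  · rw [dotChar_apply]
    have : a' = Multiplicative.ofAdd a'.toAdd := rfl
    rw [this, dotChar_apply]
    congr 2
    rw [← Matrix.dotProduct_mulVec, hgb, z0_dot_of_zero _ hb'0]
    rfl

theorem h1_mult_eq (ρ : Representation ℂ (SLn F m) V) (ψ : Multiplicative F →* ℂˣ)
    {b b' : Fin (m + 3) → F} (hb : b ≠ 0) (hb0 : b 0 = 0) (hb' : b' ≠ 0) (hb'0 : b' 0 = 0) :
    finrank ℂ (wt (h1_T ρ) (dotChar ψ b)) = finrank ℂ (wt (h1_T ρ) (dotChar ψ b')) :=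
  le_antisymm (h1_mult_le ρ ψ hb hb0 hb' hb'0) (h1_mult_le ρ ψ hb' hb'0 hb hb0)

end weights


section main

variable {F : Type*} [Field F] [Fintype F] [DecidableEq F] {m : ℕ}
variable {V : Type*} [AddCommGroup V] [Module ℂ V] [FiniteDimensional ℂ V]

theorem h1_hasEnough (A : Type*) [CommGroup A] [Finite A] :
    HasEnoughRootsOfUnity ℂ (Monoid.exponent A) := by
  have : NeZero (Monoid.exponent A) := ⟨Monoid.exponent_ne_zero_of_finite⟩
  infer_instance

/-- `B^u` acts non-trivially on a non-trivial representation. -/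
theorem h1_T_e1_ne_one (ρ : Representation ℂ (SLn F m) V) (hnt : ∃ g : SLn F m, ρ g ≠ 1) :
    h1_T ρ (Multiplicative.ofAdd (e1 F m)) ≠ 1 := by
  intro h
  obtain ⟨g, hg⟩ := hnt
  apply hg
  have hker : MonoidHom.ker ρ = ⊤ := by
    apply h1_normal_eq_top (by omega)
    intro hle
    apply Uhom_e1_not_mem_center (F := F) (m := m)
    apply hle
    exact MonoidHom.mem_ker.mpr h
  have h1 : g ∈ MonoidHom.ker ρ := by
    rw [hker]
    exact Subgroup.mem_top _
  exact MonoidHom.mem_ker.mp h1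

theorem s3_weights (ρ : Representation ℂ (SLn F m) V) (ψ : Multiplicative F →* ℂˣ) (hψ : ψ ≠ 1)
    (hnt : ∃ g : SLn F m, ρ g ≠ 1) :
    ∃ mult : ℕ, 1 ≤ mult ∧
      (∀ d : Fin (m + 3) → F, (∃ i, i ≠ 0 ∧ d i ≠ 0) → finrank ℂ (s_wt ψ ρ d) = mult) ∧
      finrank ℂ V = finrank ℂ (s_fix ρ (s_Bu F m)) + mult * (Fintype.card F ^ (m + 2) - 1) := by
  classical
  have hE : HasEnoughRootsOfUnity ℂ (Monoid.exponent (Multiplicative (Fin (m + 3) → F))) :=
    h1_hasEnough _
  have hA : (Fintype.card (Multiplicative (Fin (m + 3) → F)) : ℂ) ≠ 0 :=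
    Nat.cast_ne_zero.mpr Fintype.card_ne_zero
  have he1 : e1 F m ≠ 0 := Cfsg.Agent.Helper8.SLTrans.e1_ne_zero
  have he10 : e1 F m 0 = 0 := by simp [e1]
  refine ⟨finrank ℂ (wt (h1_T ρ) (dotChar ψ (e1 F m))), ?_, ?_, ?_⟩
  · -- `mult ≥ 1`
    obtain ⟨χ, hχne, hχ1⟩ := exists_wt_ne_bot (h1_T ρ) hA _ (h1_T_e1_ne_one ρ hnt)
    obtain ⟨b, rfl⟩ := (dotChar_bijective (ι := Fin (m + 3)) hψ).2 χ
    have hbz : b 0 = 0 := h1_weight_zero ρ hψ b hχne
    have hbne : b ≠ 0 := by
      intro h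
      apply hχ1
      rw [h, dotChar_apply, dotProduct_zero, ofAdd_zero, map_one]
    rw [h1_mult_eq ρ ψ he1 he10 hbne hbz, Nat.one_le_iff_ne_zero]
    intro h0
    exact hχne (Submodule.finrank_eq_zero.mp h0)
  · rintro d ⟨i, hi, hdi⟩
    rw [h1_wt_eq]
    refine h1_mult_eq ρ ψ ?_ (z0_zero d) he1 he10
    intro h
    apply hdi
    have h1 := congrFun h i
    rwa [z0_succ d hi] at h1
  · -- the count
    have : Fintype (Multiplicative (Fin (m + 3) → F) →* ℂˣ) := Fintype.ofFinite _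
    rw [finrank_eq_sum (h1_T ρ) hA, h1_fix_eq]
    let e : (Fin (m + 3) → F) ≃ (Multiplicative (Fin (m + 3) → F) →* ℂˣ) :=
      Equiv.ofBijective _ (dotChar_bijective (ι := Fin (m + 3)) hψ)
    rw [← Equiv.sum_comp e, ← Equiv.sum_comp (Fin.consEquiv (fun _ : Fin (m + 2 + 1) => F)),
      Fintype.sum_prod_type]
    change ∑ x : F, ∑ c : Fin (m + 2) → F,
      finrank ℂ (wt (h1_T ρ) (dotChar ψ (Fin.cons x c : Fin (m + 3) → F))) = _
    rw [Finset.sum_eq_single (0 : F)]
    · rw [← Finset.add_sum_erase Finset.univ _ (Finset.mem_univ (0 : Fin (m + 2) → F))]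
      congr 1
      · have h0 : (Fin.cons (0 : F) (0 : Fin (m + 2) → F) : Fin (m + 3) → F) = 0 := by
          ext i
          refine Fin.cases ?_ (fun j => ?_) i <;> simp
        have h1 : dotChar ψ (0 : Fin (m + 3) → F)
            = (1 : Multiplicative (Fin (m + 3) → F) →* ℂˣ) := by
          refine MonoidHom.ext (fun a => ?_)
          have ha : a = Multiplicative.ofAdd (Multiplicative.toAdd a) := rfl
          rw [ha, dotChar_apply, dotProduct_zero, ofAdd_zero, map_one]
          rfl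
        rw [h0, h1]
      · have h2 : ∀ c ∈ Finset.univ.erase (0 : Fin (m + 2) → F),
            finrank ℂ (wt (h1_T ρ) (dotChar ψ (Fin.cons (0 : F) c : Fin (m + 3) → F)))
              = finrank ℂ (wt (h1_T ρ) (dotChar ψ (e1 F m))) := by
          intro c hc
          refine h1_mult_eq ρ ψ ?_ (by simp) he1 he10
          intro h
          apply Finset.ne_of_mem_erase hc
          ext j
          have h3 := congrFun h j.succ
          simpa using h3
        rw [Finset.sum_congr rfl h2, Finset.sum_const,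
          Finset.card_erase_of_mem (Finset.mem_univ _), Finset.card_univ, Fintype.card_fun,
          Fintype.card_fin, smul_eq_mul, mul_comm]
    · intro x _ hx
      apply Finset.sum_eq_zero
      intro c _
      by_contra h
      apply hx
      have h1 : wt (h1_T ρ) (dotChar ψ (Fin.cons x c : Fin (m + 3) → F)) ≠ ⊥ := by
        intro hb
        apply h
        rw [hb]
        exact finrank_bot ℂ V
      have h2 := h1_weight_zero ρ hψ _ h1
      simpa using h2
    · intro h
      exact absurd (Finset.mem_univ _) h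

end main

end Cfsg.Agent.SLMin
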