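import Mathlib
import Cfsg.Agent.SLMin.H3_Defs
import Cfsg.Agent.MinIdx.H8_Dual

set_option autoImplicit false

/-!
# S2332, `n = 3`: explicit matrices in `SL_3(F)` (helper2)

`h2_U a b c = [[1,a,b],[0,1,c],[0,0,1]]`; the groups `Q = U`, `R^E`, `B^u` of `H3_Defs` for `m = 0`
in these coordinates; the two block embeddings of `SL_2`; the twist `τ`.
-/

namespace Cfsg.Agent.SLMin

open Matrix
open Cfsg.Agent.Helper8.SLTrans (e0 e1)

variable {F : Type*} [Field F]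

/-- `[[1,a,b],[0,1,c],[0,0,1]]`. -/
def h2_U (a b c : F) : SLn F 0 :=
  ⟨!![1, a, b; 0, 1, c; 0, 0, 1], by simp [Matrix.det_fin_three]⟩

theorem h2_U_coe (a b c : F) :
    ((h2_U a b c : SLn F 0) : Matrix (Fin 3) (Fin 3) F) = !![1, a, b; 0, 1, c; 0, 0, 1] := rfl

theorem h2_U_mul (a b c a' b' c' : F) :
    h2_U a b c * h2_U a' b' c' = h2_U (a + a') (b + b' + a * c') (c + c') := by
  apply Subtype.ext
  rw [s_coe_mul, h2_U_coe, h2_U_coe, h2_U_coe]
  ext i j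
  fin_cases i <;> fin_cases j <;> simp [Matrix.mul_apply, Fin.sum_univ_three] <;> ring

theorem h2_U_zero : h2_U (0 : F) 0 0 = 1 := by
  apply Subtype.ext
  rw [h2_U_coe, s_coe_one]
  ext i j
  fin_cases i <;> fin_cases j <;> simp

theorem h2_U_inv (a b c : F) : (h2_U a b c)⁻¹ = h2_U (-a) (a * c - b) (-c) := by
  rw [inv_eq_iff_mul_eq_one, h2_U_mul, ← h2_U_zero]
  congr 1 <;> ring

theorem h2_e0_apply (i : Fin 3) : e0 F 0 i = if i = 0 then 1 else 0 := by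
  unfold e0
  rw [Pi.single_apply]

theorem h2_e1_apply (i : Fin 3) : e1 F 0 i = if i = 1 then 1 else 0 := by
  unfold e1
  rw [Pi.single_apply]

theorem h2_mulVec_e0 (M : Matrix (Fin 3) (Fin 3) F) : M *ᵥ e0 F 0 = fun i => M i 0 := by
  unfold e0
  rw [Matrix.mulVec_single_one]
  rfl

theorem h2_mulVec_e1 (M : Matrix (Fin 3) (Fin 3) F) : M *ᵥ e1 F 0 = fun i => M i 1 := by
  unfold e1
  rw [Matrix.mulVec_single_one]
  rfl

theorem h2_mem_L0 (x : Fin 3 → F) : x ∈ s_L0 F 0 ↔ x 1 = 0 ∧ x 2 = 0 := by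
  unfold s_L0
  rw [Submodule.mem_span_singleton]
  constructor
  · rintro ⟨c, rfl⟩
    simp [h2_e0_apply]
  · rintro ⟨h1, h2⟩
    refine ⟨x 0, ?_⟩
    ext i
    fin_cases i <;> simp [h2_e0_apply, h1, h2]

theorem h2_mem_E (x : Fin 3 → F) : x ∈ s_E F 0 ↔ x 2 = 0 := by
  unfold s_E
  rw [Submodule.mem_span_pair]
  constructor
  · rintro ⟨a, b, rfl⟩
    simp [h2_e0_apply, h2_e1_apply]
  · intro h2
    refine ⟨x 0, x 1, ?_⟩
    ext i
    fin_cases i <;> simp [h2_e0_apply, h2_e1_apply, h2]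

/-- An upper unitriangular element of `SL_3` is an `h2_U`. -/
theorem h2_eq_U (g : SLn F 0) (h10 : (g : Matrix (Fin 3) (Fin 3) F) 1 0 = 0)
    (h20 : (g : Matrix (Fin 3) (Fin 3) F) 2 0 = 0) (h21 : (g : Matrix (Fin 3) (Fin 3) F) 2 1 = 0)
    (h00 : (g : Matrix (Fin 3) (Fin 3) F) 0 0 = 1) (h11 : (g : Matrix (Fin 3) (Fin 3) F) 1 1 = 1) :
    g = h2_U ((g : Matrix (Fin 3) (Fin 3) F) 0 1) ((g : Matrix (Fin 3) (Fin 3) F) 0 2)
      ((g : Matrix (Fin 3) (Fin 3) F) 1 2) := by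
  have hdet := g.2
  rw [Matrix.det_fin_three, h10, h20, h21, h00, h11] at hdet
  have h22 : (g : Matrix (Fin 3) (Fin 3) F) 2 2 = 1 := by
    have : (g : Matrix (Fin 3) (Fin 3) F) 2 2 =
        1 * 1 * (g : Matrix (Fin 3) (Fin 3) F) 2 2 -
        1 * (g : Matrix (Fin 3) (Fin 3) F) 1 2 * 0 -
        (g : Matrix (Fin 3) (Fin 3) F) 0 1 * 0 * (g : Matrix (Fin 3) (Fin 3) F) 2 2 +
        (g : Matrix (Fin 3) (Fin 3) F) 0 1 * (g : Matrix (Fin 3) (Fin 3) F) 1 2 * 0 +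
        (g : Matrix (Fin 3) (Fin 3) F) 0 2 * 0 * 0 -
        (g : Matrix (Fin 3) (Fin 3) F) 0 2 * 1 * 0 := by ring
    rw [this]
    exact hdet
  apply Subtype.ext
  rw [h2_U_coe]
  ext i j
  fin_cases i <;> fin_cases j <;> simp [h10, h20, h21, h00, h11, h22]

theorem h2_mem_Q (g : SLn F 0) : g ∈ s_Q F 0 ↔ ∃ a b c : F, g = h2_U a b c := by
  rw [s_mem_Q]
  constructor
  · rintro ⟨h0, h1⟩
    rw [h2_mulVec_e0] at h0
    rw [h2_mulVec_e1, h2_mem_L0] at h1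
    have h00 := congrFun h0 0
    have h10 := congrFun h0 1
    have h20 := congrFun h0 2
    simp only [h2_e0_apply] at h00 h10 h20
    obtain ⟨h11, h21⟩ := h1
    simp only [Pi.sub_apply, h2_e1_apply] at h11 h21
    refine ⟨_, _, _, h2_eq_U g (by simpa using h10) (by simpa using h20) (by simpa using h21)
      (by simpa using h00) ?_⟩
    have : (g : Matrix (Fin 3) (Fin 3) F) 1 1 - 1 = 0 := by simpa using h11
    exact sub_eq_zero.mp this
  · rintro ⟨a, b, c, rfl⟩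
    constructor
    · rw [h2_mulVec_e0, h2_U_coe]
      ext i
      fin_cases i <;> simp [h2_e0_apply]
    · rw [h2_mulVec_e1, h2_mem_L0, h2_U_coe]
      simp [h2_e1_apply]

theorem h2_U_mem_Q (a b c : F) : h2_U a b c ∈ s_Q F 0 := (h2_mem_Q _).mpr ⟨a, b, c, rfl⟩

theorem h2_mem_RE (g : SLn F 0) : g ∈ s_RE F 0 ↔ ∃ b c : F, g = h2_U 0 b c := by
  unfold s_RE
  rw [Subgroup.mem_inf, s_mem_stabV, s_mem_stabV]
  constructor
  · rintro ⟨h0, h1⟩
    rw [h2_mulVec_e0] at h0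
    rw [h2_mulVec_e1] at h1
    have h00 := congrFun h0 0
    have h10 := congrFun h0 1
    have h20 := congrFun h0 2
    have h01 := congrFun h1 0
    have h11 := congrFun h1 1
    have h21 := congrFun h1 2
    simp only [h2_e0_apply, h2_e1_apply] at h00 h10 h20 h01 h11 h21
    have := h2_eq_U g (by simpa using h10) (by simpa using h20) (by simpa using h21)
      (by simpa using h00) (by simpa using h11)
    have h01' : (g : Matrix (Fin 3) (Fin 3) F) 0 1 = 0 := by simpa using h01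
    rw [h01'] at this
    exact ⟨_, _, this⟩
  · rintro ⟨b, c, rfl⟩
    constructor
    · rw [h2_mulVec_e0, h2_U_coe]
      ext i
      fin_cases i <;> simp [h2_e0_apply]
    · rw [h2_mulVec_e1, h2_U_coe]
      ext i
      fin_cases i <;> simp [h2_e1_apply]

theorem h2_U_mem_RE (b c : F) : h2_U 0 b c ∈ s_RE F 0 := (h2_mem_RE _).mpr ⟨b, c, rfl⟩

theorem h2_USL (φ : Fin 3 → F) :
    (Cfsg.Agent.Helper8.LS.USL φ : SLn F 0) = h2_U (φ 1) (φ 2) 0 := by
  apply Subtype.ext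
  rw [h2_U_coe]
  change Cfsg.Agent.Helper8.LS.Umat φ = _
  unfold Cfsg.Agent.Helper8.LS.Umat
  ext i j
  fin_cases i <;> fin_cases j <;>
    simp [Matrix.vecMulVec_apply, h2_e0_apply, Cfsg.Agent.Helper8.LS.z0]

theorem h2_mem_Bu (g : SLn F 0) : g ∈ s_Bu F 0 ↔ ∃ a b : F, g = h2_U a b 0 := by
  unfold s_Bu
  rw [MonoidHom.mem_range]
  constructor
  · rintro ⟨φ, rfl⟩
    refine ⟨(Multiplicative.toAdd φ) 1, (Multiplicative.toAdd φ) 2, ?_⟩
    exact h2_USL (Multiplicative.toAdd φ)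
  · rintro ⟨a, b, rfl⟩
    refine ⟨Multiplicative.ofAdd ![0, a, b], ?_⟩
    change Cfsg.Agent.Helper8.LS.USL ![0, a, b] = _
    rw [h2_USL]
    simp

theorem h2_U_mem_Bu (a b : F) : h2_U a b 0 ∈ s_Bu F 0 := (h2_mem_Bu _).mpr ⟨a, b, rfl⟩

/-! ### The two block embeddings of `SL_2` -/

/-- `A ↦ diag(A, 1)`. -/
def h2_ia : SpecialLinearGroup (Fin 2) F →* SLn F 0 where
  toFun A := ⟨!![A.1 0 0, A.1 0 1, 0; A.1 1 0, A.1 1 1, 0; 0, 0, 1], by
    have := A.2
    rw [Matrix.det_fin_two] at this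
    rw [Matrix.det_fin_three]
    simp only [Matrix.of_apply, Matrix.cons_val', Matrix.cons_val_zero, Matrix.cons_val_one]
    simp
    linear_combination this⟩
  map_one' := by
    apply Subtype.ext
    ext i j
    fin_cases i <;> fin_cases j <;> simp
  map_mul' A B := by
    apply Subtype.ext
    show (!![(A * B).1 0 0, (A * B).1 0 1, 0; (A * B).1 1 0, (A * B).1 1 1, 0; 0, 0, 1] :
        Matrix (Fin 3) (Fin 3) F) =
      !![A.1 0 0, A.1 0 1, 0; A.1 1 0, A.1 1 1, 0; 0, 0, 1] *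
        !![B.1 0 0, B.1 0 1, 0; B.1 1 0, B.1 1 1, 0; 0, 0, 1]
    have hAB : (A * B).1 = A.1 * B.1 := rfl
    rw [hAB]
    ext i j
    fin_cases i <;> fin_cases j <;>
      simp [Matrix.mul_apply, Fin.sum_univ_three, Fin.sum_univ_two]

theorem h2_ia_coe (A : SpecialLinearGroup (Fin 2) F) :
    ((h2_ia A : SLn F 0) : Matrix (Fin 3) (Fin 3) F) =
      !![A.1 0 0, A.1 0 1, 0; A.1 1 0, A.1 1 1, 0; 0, 0, 1] := rfl

/-- `A ↦ diag(1, A)`. -/
def h2_ib : SpecialLinearGroup (Fin 2) F →* SLn F 0 where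
  toFun A := ⟨!![1, 0, 0; 0, A.1 0 0, A.1 0 1; 0, A.1 1 0, A.1 1 1], by
    have := A.2
    rw [Matrix.det_fin_two] at this
    rw [Matrix.det_fin_three]
    simp only [Matrix.of_apply, Matrix.cons_val', Matrix.cons_val_zero, Matrix.cons_val_one]
    simp
    linear_combination this⟩
  map_one' := by
    apply Subtype.ext
    ext i j
    fin_cases i <;> fin_cases j <;> simp
  map_mul' A B := by
    apply Subtype.ext
    show (!![1, 0, 0; 0, (A * B).1 0 0, (A * B).1 0 1; 0, (A * B).1 1 0, (A * B).1 1 1] :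
        Matrix (Fin 3) (Fin 3) F) =
      !![1, 0, 0; 0, A.1 0 0, A.1 0 1; 0, A.1 1 0, A.1 1 1] *
        !![1, 0, 0; 0, B.1 0 0, B.1 0 1; 0, B.1 1 0, B.1 1 1]
    have hAB : (A * B).1 = A.1 * B.1 := rfl
    rw [hAB]
    ext i j
    fin_cases i <;> fin_cases j <;>
      simp [Matrix.mul_apply, Fin.sum_univ_three, Fin.sum_univ_two]

theorem h2_ib_coe (A : SpecialLinearGroup (Fin 2) F) :
    ((h2_ib A : SLn F 0) : Matrix (Fin 3) (Fin 3) F) =
      !![1, 0, 0; 0, A.1 0 0, A.1 0 1; 0, A.1 1 0, A.1 1 1] := rfl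

end Cfsg.Agent.SLMin
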