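import Mathlib
import Cfsg.Agent.SLMin.H2_N3
import Cfsg.Agent.SLMin.H5_Intertwiner

set_option autoImplicit false
set_option linter.unusedSectionVars false
set_option linter.unusedVariables false

/-!
# S2332, `n = 3`: `C_V(U)` one-dimensional ⇒ it is `B`-fixed (helper2)

Two applications of the `SL_2` intertwiner (S7, helper5), one for each simple reflection.
-/

namespace Cfsg.Agent.SLMin

open Matrix Module
open Cfsg.Agent.Helper8.SLTrans (e0 e1)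

variable {F : Type*} [Field F] [Fintype F] [DecidableEq F]
variable {V : Type*} [AddCommGroup V] [Module ℂ V] [FiniteDimensional ℂ V]

/-- The stabiliser of a vector in a representation. -/
def h2_stab {G : Type*} [Group G] (ρ : Representation ℂ G V) (y : V) : Subgroup G where
  carrier := {g | ρ g y = y}
  mul_mem' := by
    intro a b ha hb
    change ρ (a * b) y = y
    change ρ a y = y at ha
    change ρ b y = y at hb
    rw [map_mul, Module.End.mul_apply, hb, ha]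
  one_mem' := by
    change ρ 1 y = y
    rw [map_one, Module.End.one_apply]
  inv_mem' := by
    intro a ha
    change ρ a y = y at ha
    change ρ a⁻¹ y = y
    conv_lhs => rw [← ha]
    rw [← Module.End.mul_apply, ← map_mul, inv_mul_cancel, map_one, Module.End.one_apply]

theorem h2_mem_stab {G : Type*} [Group G] (ρ : Representation ℂ G V) (y : V) (g : G) :
    g ∈ h2_stab ρ y ↔ ρ g y = y := Iff.rfl

/-- If `g` normalises `H` then `ρ g` preserves `C_V(H)`. -/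
theorem h2_fix_stable {G : Type*} [Group G] (ρ : Representation ℂ G V) (H : Subgroup G) (g : G)
    (hg : ∀ h ∈ H, g⁻¹ * h * g ∈ H) (v : V) (hv : v ∈ s_fix ρ H) : ρ g v ∈ s_fix ρ H := by
  intro h hh
  have e : h * g = g * (g⁻¹ * h * g) := by group
  rw [← Module.End.mul_apply, ← map_mul, e, map_mul, Module.End.mul_apply, hv _ (hg h hh)]

/-- In a one-dimensional subspace every vector is a multiple of a given non-zero one. -/
theorem h2_exists_smul (S : Submodule ℂ V) (h1 : finrank ℂ S = 1) (y : V) (hy : y ∈ S)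
    (hy0 : y ≠ 0) (w : V) (hw : w ∈ S) : ∃ c : ℂ, w = c • y := by
  have hne : (⟨y, hy⟩ : S) ≠ 0 := by
    intro h
    exact hy0 (congrArg Subtype.val h)
  obtain ⟨c, hc⟩ := (finrank_eq_one_iff_of_nonzero' (⟨y, hy⟩ : S) hne).mp h1 ⟨w, hw⟩
  exact ⟨c, (congrArg Subtype.val hc).symm⟩

/-- The abstract torus argument: if `C_V(Q) = ℂ y`, `ι : SL_2 → G` with `x(b) ∈ Q`, `Q = x(F)·R`
with `R ≤ Q` normalised by `ι(SL_2)`, and torus elements `tt c` (eigenvalue `ϑ' c` on `y`) with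
`s⁻¹ (tt c) s = tt' c` having eigenvalue `ϑ c * ϑ' c`, then `ϑ = 1`. -/
theorem h2_key {G : Type*} [Group G] (ι : SpecialLinearGroup (Fin 2) F →* G)
    (ρ : Representation ℂ G V) (Q R : Subgroup G) (y : V) (hy0 : y ≠ 0)
    (hyQ : y ∈ s_fix ρ Q) (h1 : finrank ℂ (s_fix ρ Q) = 1)
    (hxQ : ∀ b : F, ι (s7_x b) ∈ Q) (hRQ : R ≤ Q)
    (hnorm : ∀ A : SpecialLinearGroup (Fin 2) F, ∀ r ∈ R, ∃ r' ∈ R, r * ι A = ι A * r')
    (hdec : ∀ g ∈ Q, ∃ b : F, ∃ r ∈ R, g = ι (s7_x b) * r)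
    (ϑ ϑ' : Fˣ → ℂ) (hh : ∀ a : Fˣ, ρ (ι (s7_h a)) y = ϑ a • y)
    (tt tt' : Fˣ → G) (rr : Fˣ → Fˣ)
    (hconj : ∀ (c : Fˣ) (b : F), tt c * ι (s7_x b) = ι (s7_x ((rr c : F) * b)) * tt c)
    (hs : ∀ c : Fˣ, tt c * ι s7_s = ι s7_s * tt' c)
    (ht : ∀ c : Fˣ, ρ (tt c) y = ϑ' c • y)
    (ht' : ∀ c : Fˣ, ρ (tt' c) y = (ϑ c * ϑ' c) • y) :
    ∀ a : Fˣ, ϑ a = 1 := by
  by_contra hcon
  rw [not_forall] at hcon
  have hx : ∀ b : F, ρ (ι (s7_x b)) y = y := fun b => hyQ _ (hxQ b)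
  obtain ⟨hys0, hysx⟩ := s7_intertwiner ι ρ y hy0 hx ϑ hh hcon
  set ys : V := ∑ b : F, ρ (ι (s7_x b * s7_s)) y with hys
  -- `ys` is fixed by `R`
  have hysR : ∀ r ∈ R, ρ r ys = ys := by
    intro r hr
    rw [hys, map_sum]
    refine Finset.sum_congr rfl (fun b _ => ?_)
    obtain ⟨r', hr', e⟩ := hnorm (s7_x b * s7_s) r hr
    rw [← Module.End.mul_apply, ← map_mul, e, map_mul, Module.End.mul_apply, hyQ _ (hRQ hr')]
  -- hence by `Q`
  have hysQ : ys ∈ s_fix ρ Q := by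
    intro g hg
    obtain ⟨b, r, hr, rfl⟩ := hdec g hg
    rw [map_mul, Module.End.mul_apply, hysR r hr, hysx b]
  obtain ⟨c0, hc0⟩ := h2_exists_smul _ h1 y hyQ hy0 ys hysQ
  -- the torus comparison
  have hall : ∀ c : Fˣ, ϑ c = 1 := by
    intro c
    have h1' := s7_torus ι ρ y (tt c) (tt' c) (rr c) (hconj c) (hs c) (ϑ c * ϑ' c) (ht' c)
    rw [← hys] at h1'
    have h2' : ρ (tt c) ys = ϑ' c • ys := by
      rw [hc0, map_smul, ht c, smul_comm]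
    rw [h2'] at h1'
    have h3 : (ϑ' c - ϑ c * ϑ' c) • ys = 0 := by
      rw [sub_smul, h1', sub_self]
    rcases smul_eq_zero.mp h3 with h4 | h4
    · have hϑ' : ϑ' c ≠ 0 := by
        intro h0
        have h5 := ht c
        rw [h0, zero_smul] at h5
        have h6 : ρ (tt c)⁻¹ (ρ (tt c) y) = y := by
          rw [← Module.End.mul_apply, ← map_mul, inv_mul_cancel, map_one, Module.End.one_apply]
        rw [h5, map_zero] at h6
        exact hy0 h6.symm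
      have h7 : ϑ' c * (1 - ϑ c) = 0 := by
        rw [← h4]
        ring
      rcases mul_eq_zero.mp h7 with h8 | h8
      · exact absurd h8 hϑ'
      · exact (sub_eq_zero.mp h8).symm
    · exact absurd h4 hys0
  obtain ⟨a, ha⟩ := hcon
  exact ha (hall a)

/-! ### Explicit identities in `SL_3` -/

theorem h2_ia_x (b : F) : h2_ia (s7_x b) = h2_U b 0 0 := by
  apply Subtype.ext
  rw [h2_ia_coe, h2_U_coe]
  ext i j
  fin_cases i <;> fin_cases j <;> simp [s7_x]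

theorem h2_ib_x (b : F) : h2_ib (s7_x b) = h2_U 0 0 b := by
  apply Subtype.ext
  rw [h2_ib_coe, h2_U_coe]
  ext i j
  fin_cases i <;> fin_cases j <;> simp [s7_x]

theorem h2_norm_a (A : SpecialLinearGroup (Fin 2) F) (b c : F) :
    h2_U 0 b c * h2_ia A =
      h2_ia A * h2_U 0 (A.1 1 1 * b - A.1 0 1 * c) (-(A.1 1 0 * b) + A.1 0 0 * c) := by
  have hdet := A.2
  rw [Matrix.det_fin_two] at hdet
  apply Subtype.ext
  rw [s_coe_mul, s_coe_mul, h2_ia_coe, h2_U_coe, h2_U_coe]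
  ext i j
  fin_cases i <;> fin_cases j <;> simp [Matrix.mul_apply, Fin.sum_univ_three]
  · linear_combination (-b) * hdet
  · linear_combination (-c) * hdet

theorem h2_norm_b (A : SpecialLinearGroup (Fin 2) F) (a b : F) :
    h2_U a b 0 * h2_ib A =
      h2_ib A * h2_U (a * A.1 0 0 + b * A.1 1 0) (a * A.1 0 1 + b * A.1 1 1) 0 := by
  apply Subtype.ext
  rw [s_coe_mul, s_coe_mul, h2_ib_coe, h2_U_coe, h2_U_coe]
  ext i j
  fin_cases i <;> fin_cases j <;> simp [Matrix.mul_apply, Fin.sum_univ_three]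

theorem h2_ia_h_coe (a : Fˣ) : ((h2_ia (s7_h a) : SLn F 0) : Matrix (Fin 3) (Fin 3) F) =
    !![(a : F), 0, 0; 0, ((a⁻¹ : Fˣ) : F), 0; 0, 0, 1] := by
  rw [h2_ia_coe]
  ext i j
  fin_cases i <;> fin_cases j <;> simp [s7_h]

theorem h2_ib_h_coe (a : Fˣ) : ((h2_ib (s7_h a) : SLn F 0) : Matrix (Fin 3) (Fin 3) F) =
    !![1, 0, 0; 0, (a : F), 0; 0, 0, ((a⁻¹ : Fˣ) : F)] := by
  rw [h2_ib_coe]
  ext i j
  fin_cases i <;> fin_cases j <;> simp [s7_h]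

theorem h2_ia_s_coe : ((h2_ia (s7_s (F := F)) : SLn F 0) : Matrix (Fin 3) (Fin 3) F) =
    !![0, 1, 0; -1, 0, 0; 0, 0, 1] := by
  rw [h2_ia_coe]
  ext i j
  fin_cases i <;> fin_cases j <;> simp [s7_s]

theorem h2_ib_s_coe : ((h2_ib (s7_s (F := F)) : SLn F 0) : Matrix (Fin 3) (Fin 3) F) =
    !![1, 0, 0; 0, 0, 1; 0, -1, 0] := by
  rw [h2_ib_coe]
  ext i j
  fin_cases i <;> fin_cases j <;> simp [s7_s]

/-- `diag(1,c,c⁻¹) x_α(b) = x_α(c⁻¹ b) diag(1,c,c⁻¹)`. -/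
theorem h2_conj_a (c : Fˣ) (b : F) :
    h2_ib (s7_h c) * h2_ia (s7_x b) = h2_ia (s7_x (((c⁻¹ : Fˣ) : F) * b)) * h2_ib (s7_h c) := by
  rw [h2_ia_x, h2_ia_x]
  apply Subtype.ext
  rw [s_coe_mul, s_coe_mul, h2_ib_h_coe, h2_U_coe, h2_U_coe]
  ext i j
  fin_cases i <;> fin_cases j <;> simp [Matrix.mul_apply, Fin.sum_univ_three]
  field_simp

/-- `diag(c,c⁻¹,1) x_β(b) = x_β(c⁻¹ b) diag(c,c⁻¹,1)`. -/
theorem h2_conj_b (c : Fˣ) (b : F) :
    h2_ia (s7_h c) * h2_ib (s7_x b) = h2_ib (s7_x (((c⁻¹ : Fˣ) : F) * b)) * h2_ia (s7_h c) := by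
  rw [h2_ib_x, h2_ib_x]
  apply Subtype.ext
  rw [s_coe_mul, s_coe_mul, h2_ia_h_coe, h2_U_coe, h2_U_coe]
  ext i j
  fin_cases i <;> fin_cases j <;> simp [Matrix.mul_apply, Fin.sum_univ_three]

theorem h2_s_a (c : Fˣ) :
    h2_ib (s7_h c) * h2_ia (s7_s (F := F)) =
      h2_ia s7_s * (h2_ia (s7_h c) * h2_ib (s7_h c)) := by
  apply Subtype.ext
  rw [s_coe_mul, s_coe_mul, s_coe_mul, h2_ib_h_coe, h2_ia_h_coe, h2_ia_s_coe]
  ext i j
  fin_cases i <;> fin_cases j <;> simp [Matrix.mul_apply, Fin.sum_univ_three]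

theorem h2_s_b (c : Fˣ) :
    h2_ia (s7_h c) * h2_ib (s7_s (F := F)) =
      h2_ib s7_s * (h2_ia (s7_h c) * h2_ib (s7_h c)) := by
  apply Subtype.ext
  rw [s_coe_mul, s_coe_mul, s_coe_mul, h2_ib_h_coe, h2_ia_h_coe, h2_ib_s_coe]
  ext i j
  fin_cases i <;> fin_cases j <;> simp [Matrix.mul_apply, Fin.sum_univ_three]

theorem h2_hdec_a (a b c : F) : h2_U a b c = h2_ia (s7_x a) * h2_U 0 (b - a * c) c := by
  rw [h2_ia_x, h2_U_mul]
  congr 1 <;> ring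

theorem h2_hdec_b (a b c : F) : h2_U a b c = h2_ib (s7_x c) * h2_U a b 0 := by
  rw [h2_ib_x, h2_U_mul]
  congr 1 <;> ring

theorem h2_U_mul_ia_h (x y z : F) (a : Fˣ) :
    h2_U x y z * h2_ia (s7_h a) =
      h2_ia (s7_h a) * h2_U (x * ((a⁻¹ : Fˣ) : F) * ((a⁻¹ : Fˣ) : F)) (y * ((a⁻¹ : Fˣ) : F))
        (z * (a : F)) := by
  apply Subtype.ext
  rw [s_coe_mul, s_coe_mul, h2_ia_h_coe, h2_U_coe, h2_U_coe]
  ext i j
  fin_cases i <;> fin_cases j <;> simp [Matrix.mul_apply, Fin.sum_univ_three]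
  all_goals field_simp

theorem h2_U_mul_ib_h (x y z : F) (a : Fˣ) :
    h2_U x y z * h2_ib (s7_h a) =
      h2_ib (s7_h a) * h2_U (x * (a : F)) (y * ((a⁻¹ : Fˣ) : F))
        (z * ((a⁻¹ : Fˣ) : F) * ((a⁻¹ : Fˣ) : F)) := by
  apply Subtype.ext
  rw [s_coe_mul, s_coe_mul, h2_ib_h_coe, h2_U_coe, h2_U_coe]
  ext i j
  fin_cases i <;> fin_cases j <;> simp [Matrix.mul_apply, Fin.sum_univ_three]
  all_goals field_simp

theorem h2_normQ_a (a : Fˣ) : ∀ h ∈ s_Q F 0, (h2_ia (s7_h a))⁻¹ * h * h2_ia (s7_h a) ∈ s_Q F 0 := by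
  intro h hh
  obtain ⟨x, y, z, rfl⟩ := (h2_mem_Q h).mp hh
  rw [mul_assoc, h2_U_mul_ia_h, ← mul_assoc, inv_mul_cancel, one_mul]
  exact h2_U_mem_Q _ _ _

theorem h2_normQ_b (a : Fˣ) : ∀ h ∈ s_Q F 0, (h2_ib (s7_h a))⁻¹ * h * h2_ib (s7_h a) ∈ s_Q F 0 := by
  intro h hh
  obtain ⟨x, y, z, rfl⟩ := (h2_mem_Q h).mp hh
  rw [mul_assoc, h2_U_mul_ib_h, ← mul_assoc, inv_mul_cancel, one_mul]
  exact h2_U_mem_Q _ _ _

/-- An element of the Borel subgroup is `diag · unitriangular`. -/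
theorem h2_P_decomp (g : SLn F 0) (hg : g ∈ s_P F 0) :
    ∃ (a c : Fˣ) (x y z : F), g = h2_ia (s7_h a) * h2_ib (s7_h c) * h2_U x y z := by
  unfold s_P at hg
  rw [Subgroup.mem_inf, s_mem_stabS, s_mem_stabS] at hg
  obtain ⟨hL, hE⟩ := hg
  have hL0 : e0 F 0 ∈ s_L0 F 0 := by
    rw [h2_mem_L0]
    simp [h2_e0_apply]
  have hE1 : e1 F 0 ∈ s_E F 0 := by
    rw [h2_mem_E]
    simp [h2_e1_apply]
  have h1 := (hL (e0 F 0)).mpr hL0
  rw [h2_mulVec_e0, h2_mem_L0] at h1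
  obtain ⟨h10, h20⟩ := h1
  have h2 := (hE (e1 F 0)).mpr hE1
  rw [h2_mulVec_e1, h2_mem_E] at h2
  have hdet := g.2
  rw [Matrix.det_fin_three, h10, h20, h2] at hdet
  have hprod : (g : Matrix (Fin 3) (Fin 3) F) 0 0 * (g : Matrix (Fin 3) (Fin 3) F) 1 1 *
      (g : Matrix (Fin 3) (Fin 3) F) 2 2 = 1 := by
    linear_combination hdet
  have h00 : (g : Matrix (Fin 3) (Fin 3) F) 0 0 ≠ 0 := by
    intro h
    rw [h, zero_mul, zero_mul] at hprod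
    exact zero_ne_one hprod
  have h11 : (g : Matrix (Fin 3) (Fin 3) F) 1 1 ≠ 0 := by
    intro h
    rw [h, mul_zero, zero_mul] at hprod
    exact zero_ne_one hprod
  have h22 : (g : Matrix (Fin 3) (Fin 3) F) 2 2 ≠ 0 := by
    intro h
    rw [h, mul_zero] at hprod
    exact zero_ne_one hprod
  have h11' : ((g : Matrix (Fin 3) (Fin 3) F) 0 0)⁻¹ * ((g : Matrix (Fin 3) (Fin 3) F) 2 2)⁻¹ =
      (g : Matrix (Fin 3) (Fin 3) F) 1 1 := by
    field_simp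
    linear_combination (-1 : F) * hprod
  refine ⟨Units.mk0 _ h00, (Units.mk0 _ h22)⁻¹,
    (g : Matrix (Fin 3) (Fin 3) F) 0 1 / (g : Matrix (Fin 3) (Fin 3) F) 0 0,
    (g : Matrix (Fin 3) (Fin 3) F) 0 2 / (g : Matrix (Fin 3) (Fin 3) F) 0 0,
    (g : Matrix (Fin 3) (Fin 3) F) 1 2 / (g : Matrix (Fin 3) (Fin 3) F) 1 1, ?_⟩
  apply Subtype.ext
  rw [s_coe_mul, s_coe_mul, h2_ia_h_coe, h2_ib_h_coe, h2_U_coe]
  ext i j
  fin_cases i <;> fin_cases j <;>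
    simp [Matrix.mul_apply, Fin.sum_univ_three, h10, h20, h2]
  · field_simp
  · field_simp
  · exact h11'.symm
  · rw [h11']
    field_simp

/-- `n = 3` (`m = 0`): `C_V(Q) = C_V(U)` one-dimensional ⇒ it is `B`-fixed (two intertwiners). -/
theorem s8_B_fixed (ρ : Representation ℂ (SLn F 0) V)
    (hk : finrank ℂ (s_fix ρ (s_Q F 0)) = 1) :
    s_fix ρ (s_Q F 0) ≤ s_fix ρ (s_P F 0) := by
  have hne : s_fix ρ (s_Q F 0) ≠ ⊥ := by
    intro h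
    rw [h, finrank_bot] at hk
    exact zero_ne_one hk
  obtain ⟨y, hyQ, hy0⟩ := Submodule.exists_mem_ne_zero_of_ne_bot hne
  have hEa : ∀ a : Fˣ, ∃ c : ℂ, ρ (h2_ia (s7_h a)) y = c • y := fun a =>
    h2_exists_smul _ hk y hyQ hy0 _ (h2_fix_stable ρ _ _ (h2_normQ_a a) y hyQ)
  have hEb : ∀ a : Fˣ, ∃ c : ℂ, ρ (h2_ib (s7_h a)) y = c • y := fun a =>
    h2_exists_smul _ hk y hyQ hy0 _ (h2_fix_stable ρ _ _ (h2_normQ_b a) y hyQ)
  choose ϑa hϑa using hEa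
  choose ϑb hϑb using hEb
  have hREQ : s_RE F 0 ≤ s_Q F 0 := by
    intro g hg
    obtain ⟨b, c, rfl⟩ := (h2_mem_RE g).mp hg
    exact h2_U_mem_Q _ _ _
  have hBuQ : s_Bu F 0 ≤ s_Q F 0 := by
    intro g hg
    obtain ⟨a, b, rfl⟩ := (h2_mem_Bu g).mp hg
    exact h2_U_mem_Q _ _ _
  have hab : ∀ c : Fˣ, ρ (h2_ia (s7_h c) * h2_ib (s7_h c)) y = (ϑa c * ϑb c) • y := by
    intro c
    rw [map_mul, Module.End.mul_apply, hϑb, map_smul, hϑa, smul_smul, mul_comm]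
  have hba : ∀ c : Fˣ, ρ (h2_ia (s7_h c) * h2_ib (s7_h c)) y = (ϑb c * ϑa c) • y := by
    intro c
    rw [hab, mul_comm]
  have hA : ∀ a : Fˣ, ϑa a = 1 := by
    refine h2_key h2_ia ρ (s_Q F 0) (s_RE F 0) y hy0 hyQ hk ?_ hREQ ?_ ?_ ϑa ϑb hϑa
      (fun c => h2_ib (s7_h c)) (fun c => h2_ia (s7_h c) * h2_ib (s7_h c)) (fun c => c⁻¹)
      h2_conj_a h2_s_a hϑb hab
    · intro b
      rw [h2_ia_x]
      exact h2_U_mem_Q _ _ _
    · intro A r hr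
      obtain ⟨b, c, rfl⟩ := (h2_mem_RE r).mp hr
      exact ⟨_, h2_U_mem_RE _ _, h2_norm_a A b c⟩
    · intro g hg
      obtain ⟨a, b, c, rfl⟩ := (h2_mem_Q g).mp hg
      exact ⟨a, _, h2_U_mem_RE _ _, h2_hdec_a a b c⟩
  have hB : ∀ a : Fˣ, ϑb a = 1 := by
    refine h2_key h2_ib ρ (s_Q F 0) (s_Bu F 0) y hy0 hyQ hk ?_ hBuQ ?_ ?_ ϑb ϑa hϑb
      (fun c => h2_ia (s7_h c)) (fun c => h2_ia (s7_h c) * h2_ib (s7_h c)) (fun c => c⁻¹)
      h2_conj_b h2_s_b hϑa hba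
    · intro b
      rw [h2_ib_x]
      exact h2_U_mem_Q _ _ _
    · intro A r hr
      obtain ⟨a, b, rfl⟩ := (h2_mem_Bu r).mp hr
      exact ⟨_, h2_U_mem_Bu _ _, h2_norm_b A a b⟩
    · intro g hg
      obtain ⟨a, b, c, rfl⟩ := (h2_mem_Q g).mp hg
      exact ⟨c, _, h2_U_mem_Bu _ _, h2_hdec_b a b c⟩
  -- `y` is fixed by `P`
  have hyP : y ∈ s_fix ρ (s_P F 0) := by
    intro g hg
    obtain ⟨a, c, x, y', z, rfl⟩ := h2_P_decomp g hg
    have h1 : h2_ia (s7_h a) ∈ h2_stab ρ y := by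
      rw [h2_mem_stab, hϑa, hA, one_smul]
    have h2 : h2_ib (s7_h c) ∈ h2_stab ρ y := by
      rw [h2_mem_stab, hϑb, hB, one_smul]
    have h3 : h2_U x y' z ∈ h2_stab ρ y := hyQ _ (h2_U_mem_Q _ _ _)
    exact (h2_stab ρ y).mul_mem ((h2_stab ρ y).mul_mem h1 h2) h3
  intro v hv
  obtain ⟨c, rfl⟩ := h2_exists_smul _ hk y hyQ hy0 v hv
  exact (s_fix ρ (s_P F 0)).smul_mem c hyP

end Cfsg.Agent.SLMin
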