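import Mathlib
import Cfsg.Agent.SLMin.H2_N3

set_option autoImplicit false
set_option linter.unusedSectionVars false
set_option linter.unusedVariables false

/-!
# S2332, Theorem B for `n = 3` (helper2)

`R^E = {h2_U 0 b c}`; `h2_U 0 b 0 ∈ B^u` acts on the weight line `L = wt(t e1)` by `ψ(0) = 1`; the
root group `X = {h2_U 0 0 c}` acts on `L` by a character `ν`; the torus `diag(a, a, a⁻²)` fixes
the weight and conjugates `X(c)` to `X(a³ c)`, hence `ν((a³ − 1) c) = 1`; some `a` has `a³ ≠ 1`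
because `q ∉ {2, 4}`.
-/

namespace Cfsg.Agent.SLMin

open Matrix Module
open Cfsg.Agent.Helper8.SLTrans (e0 e1)

variable {F : Type*} [Field F]
variable {V : Type*} [AddCommGroup V] [Module ℂ V]

theorem h2_rho_mul {G : Type*} [Group G] (ρ : Representation ℂ G V) (g h : G) (v : V) :
    ρ (g * h) v = ρ g (ρ h v) := by
  rw [map_mul, Module.End.mul_apply]

theorem h2_z0_dot_e1 (φ : Fin 3 → F) (t : F) :
    Cfsg.Agent.Helper8.LS.z0 φ ⬝ᵥ (t • e1 F 0) = t * φ 1 := by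
  simp [dotProduct, h2_e1_apply, Cfsg.Agent.Helper8.LS.z0, mul_comm]

/-- The weight space of `t e1` in the coordinates `h2_U a b 0` of `B^u`. -/
theorem h2_mem_wt_e1 (ψ : Multiplicative F →* ℂˣ) (ρ : Representation ℂ (SLn F 0) V) (t : F)
    (v : V) : v ∈ s_wt ψ ρ (t • e1 F 0) ↔
      ∀ a b : F, ρ (h2_U a b 0) v = ((ψ (Multiplicative.ofAdd (t * a)) : ℂˣ) : ℂ) • v := by
  rw [s_mem_wt]
  constructor
  · intro h a b
    have := h ![0, a, b]
    rw [h2_USL, h2_z0_dot_e1] at this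
    simpa using this
  · intro h φ
    rw [h2_USL, h2_z0_dot_e1]
    exact h (φ 1) (φ 2)

/-- `diag(a, a, a⁻²)`. -/
def h2_D (a : Fˣ) : SLn F 0 :=
  ⟨!![(a : F), 0, 0; 0, (a : F), 0; 0, 0, ((a⁻¹ : Fˣ) : F) * ((a⁻¹ : Fˣ) : F)], by
    have ha : (a : F) ≠ 0 := a.ne_zero
    rw [Matrix.det_fin_three]
    simp
    field_simp⟩

theorem h2_D_coe (a : Fˣ) : ((h2_D a : SLn F 0) : Matrix (Fin 3) (Fin 3) F) =
    !![(a : F), 0, 0; 0, (a : F), 0; 0, 0, ((a⁻¹ : Fˣ) : F) * ((a⁻¹ : Fˣ) : F)] := rfl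

theorem h2_U_mul_X (a b c : F) : h2_U a b 0 * h2_U 0 0 c = h2_U 0 0 c * h2_U a (b + a * c) 0 := by
  rw [h2_U_mul, h2_U_mul]
  congr 1 <;> ring

theorem h2_U_mul_D (x y : F) (a : Fˣ) :
    h2_U x y 0 * h2_D a =
      h2_D a * h2_U x (y * (((a⁻¹ : Fˣ) : F) * ((a⁻¹ : Fˣ) : F) * ((a⁻¹ : Fˣ) : F))) 0 := by
  apply Subtype.ext
  rw [s_coe_mul, s_coe_mul, h2_D_coe, h2_U_coe, h2_U_coe]
  ext i j
  fin_cases i <;> fin_cases j <;> simp [Matrix.mul_apply, Fin.sum_univ_three]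
  all_goals field_simp

theorem h2_D_mul_X (a : Fˣ) (c : F) :
    h2_D a * h2_U 0 0 c = h2_U 0 0 ((a : F) * (a : F) * (a : F) * c) * h2_D a := by
  apply Subtype.ext
  rw [s_coe_mul, s_coe_mul, h2_D_coe, h2_U_coe, h2_U_coe]
  ext i j
  fin_cases i <;> fin_cases j <;> simp [Matrix.mul_apply, Fin.sum_univ_three]
  all_goals field_simp

/-- The root group `X = {h2_U 0 0 c}` preserves the weight space of `t e1`. -/
theorem h2_X_wt (ψ : Multiplicative F →* ℂˣ) (ρ : Representation ℂ (SLn F 0) V) (t c : F)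
    (v : V) (hv : v ∈ s_wt ψ ρ (t • e1 F 0)) : ρ (h2_U 0 0 c) v ∈ s_wt ψ ρ (t • e1 F 0) := by
  rw [h2_mem_wt_e1] at hv ⊢
  intro a b
  rw [← h2_rho_mul, h2_U_mul_X, h2_rho_mul, hv, map_smul]

/-- The torus `diag(a, a, a⁻²)` preserves the weight space of `t e1`. -/
theorem h2_D_wt (ψ : Multiplicative F →* ℂˣ) (ρ : Representation ℂ (SLn F 0) V) (t : F) (a : Fˣ)
    (v : V) (hv : v ∈ s_wt ψ ρ (t • e1 F 0)) : ρ (h2_D a) v ∈ s_wt ψ ρ (t • e1 F 0) := by
  rw [h2_mem_wt_e1] at hv ⊢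
  intro x y
  rw [← h2_rho_mul, h2_U_mul_D, h2_rho_mul, hv, map_smul]

theorem h2_rho_injective {G : Type*} [Group G] (ρ : Representation ℂ G V) (g : G) (v : V)
    (h : ρ g v = 0) : v = 0 := by
  have : ρ g⁻¹ (ρ g v) = v := by
    rw [← h2_rho_mul, inv_mul_cancel, map_one, Module.End.one_apply]
  rw [h, map_zero] at this
  exact this.symm

/-- Some unit has a non-trivial cube unless `q ∈ {2, 4}`. -/
theorem h2_exists_cube_ne_one [Fintype F] (h2 : Fintype.card F ≠ 2) (h4 : Fintype.card F ≠ 4) :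
    ∃ a : Fˣ, (a : F) * (a : F) * (a : F) ≠ 1 := by
  classical
  by_contra hcon
  rw [not_exists] at hcon
  obtain ⟨g, hg⟩ := IsCyclic.exists_generator (α := Fˣ)
  have hord : orderOf g = Fintype.card F - 1 := by
    rw [orderOf_eq_card_of_forall_mem_zpowers hg, Nat.card_eq_fintype_card, Fintype.card_units]
  have hg3 : g ^ 3 = 1 := by
    have := hcon g
    rw [not_not] at this
    apply Units.ext
    rw [Units.val_pow_eq_pow_val, Units.val_one, ← this]
    ring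
  have hdvd : Fintype.card F - 1 ∣ 3 := by
    rw [← hord]
    exact orderOf_dvd_of_pow_eq_one hg3
  have hle := Nat.le_of_dvd (by norm_num) hdvd
  have hcard : 2 ≤ Fintype.card F := Fintype.one_lt_card
  have h3 : Fintype.card F - 1 ≠ 2 := by
    intro h
    rw [h] at hdvd
    norm_num at hdvd
  omega

variable [FiniteDimensional ℂ V]

/-- Theorem B for `n = 3` (`= s4_thmB` at `m = 0`). -/
theorem h2_thmB_n3 [Fintype F] [DecidableEq F] (ρ : Representation ℂ (SLn F 0) V)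
    (ψ : Multiplicative F →* ℂˣ)
    (hgood : s_good 0 (Fintype.card F)) (t : F) (ht : t ≠ 0)
    (h1 : finrank ℂ (s_wt ψ ρ (t • e1 F 0)) = 1) :
    s_wt ψ ρ (t • e1 F 0) ≤ s_fix ρ (s_RE F 0) := by
  obtain ⟨a, ha⟩ := h2_exists_cube_ne_one (F := F)
    (fun h => hgood.1 (by rw [h])) (fun h => hgood.2.1 (by rw [h]))
  -- a generator of the line
  have hne : s_wt ψ ρ (t • e1 F 0) ≠ ⊥ := by
    intro h
    rw [h, finrank_bot] at h1
    exact zero_ne_one h1
  obtain ⟨v0, hv0, hv00⟩ := Submodule.exists_mem_ne_zero_of_ne_bot hne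
  have hsmul : ∀ w ∈ s_wt ψ ρ (t • e1 F 0), ∃ c : ℂ, w = c • v0 := by
    intro w hw
    have hne' : (⟨v0, hv0⟩ : s_wt ψ ρ (t • e1 F 0)) ≠ 0 := by
      intro h
      exact hv00 (congrArg Subtype.val h)
    obtain ⟨c, hc⟩ := (finrank_eq_one_iff_of_nonzero' (⟨v0, hv0⟩ : s_wt ψ ρ (t • e1 F 0)) hne').mp h1
      ⟨w, hw⟩
    exact ⟨c, (congrArg Subtype.val hc).symm⟩
  have hX : ∀ c : F, ∃ ν : ℂ, ρ (h2_U 0 0 c) v0 = ν • v0 := fun c =>
    hsmul _ (h2_X_wt ψ ρ t c v0 hv0)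
  have hD : ∃ μ : ℂ, ρ (h2_D a) v0 = μ • v0 := hsmul _ (h2_D_wt ψ ρ t a v0 hv0)
  choose ν hν using hX
  obtain ⟨μ, hμ⟩ := hD
  have hμ0 : μ ≠ 0 := by
    intro h
    rw [h, zero_smul] at hμ
    exact hv00 (h2_rho_injective ρ _ _ hμ)
  have hν0 : ∀ c, ν c ≠ 0 := by
    intro c h
    have := hν c
    rw [h, zero_smul] at this
    exact hv00 (h2_rho_injective ρ _ _ this)
  -- `ν (a³ c) = ν c`
  have hinv : ∀ c : F, ν ((a : F) * (a : F) * (a : F) * c) = ν c := by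
    intro c
    have e1' : ρ (h2_D a * h2_U 0 0 c) v0 = (ν c * μ) • v0 := by
      rw [h2_rho_mul, hν, map_smul, hμ, smul_smul]
    have e2' : ρ (h2_U 0 0 ((a : F) * (a : F) * (a : F) * c) * h2_D a) v0 =
        (μ * ν ((a : F) * (a : F) * (a : F) * c)) • v0 := by
      rw [h2_rho_mul, hμ, map_smul, hν, smul_smul]
    rw [h2_D_mul_X, e2'] at e1'
    have e3 : (μ * ν ((a : F) * (a : F) * (a : F) * c) - ν c * μ) • v0 = 0 := by
      rw [sub_smul, e1', sub_self]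
    rcases smul_eq_zero.mp e3 with h | h
    · have : μ * (ν ((a : F) * (a : F) * (a : F) * c) - ν c) = 0 := by
        rw [← h]
        ring
      rcases mul_eq_zero.mp this with h' | h'
      · exact absurd h' hμ0
      · exact sub_eq_zero.mp h'
    · exact absurd h hv00
  -- `ν` is multiplicative
  have hmul : ∀ c c' : F, ν (c + c') = ν c * ν c' := by
    intro c c'
    have e : h2_U (0 : F) 0 (c + c') = h2_U 0 0 c * h2_U 0 0 c' := by
      rw [h2_U_mul]
      congr 1 <;> ring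
    have e1' := hν (c + c')
    rw [e, h2_rho_mul, hν, map_smul, hν, smul_smul] at e1'
    have e3 : (ν c' * ν c - ν (c + c')) • v0 = 0 := by
      rw [sub_smul, e1', sub_self]
    rcases smul_eq_zero.mp e3 with h | h
    · linear_combination (-1 : ℂ) * h
    · exact absurd h hv00
  -- `ν = 1`
  have hν1 : ∀ d : F, ν d = 1 := by
    intro d
    have hne3 : (a : F) * (a : F) * (a : F) - 1 ≠ 0 := sub_ne_zero.mpr ha
    set c : F := d / ((a : F) * (a : F) * (a : F) - 1) with hc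
    have hcd : c * ((a : F) * (a : F) * (a : F) - 1) = d := div_mul_cancel₀ d hne3
    have hd : (a : F) * (a : F) * (a : F) * c = d + c := by
      linear_combination hcd
    have := hinv c
    rw [hd, hmul] at this
    have h5 : (ν d - 1) * ν c = 0 := by
      rw [sub_mul, this, one_mul, sub_self]
    rcases mul_eq_zero.mp h5 with h | h
    · exact sub_eq_zero.mp h
    · exact absurd h (hν0 c)
  -- conclusion
  have hv0fix : v0 ∈ s_fix ρ (s_RE F 0) := by
    intro r hr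
    obtain ⟨b, c, rfl⟩ := (h2_mem_RE r).mp hr
    have e : h2_U (0 : F) b c = h2_U 0 b 0 * h2_U 0 0 c := by
      rw [h2_U_mul]
      congr 1 <;> ring
    rw [e, h2_rho_mul, hν, hν1, one_smul, (h2_mem_wt_e1 ψ ρ t v0).mp hv0 0 b, mul_zero]
    simp
  intro w hw
  obtain ⟨c, rfl⟩ := hsmul w hw
  exact (s_fix ρ (s_RE F 0)).smul_mem c hv0fix

end Cfsg.Agent.SLMin
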