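import Mathlib
import Cfsg.Agent.SLMin.H3_Defs
import Cfsg.Agent.MinIdx.H8_Conj

set_option autoImplicit false
set_option linter.unusedSectionVars false
set_option linter.unusedVariables false

/-!
S2332, piece S5 (helper6): common lemmas — averaging operator over a subgroup, the action of
`USL φ` on vectors, membership in `R^E`.
-/

namespace Cfsg.Agent.SLMin

open Matrix Module
open Cfsg.Agent.Helper8.SLTrans (e0 e1)
open Cfsg.Agent.Helper8.LS (USL z0 z0_dot_e0 z0_zero z0_succ)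
open Cfsg.Agent.MinIdx (h8_tv h8_tvM h8_tv_mulVec)

section general

variable {G : Type*} [Group G] {V : Type*} [AddCommGroup V] [Module ℂ V]

theorem h6_rho_mul (ρ : Representation ℂ G V) (a b : G) (v : V) :
    ρ (a * b) v = ρ a (ρ b v) := by
  rw [map_mul]
  rfl

theorem h6_rho_inv_self (ρ : Representation ℂ G V) (a : G) (v : V) :
    ρ a⁻¹ (ρ a v) = v := by
  rw [← h6_rho_mul, inv_mul_cancel, map_one]
  rfl

theorem h6_rho_self_inv (ρ : Representation ℂ G V) (a : G) (v : V) :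
    ρ a (ρ a⁻¹ v) = v := by
  rw [← h6_rho_mul, mul_inv_cancel, map_one]
  rfl

open scoped Classical in
/-- the (un-normalised) averaging operator `Σ_{r ∈ H} ρ(r)`. -/
noncomputable def h6_avg [Fintype G] (ρ : Representation ℂ G V) (H : Subgroup G) : V →ₗ[ℂ] V :=
  ∑ r ∈ Finset.univ.filter (fun r => r ∈ H), ρ r

open scoped Classical in
theorem h6_avg_apply [Fintype G] (ρ : Representation ℂ G V) (H : Subgroup G) (v : V) :
    h6_avg ρ H v = ∑ r ∈ Finset.univ.filter (fun r => r ∈ H), ρ r v := by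
  unfold h6_avg
  rw [LinearMap.sum_apply]

theorem h6_avg_mem_fix [Fintype G] (ρ : Representation ℂ G V) (H : Subgroup G) (v : V) :
    h6_avg ρ H v ∈ s_fix ρ H := by
  classical
  intro h hh
  rw [h6_avg_apply, map_sum]
  refine Finset.sum_nbij' (fun r => h * r) (fun r => h⁻¹ * r) ?_ ?_ ?_ ?_ ?_
  · intro r hr
    rw [Finset.mem_filter] at hr ⊢
    exact ⟨Finset.mem_univ _, H.mul_mem hh hr.2⟩
  · intro r hr
    rw [Finset.mem_filter] at hr ⊢
    exact ⟨Finset.mem_univ _, H.mul_mem (H.inv_mem hh) hr.2⟩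
  · intro r _
    group
  · intro r _
    group
  · intro r _
    rw [h6_rho_mul]

open scoped Classical in
theorem h6_avg_of_mem_fix [Fintype G] (ρ : Representation ℂ G V) (H : Subgroup G) (v : V)
    (hv : v ∈ s_fix ρ H) :
    h6_avg ρ H v = ((Finset.univ.filter (fun r => r ∈ H)).card : ℂ) • v := by
  rw [h6_avg_apply]
  rw [Finset.sum_congr rfl (fun r hr => hv r (Finset.mem_filter.mp hr).2)]
  rw [Finset.sum_const, Nat.cast_smul_eq_nsmul]

open scoped Classical in
theorem h6_card_ne_zero [Fintype G] (H : Subgroup G) :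
    ((Finset.univ.filter (fun r => r ∈ H)).card : ℂ) ≠ 0 := by
  rw [Nat.cast_ne_zero]
  apply Finset.card_ne_zero.mpr
  exact ⟨1, Finset.mem_filter.mpr ⟨Finset.mem_univ _, H.one_mem⟩⟩

theorem h6_avg_conj [Fintype G] (ρ : Representation ℂ G V) (H : Subgroup G) (τ : G)
    (hτ : ∀ r ∈ H, τ⁻¹ * r * τ ∈ H) (hτ' : ∀ r ∈ H, τ * r * τ⁻¹ ∈ H) (v : V) :
    h6_avg ρ H (ρ τ v) = ρ τ (h6_avg ρ H v) := by
  classical
  rw [h6_avg_apply, h6_avg_apply, map_sum]
  refine Finset.sum_nbij' (fun r => τ⁻¹ * r * τ) (fun r => τ * r * τ⁻¹) ?_ ?_ ?_ ?_ ?_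
  · intro r hr
    rw [Finset.mem_filter] at hr ⊢
    exact ⟨Finset.mem_univ _, hτ r hr.2⟩
  · intro r hr
    rw [Finset.mem_filter] at hr ⊢
    exact ⟨Finset.mem_univ _, hτ' r hr.2⟩
  · intro r _
    group
  · intro r _
    group
  · intro r _
    rw [← h6_rho_mul, ← h6_rho_mul]
    congr 2
    group

end general

section sl

variable {F : Type*} [Field F] {m : ℕ}

theorem h6_USL_eq (φ : Fin (m + 3) → F) :
    (USL φ : SLn F m) = h8_tv (e0 F m) (z0 φ) (z0_dot_e0 φ) := Subtype.ext rfl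

theorem h6_USL_mulVec (φ x : Fin (m + 3) → F) :
    ((USL φ : SLn F m) : Matrix (Fin (m + 3)) (Fin (m + 3)) F) *ᵥ x = x + (z0 φ ⬝ᵥ x) • e0 F m := by
  rw [h6_USL_eq, h8_tv_mulVec]

theorem h6_mem_RE (g : SLn F m) : g ∈ s_RE F m ↔
    (g : Matrix (Fin (m + 3)) (Fin (m + 3)) F) *ᵥ e0 F m = e0 F m ∧
    (g : Matrix (Fin (m + 3)) (Fin (m + 3)) F) *ᵥ e1 F m = e1 F m := by
  unfold s_RE
  rw [Subgroup.mem_inf, s_mem_stabV, s_mem_stabV]

theorem h6_e0_apply (i : Fin (m + 3)) : e0 F m i = if i = 0 then 1 else 0 := by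
  unfold e0
  rw [Pi.single_apply]

theorem h6_e1_apply (i : Fin (m + 3)) : e1 F m i = if i = 1 then 1 else 0 := by
  unfold e1
  rw [Pi.single_apply]

theorem h6_dot_e0 (φ : Fin (m + 3) → F) : φ ⬝ᵥ e0 F m = φ 0 := by
  unfold e0
  rw [dotProduct_single, mul_one]

theorem h6_dot_e1 (φ : Fin (m + 3) → F) : φ ⬝ᵥ e1 F m = φ 1 := by
  unfold e1
  rw [dotProduct_single, mul_one]

/-- two elements of `SL` with the same action on vectors are equal. -/
theorem h6_ext (a b : SLn F m)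
    (h : ∀ x, (a : Matrix (Fin (m + 3)) (Fin (m + 3)) F) *ᵥ x =
      (b : Matrix (Fin (m + 3)) (Fin (m + 3)) F) *ᵥ x) : a = b := by
  apply Subtype.ext
  apply Matrix.toLin'.injective
  apply LinearMap.ext
  intro v
  rw [Matrix.toLin'_apply, Matrix.toLin'_apply]
  exact h v

end sl

end Cfsg.Agent.SLMin
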