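import Mathlib
import Cfsg.Agent.SLMin.H6_Basic

set_option autoImplicit false
set_option linter.unusedSectionVars false
set_option linter.unusedVariables false

/-!
S2332, piece S5 (helper6): the structure of `V'' = C_V(R^E)` as a module for the root group
`X' = {USL (s • e1*)}`: `dim V'' = (q − 1) + dim C_V(Q)`.
-/

namespace Cfsg.Agent.SLMin

open Matrix Module
open Cfsg.Agent.Helper8.SLTrans (e0 e1)
open Cfsg.Agent.Helper8.LS

variable {F : Type*} [Field F] [Fintype F] [DecidableEq F] {m : ℕ}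
variable {V : Type*} [AddCommGroup V] [Module ℂ V] [FiniteDimensional ℂ V]

theorem h6_one_ne_zero : (1 : Fin (m + 3)) ≠ 0 := by
  intro h
  have := congrArg Fin.val h
  simp at this

/-- `USL φ` normalises `R^E`. -/
theorem h6_USL_conj_RE (φ : Fin (m + 3) → F) (r : SLn F m) (hr : r ∈ s_RE F m) :
    (USL φ)⁻¹ * r * USL φ ∈ s_RE F m := by
  rw [h6_mem_RE] at hr ⊢
  constructor
  · rw [s_coe_mul, s_coe_mul, ← mulVec_mulVec, ← mulVec_mulVec]
    have h1 : (r : Matrix (Fin (m + 3)) (Fin (m + 3)) F) *ᵥ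
        (((USL φ : SLn F m) : Matrix (Fin (m + 3)) (Fin (m + 3)) F) *ᵥ e0 F m)
        = ((USL φ : SLn F m) : Matrix (Fin (m + 3)) (Fin (m + 3)) F) *ᵥ e0 F m := by
      rw [h6_USL_mulVec, mulVec_add, mulVec_smul, hr.1]
    rw [h1]
    exact s_inv_mulVec _ _
  · rw [s_coe_mul, s_coe_mul, ← mulVec_mulVec, ← mulVec_mulVec]
    have h1 : (r : Matrix (Fin (m + 3)) (Fin (m + 3)) F) *ᵥ
        (((USL φ : SLn F m) : Matrix (Fin (m + 3)) (Fin (m + 3)) F) *ᵥ e1 F m)
        = ((USL φ : SLn F m) : Matrix (Fin (m + 3)) (Fin (m + 3)) F) *ᵥ e1 F m := by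
      rw [h6_USL_mulVec, mulVec_add, mulVec_smul, hr.1, hr.2]
    rw [h1]
    exact s_inv_mulVec _ _

theorem h6_USL_stable (ρ : Representation ℂ (SLn F m) V) (φ : Fin (m + 3) → F) (x : V)
    (hx : x ∈ s_fix ρ (s_RE F m)) : ρ (USL φ) x ∈ s_fix ρ (s_RE F m) := by
  intro r hr
  have h3 : r * USL φ = USL φ * ((USL φ)⁻¹ * r * USL φ) := by group
  rw [← h6_rho_mul, h3, h6_rho_mul, hx _ (h6_USL_conj_RE φ r hr)]

/-- `USL φ ∈ R^E` when `φ 1 = 0`. -/
theorem h6_USL_mem_RE (φ : Fin (m + 3) → F) (h1 : φ 1 = 0) : (USL φ : SLn F m) ∈ s_RE F m := by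
  rw [h6_mem_RE]
  constructor
  · rw [h6_USL_mulVec, h6_dot_e0, z0_zero, zero_smul, add_zero]
  · rw [h6_USL_mulVec, h6_dot_e1, z0_succ φ h6_one_ne_zero, h1, zero_smul, add_zero]

/-- `USL φ ∈ Q`. -/
theorem h6_USL_mem_Q (φ : Fin (m + 3) → F) : (USL φ : SLn F m) ∈ s_Q F m := by
  rw [s_mem_Q]
  constructor
  · rw [h6_USL_mulVec, h6_dot_e0, z0_zero, zero_smul, add_zero]
  · rw [h6_USL_mulVec, add_sub_cancel_left]
    exact Submodule.smul_mem _ _ (Submodule.mem_span_singleton_self _)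

theorem h6_RE_le_Q : s_RE F m ≤ s_Q F m := by
  intro r hr
  rw [h6_mem_RE] at hr
  rw [s_mem_Q]
  refine ⟨hr.1, ?_⟩
  rw [hr.2, sub_self]
  exact Submodule.zero_mem _

/-- `USL φ` acts on `C_V(R^E)` through `φ 1`. -/
theorem h6_USL_apply_fix (ρ : Representation ℂ (SLn F m) V) (φ : Fin (m + 3) → F) (w : V)
    (hw : w ∈ s_fix ρ (s_RE F m)) :
    ρ (USL φ) w = ρ (USL (Pi.single 1 (φ 1))) w := by
  have h1 : (USL φ : SLn F m) = USL (Pi.single 1 (φ 1)) * USL (φ - Pi.single 1 (φ 1)) := by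
    rw [USL_mul]
    congr 1
    abel
  rw [h1, h6_rho_mul, hw _ (h6_USL_mem_RE _ (by simp))]

/-- the action of the root group `X' ≅ F` on `C_V(R^E)`. -/
noncomputable def h6_T1 (ρ : Representation ℂ (SLn F m) V) :
    Multiplicative (Fin 1 → F) →* Module.End ℂ (s_fix ρ (s_RE F m)) where
  toFun a := (ρ (USL (Pi.single 1 (Multiplicative.toAdd a 0)))).restrict
    (fun x hx => h6_USL_stable ρ _ x hx)
  map_one' := by
    apply LinearMap.ext
    intro x
    apply Subtype.ext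
    rw [LinearMap.coe_restrict_apply]
    have h0 : (Pi.single 1 (Multiplicative.toAdd (1 : Multiplicative (Fin 1 → F)) 0) :
        Fin (m + 3) → F) = 0 := by
      rw [toAdd_one, Pi.zero_apply, Pi.single_zero]
    rw [h0, USL_zero, map_one]
    rfl
  map_mul' := by
    intro a b
    apply LinearMap.ext
    intro x
    apply Subtype.ext
    rw [LinearMap.coe_restrict_apply, Module.End.mul_apply, LinearMap.coe_restrict_apply,
      LinearMap.coe_restrict_apply, ← h6_rho_mul, USL_mul, ← Pi.single_add]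
    rfl

theorem h6_T1_apply (ρ : Representation ℂ (SLn F m) V) (a : Fin 1 → F)
    (w : s_fix ρ (s_RE F m)) :
    ((h6_T1 ρ (Multiplicative.ofAdd a) w : s_fix ρ (s_RE F m)) : V)
      = ρ (USL (Pi.single 1 (a 0))) (w : V) := rfl

/-- the weight spaces of `X'` on `C_V(R^E)`. -/
theorem h6_wt_T1 (ρ : Representation ℂ (SLn F m) V) (ψ : Multiplicative F →* ℂˣ) (t : F) :
    (wt (h6_T1 ρ) (dotChar ψ (fun _ : Fin 1 => t))).map (s_fix ρ (s_RE F m)).subtype
      = s_fix ρ (s_RE F m) ⊓ s_wt ψ ρ (t • e1 F m) := by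
  ext v
  rw [Submodule.mem_map, Submodule.mem_inf]
  constructor
  · rintro ⟨w, hw, rfl⟩
    refine ⟨w.2, ?_⟩
    rw [Submodule.subtype_apply, s_mem_wt]
    intro φ
    rw [h6_USL_apply_fix ρ φ _ w.2]
    have h1 := hw (Multiplicative.ofAdd (fun _ : Fin 1 => φ 1))
    rw [dotChar_apply] at h1
    have h2 := congrArg Subtype.val h1
    rw [h6_T1_apply] at h2
    rw [h2]
    have h3 : z0 φ ⬝ᵥ (t • e1 F m) = (fun _ : Fin 1 => φ 1) ⬝ᵥ (fun _ : Fin 1 => t) := by
      rw [dotProduct_smul, h6_dot_e1, z0_succ φ h6_one_ne_zero]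
      simp [dotProduct, mul_comm]
    rw [h3]
    rfl
  · rintro ⟨hvR, hvw⟩
    refine ⟨⟨v, hvR⟩, ?_, rfl⟩
    rw [mem_wt]
    intro a
    apply Subtype.ext
    have ha : a = Multiplicative.ofAdd (Multiplicative.toAdd a) := rfl
    rw [ha, h6_T1_apply, dotChar_apply]
    rw [s_mem_wt] at hvw
    have h1 := hvw (Pi.single 1 (Multiplicative.toAdd a 0))
    have h3 : z0 (Pi.single 1 (Multiplicative.toAdd a 0)) ⬝ᵥ (t • e1 F m)
        = (Multiplicative.toAdd a) ⬝ᵥ (fun _ : Fin 1 => t) := by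
      rw [dotProduct_smul, h6_dot_e1, z0_succ _ h6_one_ne_zero]
      simp [dotProduct, mul_comm]
    rw [h3] at h1
    exact h1

/-- `C_V(R^E) ∩ (trivial weight) = C_V(Q)`. -/
theorem h6_fixRE_inf_wt_zero (ρ : Representation ℂ (SLn F m) V) (ψ : Multiplicative F →* ℂˣ) :
    s_fix ρ (s_RE F m) ⊓ s_wt ψ ρ ((0 : F) • e1 F m) = s_fix ρ (s_Q F m) := by
  ext v
  rw [Submodule.mem_inf]
  constructor
  · rintro ⟨hvR, hvw⟩
    have hU : ∀ φ : Fin (m + 3) → F, ρ (USL φ) v = v := by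
      intro φ
      rw [s_mem_wt] at hvw
      have h1 := hvw φ
      rw [zero_smul, dotProduct_zero, ofAdd_zero, map_one, Units.val_one, one_smul] at h1
      exact h1
    intro k hk
    obtain ⟨hk0, hk1⟩ := (s_mem_Q k).mp hk
    obtain ⟨c, hc⟩ := Submodule.mem_span_singleton.mp hk1
    have hr : (USL (Pi.single 1 c))⁻¹ * k ∈ s_RE F m := by
      rw [h6_mem_RE]
      constructor
      · rw [s_coe_mul, ← mulVec_mulVec, hk0]
        have h2 := s_inv_mulVec (USL (Pi.single 1 c) : SLn F m) (e0 F m)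
        rw [h6_USL_mulVec, h6_dot_e0, z0_zero, zero_smul, add_zero] at h2
        exact h2
      · rw [s_coe_mul, ← mulVec_mulVec]
        have h2 := s_inv_mulVec (USL (Pi.single 1 c) : SLn F m) (e1 F m)
        rw [h6_USL_mulVec, h6_dot_e1, z0_succ _ h6_one_ne_zero, Pi.single_eq_same] at h2
        have h3 : (k : Matrix (Fin (m + 3)) (Fin (m + 3)) F) *ᵥ e1 F m = e1 F m + c • e0 F m := by
          rw [hc]
          abel
        rw [h3]
        exact h2
    have h4 : k = USL (Pi.single 1 c) * ((USL (Pi.single 1 c))⁻¹ * k) := by group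
    rw [h4, h6_rho_mul, hvR _ hr, hU]
  · intro hv
    refine ⟨s_fix_anti ρ h6_RE_le_Q hv, ?_⟩
    rw [s_mem_wt]
    intro φ
    rw [zero_smul, dotProduct_zero, ofAdd_zero, map_one, Units.val_one, one_smul]
    exact hv _ (h6_USL_mem_Q φ)

/-- **S2332, piece S5**: `dim C_V(R^E) = (q − 1) + dim C_V(Q)`. -/
theorem s5_dim_fixRE (ρ : Representation ℂ (SLn F m) V) (ψ : Multiplicative F →* ℂˣ) (hψ : ψ ≠ 1)
    (hB : ∀ t : F, t ≠ 0 → s_wt ψ ρ (t • e1 F m) ≤ s_fix ρ (s_RE F m))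
    (h1 : ∀ t : F, t ≠ 0 → finrank ℂ (s_wt ψ ρ (t • e1 F m)) = 1) :
    finrank ℂ (s_fix ρ (s_RE F m)) = (Fintype.card F - 1) + finrank ℂ (s_fix ρ (s_Q F m)) := by
  classical
  have hE : HasEnoughRootsOfUnity ℂ (Monoid.exponent (Multiplicative (Fin 1 → F))) := by
    have : NeZero (Monoid.exponent (Multiplicative (Fin 1 → F))) :=
      ⟨Monoid.exponent_ne_zero_of_finite⟩
    infer_instance
  have hA : (Fintype.card (Multiplicative (Fin 1 → F)) : ℂ) ≠ 0 :=
    Nat.cast_ne_zero.mpr Fintype.card_ne_zero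
  have : Fintype (Multiplicative (Fin 1 → F) →* ℂˣ) := Fintype.ofFinite _
  rw [finrank_eq_sum (h6_T1 ρ) hA]
  let e : (Fin 1 → F) ≃ (Multiplicative (Fin 1 → F) →* ℂˣ) :=
    Equiv.ofBijective _ (dotChar_bijective (ι := Fin 1) hψ)
  rw [← Equiv.sum_comp e, ← Equiv.sum_comp (Equiv.funUnique (Fin 1) F).symm]
  have hterm : ∀ t : F, finrank ℂ (wt (h6_T1 ρ) (e ((Equiv.funUnique (Fin 1) F).symm t)))
      = finrank ℂ (s_fix ρ (s_RE F m) ⊓ s_wt ψ ρ (t • e1 F m) : Submodule ℂ V) := by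
    intro t
    rw [← h6_wt_T1 ρ ψ t]
    have h2 : e ((Equiv.funUnique (Fin 1) F).symm t) = dotChar ψ (fun _ : Fin 1 => t) := by
      show dotChar ψ ((Equiv.funUnique (Fin 1) F).symm t) = _
      congr 1
    rw [h2]
    exact (Submodule.equivSubtypeMap _ _).finrank_eq
  rw [Finset.sum_congr rfl (fun t _ => hterm t)]
  rw [← Finset.add_sum_erase Finset.univ _ (Finset.mem_univ (0 : F))]
  rw [h6_fixRE_inf_wt_zero, add_comm]
  congr 1
  have h3 : ∀ t ∈ Finset.univ.erase (0 : F),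
      finrank ℂ (s_fix ρ (s_RE F m) ⊓ s_wt ψ ρ (t • e1 F m) : Submodule ℂ V) = 1 := by
    intro t ht
    have ht0 : t ≠ 0 := Finset.ne_of_mem_erase ht
    rw [inf_eq_right.mpr (hB t ht0)]
    exact h1 t ht0
  rw [Finset.sum_congr rfl h3, Finset.sum_const, Finset.card_erase_of_mem (Finset.mem_univ _),
    Finset.card_univ, smul_eq_mul, mul_one]

end Cfsg.Agent.SLMin
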