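import Mathlib
import Cfsg.Agent.SLMin.H2_N3
import Cfsg.Agent.SLMin.H1_Weights
import Cfsg.Agent.SLMin.H6_DimFixRE
import Cfsg.Agent.SLMin.H2_ThmB3

set_option autoImplicit false

/-!
# S2332, `n = 3`: the dual count `dim C_V(B^u) = (q − 1) + dim C_V(Q)` (helper2)

The twist `τ g = w₀ (g⁻¹)ᵀ w₀⁻¹` of `SL_3(F)` swaps `B^u` and `R^E` and fixes `Q = U`; apply the
pieces S3, S4 (at `m = 0`: `h2_thmB_n3`), S5 to `ρ ∘ τ`.
-/

namespace Cfsg.Agent.SLMin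

open Matrix Module
open Cfsg.Agent.Helper8.SLTrans (e0 e1)

section twist

variable {F : Type*} [Field F]

/-- `w₀ = antidiag(1, −1, 1)`. -/
def h2_w0 : SLn F 0 := ⟨!![0, 0, 1; 0, -1, 0; 1, 0, 0], by simp [Matrix.det_fin_three]⟩

theorem h2_w0_coe : ((h2_w0 : SLn F 0) : Matrix (Fin 3) (Fin 3) F) = !![0, 0, 1; 0, -1, 0; 1, 0, 0] :=
  rfl

theorem h2_w0_mul_self : (h2_w0 : SLn F 0) * h2_w0 = 1 := by
  apply Subtype.ext
  rw [s_coe_mul, h2_w0_coe, s_coe_one]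
  ext i j
  fin_cases i <;> fin_cases j <;> simp [Matrix.mul_apply, Fin.sum_univ_three]

theorem h2_w0_inv : (h2_w0 : SLn F 0)⁻¹ = h2_w0 := inv_eq_of_mul_eq_one_right h2_w0_mul_self

/-- The twist `τ g = w₀ (g⁻¹)ᵀ w₀⁻¹`. -/
def h2_tau : SLn F 0 ≃* SLn F 0 := (Cfsg.Agent.MinIdx.h8_invT).trans (MulAut.conj h2_w0)

theorem h2_tau_apply (g : SLn F 0) : h2_tau g = h2_w0 * (g⁻¹).transpose * h2_w0 := by
  change h2_w0 * Cfsg.Agent.MinIdx.h8_invT g * h2_w0⁻¹ = _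
  rw [h2_w0_inv, Cfsg.Agent.MinIdx.h8_invT_apply]

theorem h2_U_transpose_coe (a b c : F) :
    (((h2_U a b c : SLn F 0).transpose : SLn F 0) : Matrix (Fin 3) (Fin 3) F) =
      !![1, 0, 0; a, 1, 0; b, c, 1] := by
  rw [SpecialLinearGroup.coe_transpose, h2_U_coe]
  ext i j
  fin_cases i <;> fin_cases j <;> rfl

theorem h2_tau_U (a b c : F) : h2_tau (h2_U a b c) = h2_U c (a * c - b) a := by
  rw [h2_tau_apply, h2_U_inv]
  apply Subtype.ext
  rw [s_coe_mul, s_coe_mul, h2_U_transpose_coe, h2_U_coe, h2_w0_coe]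
  ext i j
  fin_cases i <;> fin_cases j <;>
    simp [Matrix.mul_apply, Fin.sum_univ_three]

end twist

set_option linter.unusedSectionVars false

variable {F : Type*} [Field F] [Fintype F] [DecidableEq F]
variable {V : Type*} [AddCommGroup V] [Module ℂ V] [FiniteDimensional ℂ V]

/-- `ρ ∘ τ`. -/
def h2_twist (ρ : Representation ℂ (SLn F 0) V) : Representation ℂ (SLn F 0) V :=
  ρ.comp (h2_tau (F := F)).toMonoidHom

theorem h2_twist_apply (ρ : Representation ℂ (SLn F 0) V) (g : SLn F 0) :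
    h2_twist ρ g = ρ (h2_tau g) := rfl

theorem h2_fix_twist_RE (ρ : Representation ℂ (SLn F 0) V) :
    s_fix (h2_twist ρ) (s_RE F 0) = s_fix ρ (s_Bu F 0) := by
  ext v
  rw [s_mem_fix, s_mem_fix]
  constructor
  · intro h g hg
    obtain ⟨a, b, rfl⟩ := (h2_mem_Bu g).mp hg
    have := h (h2_U 0 (-b) a) (h2_U_mem_RE _ _)
    rw [h2_twist_apply, h2_tau_U] at this
    have e : (0 : F) * a - -b = b := by ring
    rw [e] at this
    exact this
  · intro h g hg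
    obtain ⟨b, c, rfl⟩ := (h2_mem_RE g).mp hg
    rw [h2_twist_apply, h2_tau_U]
    exact h _ (h2_U_mem_Bu _ _)

theorem h2_fix_twist_Q (ρ : Representation ℂ (SLn F 0) V) :
    s_fix (h2_twist ρ) (s_Q F 0) = s_fix ρ (s_Q F 0) := by
  ext v
  rw [s_mem_fix, s_mem_fix]
  constructor
  · intro h g hg
    obtain ⟨a, b, c, rfl⟩ := (h2_mem_Q g).mp hg
    have := h (h2_U c (c * a - b) a) (h2_U_mem_Q _ _ _)
    rw [h2_twist_apply, h2_tau_U] at this
    have e : c * a - (c * a - b) = b := by ring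
    rw [e] at this
    exact this
  · intro h g hg
    obtain ⟨a, b, c, rfl⟩ := (h2_mem_Q g).mp hg
    rw [h2_twist_apply, h2_tau_U]
    exact h _ (h2_U_mem_Q _ _ _)

/-- `n = 3`: the dual count `dim C_V(B^u) = (q − 1) + dim C_V(Q)` (apply S4+S5 to `ρ ∘ τ`). -/
theorem s8_dim_fixBu (ρ : Representation ℂ (SLn F 0) V) (ψ : Multiplicative F →* ℂˣ) (hψ : ψ ≠ 1)
    (hgood : s_good 0 (Fintype.card F)) (hnt : ∃ g : SLn F 0, ρ g ≠ 1)
    (hsmall : finrank ℂ V < 2 * (Fintype.card F ^ 2 - 1)) :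
    finrank ℂ (s_fix ρ (s_Bu F 0)) = (Fintype.card F - 1) + finrank ℂ (s_fix ρ (s_Q F 0)) := by
  have hnt' : ∃ g : SLn F 0, h2_twist ρ g ≠ 1 := by
    obtain ⟨g, hg⟩ := hnt
    refine ⟨h2_tau.symm g, ?_⟩
    rw [h2_twist_apply, MulEquiv.apply_symm_apply]
    exact hg
  obtain ⟨mult, hm1, hwt, hdim⟩ := s3_weights (h2_twist ρ) ψ hψ hnt'
  have hmult : mult = 1 := by
    by_contra hne
    have h2 : 2 ≤ mult := by omega
    have : 2 * (Fintype.card F ^ (0 + 2) - 1) ≤ mult * (Fintype.card F ^ (0 + 2) - 1) :=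
      Nat.mul_le_mul_right _ h2
    have e : Fintype.card F ^ (0 + 2) = Fintype.card F ^ 2 := rfl
    rw [e] at this hdim
    omega
  have h1 : ∀ t : F, t ≠ 0 → finrank ℂ (s_wt ψ (h2_twist ρ) (t • e1 F 0)) = 1 := by
    intro t ht
    rw [hwt (t • e1 F 0) ⟨1, by decide, by simp [h2_e1_apply, ht]⟩, hmult]
  have hB : ∀ t : F, t ≠ 0 → s_wt ψ (h2_twist ρ) (t • e1 F 0) ≤ s_fix (h2_twist ρ) (s_RE F 0) :=
    fun t ht => h2_thmB_n3 (h2_twist ρ) ψ hgood t ht (h1 t ht)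
  have h5 := s5_dim_fixRE (h2_twist ρ) ψ hψ hB h1
  rw [h2_fix_twist_RE, h2_fix_twist_Q] at h5
  exact h5

end Cfsg.Agent.SLMin
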