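import Mathlib
import Cfsg.Agent.SLMin.H3_Defs
import Cfsg.Agent.MinIdx.H4_Block
import Cfsg.Agent.Helper8.SLPermA

set_option autoImplicit false

/-!
# S2332, piece S6 (helper4), part A: the embedding `A ↦ diag(1, A)` of `SL_(m+3)` in `SL_(m+4)`

`G_u = j(SL') B^u`, and the images of `Q`, `P^0` in `SL'`.
-/

namespace Cfsg.Agent.SLMin

open Matrix Module
open Cfsg.Agent.Helper8.SLTrans (e0 e1)
open Cfsg.Agent.MinIdx (h4_blk h4_ext h4_e0)

variable {F : Type*} [Field F] {m : ℕ}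

/-- `diag(1, A)` as a matrix of size `m + 1 + 3`. -/
def h4_jM (A : Matrix (Fin (m + 3)) (Fin (m + 3)) F) :
    Matrix (Fin (m + 1 + 3)) (Fin (m + 1 + 3)) F := h4_blk A

theorem h4_jM_det (A : Matrix (Fin (m + 3)) (Fin (m + 3)) F) : (h4_jM A).det = A.det :=
  Cfsg.Agent.MinIdx.h4_blk_det A

/-- `x ↦ (0, x)` from `F^(m+3)` to `F^(m+1+3)`. -/
def h4_up (x : Fin (m + 3) → F) : Fin (m + 1 + 3) → F := h4_ext x

/-- the last `m+3` coordinates. -/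
def h4_dn (v : Fin (m + 1 + 3) → F) : Fin (m + 3) → F := fun i => v i.succ

theorem h4_up_zero (x : Fin (m + 3) → F) : h4_up x 0 = 0 := rfl

theorem h4_up_succ (x : Fin (m + 3) → F) (i : Fin (m + 3)) : h4_up x i.succ = x i := rfl

theorem h4_dn_up (x : Fin (m + 3) → F) : h4_dn (h4_up x) = x := rfl

theorem h4_jM_zero_zero (A : Matrix (Fin (m + 3)) (Fin (m + 3)) F) : h4_jM A 0 0 = 1 := rfl

theorem h4_jM_zero_succ (A : Matrix (Fin (m + 3)) (Fin (m + 3)) F) (j : Fin (m + 3)) :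
    h4_jM A 0 j.succ = 0 := rfl

theorem h4_jM_succ_zero (A : Matrix (Fin (m + 3)) (Fin (m + 3)) F) (i : Fin (m + 3)) :
    h4_jM A i.succ 0 = 0 := rfl

theorem h4_jM_succ_succ (A : Matrix (Fin (m + 3)) (Fin (m + 3)) F) (i j : Fin (m + 3)) :
    h4_jM A i.succ j.succ = A i j := rfl

theorem h4_e0_zero : e0 F (m + 1) 0 = 1 := by simp [e0]

theorem h4_e0_succ (i : Fin (m + 3)) : e0 F (m + 1) i.succ = 0 := by
  simp [e0, Fin.succ_ne_zero]

theorem h4_e1_eq : e1 F (m + 1) = h4_up (e0 F m) := by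
  funext i
  refine Fin.cases ?_ (fun j => ?_) i
  · rw [h4_up_zero]
    simp [e1]
  · rw [h4_up_succ]
    refine Fin.cases ?_ (fun j' => ?_) j
    · simp [e1, e0]
    · have h1 : (Fin.succ (Fin.succ j') : Fin (m + 1 + 3)) ≠ 1 := by
        intro h
        have := congrArg Fin.val h
        simp at this
      simp only [e1, e0]
      rw [Pi.single_eq_of_ne h1, Pi.single_eq_of_ne (Fin.succ_ne_zero j')]

theorem h4_mulVec_zero (M : Matrix (Fin (m + 1 + 3)) (Fin (m + 1 + 3)) F) (v : Fin (m + 1 + 3) → F)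
    (i : Fin (m + 1 + 3)) :
    (M *ᵥ v) i = M i 0 * v 0 + ∑ j : Fin (m + 3), M i j.succ * v j.succ := by
  simp only [mulVec, dotProduct]
  exact Fin.sum_univ_succ (n := m + 3) (fun j => M i j * v j)

theorem h4_jM_mulVec_up (A : Matrix (Fin (m + 3)) (Fin (m + 3)) F) (x : Fin (m + 3) → F) :
    h4_jM A *ᵥ h4_up x = h4_up (A *ᵥ x) := by
  funext i
  rw [h4_mulVec_zero]
  refine Fin.cases ?_ (fun i' => ?_) i
  · simp [h4_jM_zero_succ, h4_up_zero]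
  · simp only [h4_jM_succ_zero, h4_up_zero, mul_zero, zero_add, h4_jM_succ_succ, h4_up_succ]
    rfl

theorem h4_jM_mulVec_e0 (A : Matrix (Fin (m + 3)) (Fin (m + 3)) F) :
    h4_jM A *ᵥ e0 F (m + 1) = e0 F (m + 1) := by
  funext i
  rw [h4_mulVec_zero]
  refine Fin.cases ?_ (fun i' => ?_) i
  · simp [h4_jM_zero_succ, h4_jM_zero_zero, h4_e0_zero]
  · simp [h4_jM_succ_zero, h4_e0_succ]

theorem h4_jM_one : h4_jM (1 : Matrix (Fin (m + 3)) (Fin (m + 3)) F) = 1 := by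
  ext i j
  refine Fin.cases ?_ (fun i' => ?_) i
  · refine Fin.cases ?_ (fun j' => ?_) j
    · rw [h4_jM_zero_zero, Matrix.one_apply_eq]
    · rw [h4_jM_zero_succ, Matrix.one_apply_ne (Fin.succ_ne_zero j').symm]
  · refine Fin.cases ?_ (fun j' => ?_) j
    · rw [h4_jM_succ_zero, Matrix.one_apply_ne (Fin.succ_ne_zero i')]
    · rw [h4_jM_succ_succ]
      by_cases h : i' = j'
      · subst h
        rw [Matrix.one_apply_eq, Matrix.one_apply_eq]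
      · rw [Matrix.one_apply_ne h, Matrix.one_apply_ne (fun h' => h (Fin.succ_injective _ h'))]

theorem h4_mul_apply_zero (M N : Matrix (Fin (m + 1 + 3)) (Fin (m + 1 + 3)) F)
    (i j : Fin (m + 1 + 3)) :
    (M * N) i j = M i 0 * N 0 j + ∑ k : Fin (m + 3), M i k.succ * N k.succ j := by
  rw [Matrix.mul_apply]
  exact Fin.sum_univ_succ (n := m + 3) (fun k => M i k * N k j)

theorem h4_jM_mul (A B : Matrix (Fin (m + 3)) (Fin (m + 3)) F) :
    h4_jM (A * B) = h4_jM A * h4_jM B := by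
  ext i j
  rw [h4_mul_apply_zero]
  refine Fin.cases ?_ (fun i' => ?_) i
  · refine Fin.cases ?_ (fun j' => ?_) j
    · simp [h4_jM_zero_zero, h4_jM_zero_succ]
    · simp [h4_jM_zero_zero, h4_jM_zero_succ]
  · refine Fin.cases ?_ (fun j' => ?_) j
    · simp [h4_jM_zero_zero, h4_jM_succ_zero]
    · simp only [h4_jM_succ_zero, h4_jM_zero_succ, mul_zero, zero_add, h4_jM_succ_succ]
      rfl

/-- the embedding `A ↦ diag(1, A)`. -/
def h4_j (F : Type*) [Field F] (m : ℕ) : SLn F m →* SLn F (m + 1) where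
  toFun A := ⟨h4_jM (A : Matrix (Fin (m + 3)) (Fin (m + 3)) F), by
    rw [h4_jM_det]
    exact A.2⟩
  map_one' := by
    apply Subtype.ext
    exact h4_jM_one
  map_mul' := by
    intro A B
    apply Subtype.ext
    exact h4_jM_mul _ _

theorem h4_j_coe (A : SLn F m) :
    ((h4_j F m A : SLn F (m + 1)) : Matrix (Fin (m + 1 + 3)) (Fin (m + 1 + 3)) F) =
      h4_jM (A : Matrix (Fin (m + 3)) (Fin (m + 3)) F) := rfl

theorem h4_j_mem_Gu (A : SLn F m) : h4_j F m A ∈ s_Gu F (m + 1) := by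
  show ((h4_j F m A : SLn F (m + 1)) : Matrix (Fin (m + 1 + 3)) (Fin (m + 1 + 3)) F) *ᵥ
    e0 F (m + 1) = e0 F (m + 1)
  rw [h4_j_coe, h4_jM_mulVec_e0]

/-- the lower right block. -/
def h4_low (g : Matrix (Fin (m + 1 + 3)) (Fin (m + 1 + 3)) F) :
    Matrix (Fin (m + 3)) (Fin (m + 3)) F := fun i j => g i.succ j.succ

theorem h4_low_apply (g : Matrix (Fin (m + 1 + 3)) (Fin (m + 1 + 3)) F) (i j : Fin (m + 3)) :
    h4_low g i j = g i.succ j.succ := rfl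

open Cfsg.Agent.Helper8.LS in
theorem h4_decomp_mat (g : Matrix (Fin (m + 1 + 3)) (Fin (m + 1 + 3)) F)
    (hg : g *ᵥ e0 F (m + 1) = e0 F (m + 1)) :
    g = h4_jM (h4_low g) * Umat (m := m + 1) (g 0) := by
  have hcol : ∀ i, g i 0 = e0 F (m + 1) i := by
    intro i
    have := congrFun hg i
    rw [Cfsg.Agent.Helper8.SLTrans.mulVec_e0] at this
    exact this
  unfold Umat
  rw [mul_add, mul_one, Matrix.mul_vecMulVec, h4_jM_mulVec_e0]
  ext i j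
  rw [Matrix.add_apply, Matrix.vecMulVec_apply]
  refine Fin.cases ?_ (fun i' => ?_) i
  · refine Fin.cases ?_ (fun j' => ?_) j
    · rw [h4_jM_zero_zero, z0_zero, mul_zero, add_zero, hcol, h4_e0_zero]
    · rw [h4_jM_zero_succ, zero_add, h4_e0_zero, one_mul, z0_succ _ (Fin.succ_ne_zero j')]
  · refine Fin.cases ?_ (fun j' => ?_) j
    · rw [h4_jM_succ_zero, h4_e0_succ, zero_mul, add_zero, hcol, h4_e0_succ]
    · rw [h4_jM_succ_succ, h4_e0_succ, zero_mul, add_zero, h4_low_apply]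

open Cfsg.Agent.Helper8.LS in
theorem h4_low_det (g : Matrix (Fin (m + 1 + 3)) (Fin (m + 1 + 3)) F)
    (hg : g *ᵥ e0 F (m + 1) = e0 F (m + 1)) : (h4_low g).det = g.det := by
  conv_rhs => rw [h4_decomp_mat g hg]
  rw [Matrix.det_mul, det_Umat, mul_one, h4_jM_det]

/-- the `SL'`-component of an element of `G_u`. -/
def h4_lowSL (g : SLn F (m + 1)) (hg : g ∈ s_Gu F (m + 1)) : SLn F m :=
  ⟨h4_low (g : Matrix (Fin (m + 1 + 3)) (Fin (m + 1 + 3)) F), by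
    rw [h4_low_det _ hg]
    exact g.2⟩

theorem h4_lowSL_coe (g : SLn F (m + 1)) (hg : g ∈ s_Gu F (m + 1)) :
    ((h4_lowSL g hg : SLn F m) : Matrix (Fin (m + 3)) (Fin (m + 3)) F) =
      h4_low (g : Matrix (Fin (m + 1 + 3)) (Fin (m + 1 + 3)) F) := rfl

open Cfsg.Agent.Helper8.LS in
/-- `G_u = j(SL') B^u`. -/
theorem h4_decomp (g : SLn F (m + 1)) (hg : g ∈ s_Gu F (m + 1)) :
    g = h4_j F m (h4_lowSL g hg) *
      USL (m := m + 1) ((g : Matrix (Fin (m + 1 + 3)) (Fin (m + 1 + 3)) F) 0) := by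
  apply Subtype.ext
  exact h4_decomp_mat _ hg

theorem h4_dn_mulVec_up (g : Matrix (Fin (m + 1 + 3)) (Fin (m + 1 + 3)) F) (x : Fin (m + 3) → F) :
    h4_dn (g *ᵥ h4_up x) = h4_low g *ᵥ x := by
  funext i
  show (g *ᵥ h4_up x) i.succ = _
  rw [h4_mulVec_zero, h4_up_zero, mul_zero, zero_add]
  rfl

theorem h4_dn_e0 : h4_dn (e0 F (m + 1)) = 0 := by
  funext i
  exact h4_e0_succ i

theorem h4_dn_e1 : h4_dn (e1 F (m + 1)) = e0 F m := by
  rw [h4_e1_eq, h4_dn_up]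

theorem h4_dn_smul (c : F) (v : Fin (m + 1 + 3) → F) : h4_dn (c • v) = c • h4_dn v := rfl

theorem h4_dn_add (v w : Fin (m + 1 + 3) → F) : h4_dn (v + w) = h4_dn v + h4_dn w := rfl

theorem h4_dn_sub (v w : Fin (m + 1 + 3) → F) : h4_dn (v - w) = h4_dn v - h4_dn w := rfl

theorem h4_dn_of_mem_L0 {v : Fin (m + 1 + 3) → F} (hv : v ∈ s_L0 F (m + 1)) : h4_dn v = 0 := by
  obtain ⟨c, rfl⟩ := Submodule.mem_span_singleton.mp hv
  rw [h4_dn_smul, h4_dn_e0, smul_zero]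

theorem h4_eq_of_dn (v : Fin (m + 1 + 3) → F) : v = v 0 • e0 F (m + 1) + h4_up (h4_dn v) := by
  funext i
  refine Fin.cases ?_ (fun i' => ?_) i
  · rw [Pi.add_apply, Pi.smul_apply, h4_e0_zero, h4_up_zero, smul_eq_mul, mul_one, add_zero]
  · rw [Pi.add_apply, Pi.smul_apply, h4_e0_succ, h4_up_succ, smul_eq_mul, mul_zero, zero_add]
    rfl

theorem h4_up_smul (c : F) (x : Fin (m + 3) → F) : h4_up (c • x) = c • h4_up x := by
  funext i
  refine Fin.cases ?_ (fun i' => ?_) i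
  · rw [Pi.smul_apply, h4_up_zero, h4_up_zero, smul_zero]
  · rw [Pi.smul_apply, h4_up_succ, h4_up_succ, Pi.smul_apply]

theorem h4_mem_E_iff (v : Fin (m + 1 + 3) → F) :
    v ∈ s_E F (m + 1) ↔ h4_dn v ∈ s_L0 F m := by
  constructor
  · intro hv
    obtain ⟨a, b, rfl⟩ := Submodule.mem_span_pair.mp hv
    rw [h4_dn_add, h4_dn_smul, h4_dn_smul, h4_dn_e0, h4_dn_e1, smul_zero, zero_add]
    exact Submodule.smul_mem _ _ (Submodule.mem_span_singleton_self _)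
  · intro hv
    obtain ⟨c, hc⟩ := Submodule.mem_span_singleton.mp hv
    rw [h4_eq_of_dn v, ← hc, h4_up_smul, ← h4_e1_eq]
    exact Submodule.mem_span_pair.mpr ⟨_, _, rfl⟩

theorem h4_e1_mem_E : e1 F (m + 1) ∈ s_E F (m + 1) :=
  Submodule.subset_span (by simp)

/-- `Q ≤ G_u`. -/
theorem h4_Q_le_Gu : s_Q F (m + 1) ≤ s_Gu F (m + 1) := fun _ hg => hg.1

/-- `P^0 ≤ G_u`. -/
theorem h4_P0_le_Gu : s_P0 F (m + 1) ≤ s_Gu F (m + 1) := fun _ hg => hg.1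

/-- the `SL'`-component of an element of `Q` fixes `e0'`. -/
theorem h4_lowSL_mem_of_Q (g : SLn F (m + 1)) (hg : g ∈ s_Q F (m + 1)) :
    h4_lowSL g (h4_Q_le_Gu hg) ∈ s_Gu F m := by
  show ((h4_lowSL g (h4_Q_le_Gu hg) : SLn F m) : Matrix (Fin (m + 3)) (Fin (m + 3)) F) *ᵥ
    e0 F m = e0 F m
  rw [h4_lowSL_coe, ← h4_dn_mulVec_up, ← h4_e1_eq]
  have h2 := h4_dn_of_mem_L0 hg.2
  rw [h4_dn_sub, h4_dn_e1, sub_eq_zero] at h2
  exact h2

/-- the `SL'`-component of an element of `P^0` stabilises the line `F e0'`. -/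
theorem h4_lowSL_mem_of_P0 (g : SLn F (m + 1)) (hg : g ∈ s_P0 F (m + 1)) :
    h4_lowSL g (h4_P0_le_Gu hg) ∈ Cfsg.Agent.Helper8.SLPerm.P F m := by
  have h1 : (g : Matrix (Fin (m + 1 + 3)) (Fin (m + 1 + 3)) F) *ᵥ e1 F (m + 1) ∈ s_E F (m + 1) :=
    (hg.2 (e1 F (m + 1))).mpr h4_e1_mem_E
  rw [h4_mem_E_iff, h4_e1_eq, h4_dn_mulVec_up] at h1
  obtain ⟨c, hc⟩ := Submodule.mem_span_singleton.mp h1
  have hne : ((h4_lowSL g (h4_P0_le_Gu hg) : SLn F m) : Matrix (Fin (m + 3)) (Fin (m + 3)) F) *ᵥ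
      e0 F m ≠ 0 :=
    Cfsg.Agent.Helper8.SLTrans.mulVec_ne_zero _ Cfsg.Agent.Helper8.SLTrans.e0_ne_zero
  rw [h4_lowSL_coe] at hne
  have hc0 : c ≠ 0 := by
    intro h0
    rw [h0, zero_smul] at hc
    exact hne hc.symm
  refine ⟨Units.mk0 c hc0, ?_⟩
  rw [h4_lowSL_coe, Units.val_mk0]
  exact hc.symm

/-- `j(Stab e0') ≤ Q`. -/
theorem h4_j_mem_Q (A : SLn F m) (hA : A ∈ s_Gu F m) : h4_j F m A ∈ s_Q F (m + 1) := by
  refine ⟨h4_j_mem_Gu A, ?_⟩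
  rw [h4_j_coe, h4_e1_eq, h4_jM_mulVec_up]
  have : (A : Matrix (Fin (m + 3)) (Fin (m + 3)) F) *ᵥ e0 F m = e0 F m := hA
  rw [this, sub_self]
  exact Submodule.zero_mem _

open Cfsg.Agent.Helper8.LS in
theorem h4_Umat_mulVec (φ v : Fin (m + 1 + 3) → F) :
    Umat (m := m + 1) φ *ᵥ v = v + (z0 φ ⬝ᵥ v) • e0 F (m + 1) := by
  unfold Umat
  rw [Matrix.add_mulVec, Matrix.one_mulVec, Matrix.vecMulVec_mulVec]
  congr 1
  funext i
  simp [mul_comm]

open Cfsg.Agent.Helper8.LS in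
/-- `B^u ≤ Q`. -/
theorem h4_Bu_le_Q : s_Bu F (m + 1) ≤ s_Q F (m + 1) := by
  rintro _ ⟨φ, rfl⟩
  have hc : ((Uhom φ : SLn F (m + 1)) : Matrix (Fin (m + 1 + 3)) (Fin (m + 1 + 3)) F) =
      Umat (m := m + 1) (Multiplicative.toAdd φ) := rfl
  refine ⟨?_, ?_⟩
  · show ((Uhom φ : SLn F (m + 1)) : Matrix (Fin (m + 1 + 3)) (Fin (m + 1 + 3)) F) *ᵥ
      e0 F (m + 1) = e0 F (m + 1)
    rw [hc, h4_Umat_mulVec, z0_dot_e0, zero_smul, add_zero]
  · show ((Uhom φ : SLn F (m + 1)) : Matrix (Fin (m + 1 + 3)) (Fin (m + 1 + 3)) F) *ᵥ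
      e1 F (m + 1) - e1 F (m + 1) ∈ s_L0 F (m + 1)
    rw [hc, h4_Umat_mulVec, add_sub_cancel_left]
    exact Submodule.smul_mem _ _ (Submodule.mem_span_singleton_self _)

open Cfsg.Agent.Helper8.LS in
/-- `B^u ≤ G_u`. -/
theorem h4_Bu_le_Gu : s_Bu F (m + 1) ≤ s_Gu F (m + 1) := fun _ h => h4_Q_le_Gu (h4_Bu_le_Q h)

open Cfsg.Agent.Helper8.LS in
theorem h4_USL_mem_Bu (φ : Fin (m + 1 + 3) → F) : USL (m := m + 1) φ ∈ s_Bu F (m + 1) :=
  ⟨Multiplicative.ofAdd φ, rfl⟩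

open Cfsg.Agent.Helper8.LS in
/-- `G_u` normalises `B^u`. -/
theorem h4_Gu_normalises (g : SLn F (m + 1)) (hg : g ∈ s_Gu F (m + 1)) (u : SLn F (m + 1))
    (hu : u ∈ s_Bu F (m + 1)) : g⁻¹ * u * g ∈ s_Bu F (m + 1) := by
  obtain ⟨φ, rfl⟩ := hu
  have h := conj_Uhom g hg (Multiplicative.toAdd φ)
  have h2 : g⁻¹ * Uhom φ * g = Uhom (Multiplicative.ofAdd
      (z0 (Multiplicative.toAdd φ) ᵥ* (g : Matrix (Fin (m + 1 + 3)) (Fin (m + 1 + 3)) F))) := by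
    have h3 : Uhom (Multiplicative.ofAdd (Multiplicative.toAdd φ)) = Uhom φ := rfl
    rw [h3] at h
    rw [mul_assoc, ← h, ← mul_assoc, inv_mul_cancel, one_mul]
  rw [h2]
  exact ⟨_, rfl⟩

end Cfsg.Agent.SLMin
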