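import Mathlib
import Cfsg.Agent.SLMin.H3_Defs

set_option autoImplicit false

/-!
# S2332, piece S6 (helper4), part B: the action of a normalising subgroup on a fixed space
-/

namespace Cfsg.Agent.SLMin

open Module

variable {G G' : Type*} [Group G] [Group G'] {V : Type*} [AddCommGroup V] [Module ℂ V]

/-- `C_V(B)` is stable under an element normalising `B`. -/
theorem h4_fix_stable (ρ : Representation ℂ G V) (B : Subgroup G) (g : G)
    (hg : ∀ b ∈ B, g⁻¹ * b * g ∈ B) (w : V) (hw : w ∈ s_fix ρ B) : ρ g w ∈ s_fix ρ B := by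
  intro b hb
  have h1 : ρ b (ρ g w) = ρ g (ρ (g⁻¹ * b * g) w) := by
    rw [← Module.End.mul_apply, ← Module.End.mul_apply, ← map_mul, ← map_mul]
    congr 2
    group
  rw [h1, hw _ (hg b hb)]

/-- the representation of `G'` on `C_V(B)` through `j : G' →* N_G(B)`. -/
def h4_res (ρ : Representation ℂ G V) (B : Subgroup G) (j : G' →* G)
    (hj : ∀ A : G', ∀ b ∈ B, (j A)⁻¹ * b * (j A) ∈ B) : Representation ℂ G' (s_fix ρ B) where
  toFun A := (ρ (j A)).restrict (fun w hw => h4_fix_stable ρ B (j A) (hj A) w hw)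
  map_one' := by
    ext w
    simp
  map_mul' := by
    intro A A'
    ext w
    simp

theorem h4_res_apply (ρ : Representation ℂ G V) (B : Subgroup G) (j : G' →* G)
    (hj : ∀ A : G', ∀ b ∈ B, (j A)⁻¹ * b * (j A) ∈ B) (A : G') (w : s_fix ρ B) :
    ((h4_res ρ B j hj A w : s_fix ρ B) : V) = ρ (j A) (w : V) := rfl

/-- `C_W(H') ≤ C_V(H)` if `H ⊆ j(H') B`. -/
theorem h4_fix_res_le (ρ : Representation ℂ G V) (B : Subgroup G) (j : G' →* G)
    (hj : ∀ A : G', ∀ b ∈ B, (j A)⁻¹ * b * (j A) ∈ B) (H' : Subgroup G') (H : Subgroup G)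
    (hH : ∀ h ∈ H, ∃ A ∈ H', ∃ b ∈ B, h = j A * b) :
    (s_fix (h4_res ρ B j hj) H').map (s_fix ρ B).subtype ≤ s_fix ρ H := by
  rintro _ ⟨w, hw, rfl⟩ h hh
  obtain ⟨A, hA, b, hb, rfl⟩ := hH h hh
  have h1 := hw A hA
  have h2 : ρ (j A) (w : V) = (w : V) := by
    rw [← h4_res_apply ρ B j hj A w, h1]
  show ρ (j A * b) (w : V) = (w : V)
  rw [map_mul, Module.End.mul_apply, w.2 b hb, h2]

/-- `C_V(H) ≤ C_W(H')` if `B ≤ H` and `j(H') ≤ H`. -/
theorem h4_le_fix_res (ρ : Representation ℂ G V) (B : Subgroup G) (j : G' →* G)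
    (hj : ∀ A : G', ∀ b ∈ B, (j A)⁻¹ * b * (j A) ∈ B) (H' : Subgroup G') (H : Subgroup G)
    (hB : B ≤ H) (hj' : ∀ A ∈ H', j A ∈ H) :
    s_fix ρ H ≤ (s_fix (h4_res ρ B j hj) H').map (s_fix ρ B).subtype := by
  intro v hv
  have hvB : v ∈ s_fix ρ B := s_fix_anti ρ hB hv
  refine ⟨⟨v, hvB⟩, ?_, rfl⟩
  intro A hA
  apply Subtype.ext
  rw [h4_res_apply]
  exact hv _ (hj' A hA)

theorem h4_finrank_map (ρ : Representation ℂ G V) (B : Subgroup G) (X : Submodule ℂ (s_fix ρ B)) :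
    finrank ℂ (X.map (s_fix ρ B).subtype) = finrank ℂ X :=
  Submodule.finrank_map_subtype_eq _ _

end Cfsg.Agent.SLMin
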