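import Mathlib
import Cfsg.Agent.SLMin.H4_Step5A
import Cfsg.Agent.SLMin.H4_Step5B
import Cfsg.Agent.Helper8.SLPermE
import Cfsg.Agent.Helper6.Constituent
import Cfsg.Agent.Lead.SteinCharA
import Cfsg.Prelude.Def_ParabolicCharacters

set_option autoImplicit false

/-!
# S2332, piece S6 (helper4), part C: step 5 from the bridge `S0` and the `SLPerm` facts `S1`
-/

namespace Cfsg.Agent.SLMin

open Matrix Module
open Cfsg.Agent.Helper8.SLTrans (e0 e1)
open Cfsg.Agent.Helper8.SLPerm (psi R P cfam)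
open Cfsg.Agent.Helper6

variable {F : Type*} [Field F] {m : ℕ}
variable {V : Type*} [AddCommGroup V] [Module ℂ V]

/-- `SL' ≅ SL_(m+3)(F)` acting on `C_V(B^u)`. -/
def h4_rho' (ρ : Representation ℂ (SLn F (m + 1)) V) :
    Representation ℂ (SLn F m) (s_fix ρ (s_Bu F (m + 1))) :=
  h4_res ρ (s_Bu F (m + 1)) (h4_j F m)
    (fun A b hb => h4_Gu_normalises _ (h4_j_mem_Gu A) b hb)

/-- `C_W(Stab e0') = C_V(Q)`. -/
theorem h4_fix_Q (ρ : Representation ℂ (SLn F (m + 1)) V) :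
    (s_fix (h4_rho' ρ) (s_Gu F m)).map (s_fix ρ (s_Bu F (m + 1))).subtype =
      s_fix ρ (s_Q F (m + 1)) := by
  apply le_antisymm
  · apply h4_fix_res_le
    intro g hg
    exact ⟨h4_lowSL g (h4_Q_le_Gu hg), h4_lowSL_mem_of_Q g hg, _, h4_USL_mem_Bu _,
      h4_decomp g (h4_Q_le_Gu hg)⟩
  · apply h4_le_fix_res
    · exact h4_Bu_le_Q
    · exact fun A hA => h4_j_mem_Q A hA

/-- `C_W(SL') ≤ C_V(G_u)`. -/
theorem h4_fix_top_le (ρ : Representation ℂ (SLn F (m + 1)) V) :
    (s_fix (h4_rho' ρ) ⊤).map (s_fix ρ (s_Bu F (m + 1))).subtype ≤ s_fix ρ (s_Gu F (m + 1)) := by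
  apply h4_fix_res_le
  intro g hg
  exact ⟨h4_lowSL g hg, Subgroup.mem_top _, _, h4_USL_mem_Bu _, h4_decomp g hg⟩

/-- `C_W(P') ≤ C_V(P^0)`. -/
theorem h4_fix_P_le (ρ : Representation ℂ (SLn F (m + 1)) V) :
    (s_fix (h4_rho' ρ) (P F m)).map (s_fix ρ (s_Bu F (m + 1))).subtype ≤
      s_fix ρ (s_P0 F (m + 1)) := by
  apply h4_fix_res_le
  intro g hg
  exact ⟨h4_lowSL g (h4_P0_le_Gu hg), h4_lowSL_mem_of_P0 g hg, _, h4_USL_mem_Bu _,
    h4_decomp g (h4_P0_le_Gu hg)⟩

theorem h4_Gu_le_P : s_Gu F m ≤ P F m := by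
  intro g hg
  refine ⟨1, ?_⟩
  rw [Units.val_one, one_smul]
  exact hg

/-- `N_n = b_n + 1`. -/
theorem h4_N_eq (q n : ℕ) (hq : 2 ≤ q) (hn : 1 ≤ n) : s_N q n = s_b q n + 1 := by
  unfold s_N s_b
  have h1 : q ≤ q ^ n := by
    calc q = q ^ 1 := (pow_one q).symm
      _ ≤ q ^ n := Nat.pow_le_pow_right (by omega) hn
  have h2 : q ^ n - 1 = (q ^ n - q) + (q - 1) := by omega
  rw [h2, Nat.add_div_right _ (by omega)]

theorem h4_fpc_top {G : Type*} [Group G] :
    Cfsg.fixedPointCharacter (⊤ : Subgroup G) = fun _ => (1 : ℂ) := by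
  funext g
  unfold Cfsg.fixedPointCharacter
  have h1 : Nat.card (MulAction.fixedBy (G ⧸ (⊤ : Subgroup G)) g) = 1 := by
    haveI : Subsingleton (G ⧸ (⊤ : Subgroup G)) := QuotientGroup.subsingleton_quotient_top
    rw [Nat.card_eq_one_iff_unique]
    refine ⟨inferInstance, ⟨⟨((1 : G) : G ⧸ (⊤ : Subgroup G)), ?_⟩⟩⟩
    exact Subsingleton.elim _ _
  rw [h1, Nat.cast_one]

section core

variable [Fintype F] [DecidableEq F] [Fintype (MulChar F ℂ)] [FiniteDimensional ℂ V]

theorem h4_fpc_P :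
    Cfsg.fixedPointCharacter (P F m) = psi (m := m) 1 + fun _ => (1 : ℂ) := by
  rw [Cfsg.Agent.Lead.SteinChar.fixedPointCharacter_eq]
  funext g
  rw [Pi.add_apply, Cfsg.Agent.Helper8.SLPerm.psi_apply, if_pos rfl, sub_add_cancel]
  unfold R
  rw [Cfsg.Agent.Helper8.SLPerm.thP_one]

theorem h4_psi_irr (α : MulChar F ℂ) : Cfsg.IsIrrCharacter (SLn F m) (psi (m := m) α) :=
  Cfsg.Agent.Helper8.SLPerm.isIrr_cfam (some α)

theorem h4_psi_ne_one (α : MulChar F ℂ) : psi (m := m) α ≠ fun _ => (1 : ℂ) := by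
  intro h
  have h1 : cfam (m := m) (some α) = cfam (m := m) none := h
  have := Cfsg.Agent.Helper8.SLPerm.cfam_injective h1
  exact Option.some_ne_none _ this

theorem h4_psi_inj {α β : MulChar F ℂ} (h : psi (m := m) α = psi (m := m) β) : α = β := by
  have h1 : cfam (m := m) (some α) = cfam (m := m) (some β) := h
  exact Option.some_injective _ (Cfsg.Agent.Helper8.SLPerm.cfam_injective h1)

theorem h4_inner_psi_one_vec
    (hpv : Cfsg.fixedPointCharacter (s_Gu F m) =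
      (fun _ => (1 : ℂ)) + ∑ α : MulChar F ℂ, psi (m := m) α) :
    Cfsg.classInner (psi (m := m) (1 : MulChar F ℂ)) (Cfsg.fixedPointCharacter (s_Gu F m)) = 1 := by
  rw [hpv, classInner_add_right, classInner_sum_right,
    classInner_irr_ne (h4_psi_irr 1) Cfsg.Agent.Helper8.SLPerm.isIrrCharacter_const_one
      (h4_psi_ne_one 1), zero_add, Finset.sum_eq_single (1 : MulChar F ℂ)]
  · exact classInner_irr_self (h4_psi_irr 1)
  · intro β _ hβ
    exact classInner_irr_ne (h4_psi_irr 1) (h4_psi_irr β) (fun h => hβ (h4_psi_inj h).symm)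
  · intro h
    exact absurd (Finset.mem_univ _) h

theorem h4_inner_psi_one_line :
    Cfsg.classInner (psi (m := m) (1 : MulChar F ℂ)) (Cfsg.fixedPointCharacter (P F m)) = 1 := by
  rw [h4_fpc_P, classInner_add_right, classInner_irr_self (h4_psi_irr 1),
    classInner_irr_ne (h4_psi_irr 1) Cfsg.Agent.Helper8.SLPerm.isIrrCharacter_const_one
      (h4_psi_ne_one 1), add_zero]

/-- Step 5, from the bridge and the decomposition of the permutation character on vectors. -/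
theorem h4_step5_core (ρ : Representation ℂ (SLn F (m + 1)) V)
    (hk : s_fix ρ (s_Q F (m + 1)) ≠ ⊥)
    (hS0 : ∀ H : Subgroup (SLn F m),
      Cfsg.classInner (h4_rho' ρ).character (Cfsg.fixedPointCharacter H) =
        (finrank ℂ (s_fix (h4_rho' ρ) H) : ℂ))
    (hio : ∀ χ : SLn F m → ℂ, Cfsg.IsIrrCharacter (SLn F m) χ →
      Cfsg.classInner χ (Cfsg.fixedPointCharacter (s_Gu F m)) ≠ 0 →
      χ = (fun _ => 1) ∨ ∃ α : MulChar F ℂ, χ = psi α)
    (hpv : Cfsg.fixedPointCharacter (s_Gu F m) =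
      (fun _ => (1 : ℂ)) + ∑ α : MulChar F ℂ, psi (m := m) α) :
    s_fix ρ (s_Gu F (m + 1)) ≠ ⊥ ∨
    s_N (Fintype.card F) (m + 3) ≤ finrank ℂ (s_fix ρ (s_Bu F (m + 1))) ∨
    (finrank ℂ (s_fix ρ (s_Bu F (m + 1))) = s_b (Fintype.card F) (m + 3) ∧
      finrank ℂ (s_fix ρ (s_Q F (m + 1))) = 1 ∧
      s_fix ρ (s_Q F (m + 1)) ≤ s_fix ρ (s_P0 F (m + 1))) := by
  classical
  haveI : Finite (Cfsg.IrrCharacter (SLn F m)) := irr_finite
  haveI : Fintype (Cfsg.IrrCharacter (SLn F m)) := Fintype.ofFinite _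
  have hχ' : Cfsg.IsCharacter (SLn F m) (h4_rho' ρ).character := isCharacter_of_rep _
  have hχ'1 : (h4_rho' ρ).character 1 = (finrank ℂ (s_fix ρ (s_Bu F (m + 1))) : ℂ) :=
    Representation.char_one _
  have hQ : finrank ℂ (s_fix (h4_rho' ρ) (s_Gu F m)) = finrank ℂ (s_fix ρ (s_Q F (m + 1))) := by
    rw [← h4_fix_Q, h4_finrank_map]
  have hQ0 : finrank ℂ (s_fix ρ (s_Q F (m + 1))) ≠ 0 := by
    intro h
    exact hk (Submodule.finrank_eq_zero.mp h)
  have hin : Cfsg.classInner (h4_rho' ρ).character (Cfsg.fixedPointCharacter (s_Gu F m)) ≠ 0 := by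
    rw [hS0, hQ]
    exact_mod_cast hQ0
  rw [classInner_self_expansion _ (IsCharacter.isClassFunction hχ')] at hin
  obtain ⟨θ, -, hθ⟩ := Finset.exists_ne_zero_of_sum_ne_zero hin
  have hθ1 := left_ne_zero_of_mul hθ
  have hθ2 := right_ne_zero_of_mul hθ
  rcases hio θ θ.2 hθ2 with h1 | ⟨α, hα⟩
  · left
    have h2 : Cfsg.classInner (h4_rho' ρ).character
        (Cfsg.fixedPointCharacter (⊤ : Subgroup (SLn F m))) ≠ 0 := by
      rw [h4_fpc_top, ← h1]
      exact hθ1
    rw [hS0] at h2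
    have h3 : finrank ℂ (s_fix (h4_rho' ρ) ⊤) ≠ 0 := by exact_mod_cast h2
    have h4 : s_fix (h4_rho' ρ) ⊤ ≠ ⊥ := by
      intro h
      apply h3
      rw [h]
      exact finrank_bot ℂ _
    obtain ⟨w, hw, hw0⟩ := Submodule.exists_mem_ne_zero_of_ne_bot h4
    intro hbot
    have h5 : (w : V) ∈ s_fix ρ (s_Gu F (m + 1)) := h4_fix_top_le ρ ⟨w, hw, rfl⟩
    rw [hbot, Submodule.mem_bot] at h5
    exact hw0 (Subtype.ext h5)
  · rw [hα] at hθ1
    obtain ⟨a, b, ha, hb, hab⟩ := degree_le_of_classInner_ne_zero hχ' (h4_psi_irr α) hθ1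
    have hbW : b = finrank ℂ (s_fix ρ (s_Bu F (m + 1))) := by
      rw [hχ'1] at hb
      exact_mod_cast hb.symm
    rw [Cfsg.Agent.Helper8.SLPerm.psi_one_val] at ha
    have hNdef : (Fintype.card F ^ (m + 3) - 1) / (Fintype.card F - 1) =
        s_N (Fintype.card F) (m + 3) := rfl
    rw [hNdef] at ha
    by_cases hα1 : α = 1
    · subst hα1
      rw [if_pos rfl] at ha
      have hN := h4_N_eq (Fintype.card F) (m + 3) Fintype.one_lt_card (by omega)
      have ha' : a = s_b (Fintype.card F) (m + 3) := by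
        have h6 : ((a + 1 : ℕ) : ℂ) = ((s_N (Fintype.card F) (m + 3) : ℕ) : ℂ) := by
          push_cast
          rw [← ha]
          ring
        have h7 : a + 1 = s_N (Fintype.card F) (m + 3) := by exact_mod_cast h6
        omega
      by_cases hN' : s_N (Fintype.card F) (m + 3) ≤ finrank ℂ (s_fix ρ (s_Bu F (m + 1)))
      · right
        left
        exact hN'
      · right
        right
        have hWb : finrank ℂ (s_fix ρ (s_Bu F (m + 1))) = s_b (Fintype.card F) (m + 3) := by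
          omega
        have hχeq : (h4_rho' ρ).character = psi (m := m) (1 : MulChar F ℂ) := by
          apply eq_of_constituent_of_degree hχ' (h4_psi_irr 1) hθ1
          rw [hχ'1, Cfsg.Agent.Helper8.SLPerm.psi_one_val, hNdef, if_pos rfl, hWb, hN]
          push_cast
          ring
        have hd1 : finrank ℂ (s_fix (h4_rho' ρ) (s_Gu F m)) = 1 := by
          have h8 := hS0 (s_Gu F m)
          rw [hχeq, h4_inner_psi_one_vec hpv] at h8
          exact_mod_cast h8.symm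
        have hd2 : finrank ℂ (s_fix (h4_rho' ρ) (P F m)) = 1 := by
          have h8 := hS0 (P F m)
          rw [hχeq, h4_inner_psi_one_line] at h8
          exact_mod_cast h8.symm
        have heq : s_fix (h4_rho' ρ) (P F m) = s_fix (h4_rho' ρ) (s_Gu F m) :=
          Submodule.eq_of_le_of_finrank_eq (s_fix_anti _ h4_Gu_le_P) (by rw [hd1, hd2])
        refine ⟨hWb, by rw [← hQ]; exact hd1, ?_⟩
        rw [← h4_fix_Q, ← heq]
        exact h4_fix_P_le ρ
    · right
      left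
      rw [if_neg hα1, sub_zero] at ha
      have h9 : a = s_N (Fintype.card F) (m + 3) := by exact_mod_cast ha.symm
      rw [← hbW, ← h9]
      exact hab

end core

end Cfsg.Agent.SLMin
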