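import Mathlib
import Cfsg.Agent.SLMin.H3_Defs
import Cfsg.Agent.Helper8.SLPermE
import Cfsg.Agent.Lead.SteinCharA
import Cfsg.Prelude.Def_ParabolicCharacters

set_option autoImplicit false

/-!
# S2332, piece S1 (helper8): the permutation character on the non-zero vectors

Thin wrappers around `Cfsg.Agent.Helper8.SLPerm`: the permutation character of `SL_n(q)` on
the cosets of the vector stabiliser `s_Gu` is `1 + Σ_α psi α` with the `psi α` irreducible
and pairwise distinct, and the permutation character on the points is `1 + psi 1`.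
-/

namespace Cfsg.Agent.SLMin

open Matrix
open Cfsg.Agent.Helper8.SLTrans (e0 e1)
open Cfsg.Agent.Helper8.SLPerm
open Cfsg.Agent.Helper6

variable {F : Type*} [Field F] [Fintype F] [DecidableEq F] {m : ℕ}

theorem s1_card_Gu : Nat.card (s_Gu F m) = N F m := by
  classical
  unfold N
  rw [Nat.card_eq_fintype_card, Fintype.card_subtype]
  exact congrArg Finset.card (Finset.filter_congr (fun x _ => Iff.rfl))

omit [Fintype F] [DecidableEq F] in
theorem s1_conj_mem_Gu (g x : SLn F m) :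
    x⁻¹ * g * x ∈ s_Gu F m ↔
      (g : Matrix (Fin (m + 3)) (Fin (m + 3)) F) *ᵥ
        ((x : Matrix (Fin (m + 3)) (Fin (m + 3)) F) *ᵥ e0 F m) =
        (x : Matrix (Fin (m + 3)) (Fin (m + 3)) F) *ᵥ e0 F m := by
  change ((x⁻¹ * g * x : SLn F m) : Matrix (Fin (m + 3)) (Fin (m + 3)) F) *ᵥ e0 F m = e0 F m ↔ _
  rw [s_coe_mul, s_coe_mul, ← Matrix.mulVec_mulVec, ← Matrix.mulVec_mulVec]
  constructor
  · intro h
    rw [← s_mulVec_inv x ((g : Matrix (Fin (m + 3)) (Fin (m + 3)) F) *ᵥ
      ((x : Matrix (Fin (m + 3)) (Fin (m + 3)) F) *ᵥ e0 F m)), h]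
  · intro h
    rw [h, s_inv_mulVec]

/-- the permutation character on the cosets of the vector stabiliser counts the non-zero
fixed vectors. -/
theorem s1_fpc_Gu : Cfsg.fixedPointCharacter (s_Gu F m) = piVec (F := F) (m := m) := by
  classical
  funext g
  rw [Cfsg.Agent.Lead.SteinChar.fixedPointCharacter_eq, indFun_apply]
  have h1 : ∀ x : SLn F m, Cfsg.extendByZero (s_Gu F m) (fun _ => (1 : ℂ)) (x⁻¹ * g * x) =
      if (x : Matrix (Fin (m + 3)) (Fin (m + 3)) F) *ᵥ e0 F m ∈ fixSet g then 1 else 0 := by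
    intro x
    by_cases hx : x⁻¹ * g * x ∈ s_Gu F m
    · rw [extendByZero_mem _ _ hx, if_pos]
      rw [mem_fixSet]
      exact ⟨Cfsg.Agent.Helper8.SLTrans.mulVec_ne_zero x Cfsg.Agent.Helper8.SLTrans.e0_ne_zero,
        (s1_conj_mem_Gu g x).mp hx⟩
    · rw [extendByZero_not_mem _ _ hx, if_neg]
      rw [mem_fixSet]
      intro h
      exact hx ((s1_conj_mem_Gu g x).mpr h.2)
  rw [Finset.sum_congr rfl (fun x _ => h1 x), Finset.sum_boole, card_preimage (fixSet g)
    (fun v hv => ((mem_fixSet g v).mp hv).1), s1_card_Gu]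
  have hN : ((N F m : ℕ) : ℂ) ≠ 0 := by exact_mod_cast (N_pos (F := F) (m := m)).ne'
  unfold piVec
  push_cast
  field_simp

theorem s1_psi_deg (α : MulChar F ℂ) :
    psi (m := m) α 1 = ((s_N (Fintype.card F) (m + 3) : ℕ) : ℂ) - (if α = 1 then 1 else 0) := by
  rw [psi_one_val]
  rfl

theorem s1_irr_of_inner (χ : SLn F m → ℂ) (hχ : Cfsg.IsIrrCharacter (SLn F m) χ)
    (h : Cfsg.classInner χ (Cfsg.fixedPointCharacter (s_Gu F m)) ≠ 0) :
    χ = (fun _ => 1) ∨ ∃ α : MulChar F ℂ, χ = psi α := by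
  classical
  have : Fintype (MulChar F ℂ) := Fintype.ofFinite _
  rw [s1_fpc_Gu] at h
  obtain ⟨o, ho⟩ := irr_of_inner_ne_zero hχ h
  rcases o with _ | α
  · left
    exact ho
  · right
    exact ⟨α, ho⟩

/-- `π_vec = 1 + Σ_α psi α`, the `psi α` irreducible and pairwise distinct (restating `SLPerm.main`). -/
theorem s1_pivec [Fintype (MulChar F ℂ)] :
    (∀ α : MulChar F ℂ, Cfsg.IsIrrCharacter (SLn F m) (psi α)) ∧
    Function.Injective (psi (F := F) (m := m)) ∧
    (∀ α : MulChar F ℂ, psi (m := m) α ≠ fun _ => 1) ∧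
    Cfsg.fixedPointCharacter (s_Gu F m) = (fun _ => (1 : ℂ)) + ∑ α : MulChar F ℂ, psi α := by
  refine ⟨fun α => isIrr_cfam (some α), ?_, ?_, ?_⟩
  · intro α β h
    have : (some α : Option (MulChar F ℂ)) = some β := cfam_injective (m := m) h
    exact Option.some.inj this
  · intro α h
    have : (some α : Option (MulChar F ℂ)) = none := cfam_injective (m := m) h
    exact Option.some_ne_none α this
  · rw [s1_fpc_Gu, piVec_eq_sum, Fintype.sum_option]
    rfl

omit [Fintype F] [DecidableEq F] in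
/-- the stabiliser of the line `F e0` is helper8's `SLPerm.P`. -/
theorem s1_stabL0_eq : s_stabS (s_L0 F m) = P F m := by
  have key : ∀ g : SLn F m, g ∈ P F m → ∀ x ∈ s_L0 F m,
      (g : Matrix (Fin (m + 3)) (Fin (m + 3)) F) *ᵥ x ∈ s_L0 F m := by
    rintro g ⟨a, ha⟩ x hx
    obtain ⟨c, rfl⟩ := Submodule.mem_span_singleton.mp hx
    rw [Matrix.mulVec_smul, ha]
    exact Submodule.smul_mem _ _ (Submodule.smul_mem _ _ (Submodule.mem_span_singleton_self _))
  ext g
  constructor
  · intro hg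
    have h0 : (g : Matrix (Fin (m + 3)) (Fin (m + 3)) F) *ᵥ e0 F m ∈ s_L0 F m :=
      ((s_mem_stabS _ g).mp hg (e0 F m)).mpr (Submodule.mem_span_singleton_self _)
    obtain ⟨a, ha⟩ := Submodule.mem_span_singleton.mp h0
    have ha0 : a ≠ 0 := by
      rintro rfl
      rw [zero_smul] at ha
      exact Cfsg.Agent.Helper8.SLTrans.mulVec_ne_zero g Cfsg.Agent.Helper8.SLTrans.e0_ne_zero
        ha.symm
    exact ⟨Units.mk0 a ha0, ha.symm⟩
  · intro hg
    rw [s_mem_stabS]
    intro x
    constructor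
    · intro hx
      have := key g⁻¹ ((P F m).inv_mem hg) _ hx
      rwa [s_inv_mulVec] at this
    · exact key g hg x

/-- the permutation character on the points is `1 + psi 1`. -/
theorem s1_piline : Cfsg.fixedPointCharacter (s_stabS (s_L0 F m)) =
    (fun _ => (1 : ℂ)) + psi (m := m) 1 := by
  rw [s1_stabL0_eq, Cfsg.Agent.Lead.SteinChar.fixedPointCharacter_eq, ← thP_one]
  funext g
  rw [Pi.add_apply, psi_apply, if_pos rfl]
  change R 1 g = _
  ring

/-- the permutation character on the points, as `R 1`. -/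
theorem s1_piline_R : Cfsg.fixedPointCharacter (s_stabS (s_L0 F m)) = R (m := m) 1 := by
  rw [s1_stabL0_eq, Cfsg.Agent.Lead.SteinChar.fixedPointCharacter_eq, ← thP_one]
  rfl

/-- the number of points. -/
theorem s1_piline_deg : Cfsg.fixedPointCharacter (s_stabS (s_L0 F m)) 1 =
    ((s_N (Fintype.card F) (m + 3) : ℕ) : ℂ) := by
  rw [s1_piline_R, R_one_val]
  rfl

end Cfsg.Agent.SLMin
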