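import Mathlib
import Cfsg.Agent.SLMin.H4_Step5C
import Cfsg.Agent.SLMin.H8_S1
import Cfsg.Agent.Helper6.Invariants
import Cfsg.Agent.Helper6.IndFun
import Cfsg.Agent.Helper6.CharBasic
import Cfsg.Agent.Lead.SteinCharA
import Cfsg.Prelude.Def_ParabolicCharacters

set_option autoImplicit false

/-!
# S2332, piece S6 (helper4): step 5 (`s6_step5`)

`h4_s0` is a self-contained copy of the bridge `dim C_V(H) = ⟨χ, π_(G/H)⟩` (piece S0), so that this
file does not wait for it.
-/

namespace Cfsg.Agent.SLMin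

open Matrix Module
open Cfsg.Agent.Helper8.SLTrans (e0 e1)
open Cfsg.Agent.Helper6
open scoped ComplexConjugate

variable {F : Type*} [Field F] [Fintype F] [DecidableEq F] {m : ℕ}
variable {V : Type*} [AddCommGroup V] [Module ℂ V] [FiniteDimensional ℂ V]

/-- `dim C_V(H) = ⟨χ, π_(G/H)⟩`. -/
theorem h4_s0 {G : Type*} [Group G] [Fintype G] (ρ : Representation ℂ G V) (H : Subgroup G) :
    Cfsg.classInner ρ.character (Cfsg.fixedPointCharacter H) = (finrank ℂ (s_fix ρ H) : ℂ) := by
  classical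
  have : Fintype H := Fintype.ofFinite _
  let σ : Representation ℂ H V := ρ.comp H.subtype
  have hσ : σ.character = fun h : H => ρ.character h := rfl
  have hinv : Representation.invariants σ = s_fix ρ H := by
    ext v
    rw [Representation.mem_invariants, s_mem_fix]
    constructor
    · intro h g hg
      exact h ⟨g, hg⟩
    · intro h g
      exact h g.1 g.2
  rw [classInner_conj_symm, Cfsg.Agent.Lead.SteinChar.fixedPointCharacter_eq,
    frobenius_reciprocity H _ _ (IsCharacter.isClassFunction (isCharacter_of_rep ρ)),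
    ← classInner_conj_symm, ← hσ, classInner_one_eq_finrank_invariants, hinv]

/-- **Step 5**, for `n = m + 4`; `SL' ≅ SLn F m` sits in `SLn F (m+1)` as `diag(1, A')`. -/
theorem s6_step5 (ρ : Representation ℂ (SLn F (m + 1)) V)
    (hk : s_fix ρ (s_Q F (m + 1)) ≠ ⊥) :
    s_fix ρ (s_Gu F (m + 1)) ≠ ⊥ ∨
    s_N (Fintype.card F) (m + 3) ≤ finrank ℂ (s_fix ρ (s_Bu F (m + 1))) ∨
    (finrank ℂ (s_fix ρ (s_Bu F (m + 1))) = s_b (Fintype.card F) (m + 3) ∧
      finrank ℂ (s_fix ρ (s_Q F (m + 1))) = 1 ∧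
      s_fix ρ (s_Q F (m + 1)) ≤ s_fix ρ (s_P0 F (m + 1))) := by
  classical
  have : Fintype (MulChar F ℂ) := Fintype.ofFinite _
  exact h4_step5_core ρ hk (fun H => h4_s0 (h4_rho' ρ) H)
    (fun χ hχ h => s1_irr_of_inner χ hχ h) s1_pivec.2.2.2

end Cfsg.Agent.SLMin
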