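import Mathlib
import Cfsg.Agent.SLMin.H3_Defs
import Cfsg.Agent.SLMin.H5_Intertwiner

set_option autoImplicit false

/-!
# S2332 (helper5): the block embedding `SL_2(F) → SL_(m+3)(F)` on the coordinates `0, 1`

`h5_J A = diag(A, 1)`; its action on `e0`, `e1`; commutation with diagonal matrices (helper8's
`dmat`); membership of its values in the parabolic subgroups of `H3_Defs`.
-/

namespace Cfsg.Agent.SLMin

open Matrix Module
open Cfsg.Agent.Helper8.SLTrans (e0 e1 dvec dmat)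

variable {F : Type*} [Field F] {m : ℕ}

/-- `Fin 2 ⊕ Fin (m+1) ≃ Fin (m+3)`: `inl 0 ↦ 0`, `inl 1 ↦ 1`, `inr k ↦ k+2`. -/
def h5_e (m : ℕ) : Fin 2 ⊕ Fin (m + 1) ≃ Fin (m + 3) where
  toFun := Sum.elim ![0, 1] (fun k => k.succ.succ)
  invFun := fun i => Fin.cases (Sum.inl 0) (fun i' => Fin.cases (Sum.inl 1) (fun k => Sum.inr k) i') i
  left_inv := by
    rintro (i | k)
    · fin_cases i <;> rfl
    · rfl
  right_inv := by
    intro i
    refine Fin.cases ?_ (fun i' => Fin.cases ?_ (fun k => ?_) i') i <;> rfl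

theorem h5_e_inl0 : h5_e m (Sum.inl 0) = 0 := rfl
theorem h5_e_inl1 : h5_e m (Sum.inl 1) = 1 := rfl
theorem h5_e_inr (k : Fin (m + 1)) : h5_e m (Sum.inr k) = k.succ.succ := rfl
theorem h5_e_symm0 : (h5_e m).symm 0 = Sum.inl 0 := rfl
theorem h5_e_symm1 : (h5_e m).symm 1 = Sum.inl 1 := rfl

/-- The matrix `diag(A, 1)`. -/
def h5_JM (A : Matrix (Fin 2) (Fin 2) F) : Matrix (Fin (m + 3)) (Fin (m + 3)) F :=
  (Matrix.fromBlocks A 0 0 1).submatrix (h5_e m).symm (h5_e m).symm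

theorem h5_JM_apply (A : Matrix (Fin 2) (Fin 2) F) (a b : Fin 2 ⊕ Fin (m + 1)) :
    h5_JM (m := m) A (h5_e m a) (h5_e m b) = Matrix.fromBlocks A 0 0 1 a b := by
  simp [h5_JM]

theorem h5_JM_det (A : Matrix (Fin 2) (Fin 2) F) : (h5_JM (m := m) A).det = A.det := by
  rw [h5_JM, Matrix.det_submatrix_equiv_self, Matrix.det_fromBlocks_zero₂₁, Matrix.det_one, mul_one]

theorem h5_JM_mul (A B : Matrix (Fin 2) (Fin 2) F) :
    h5_JM (m := m) (A * B) = h5_JM A * h5_JM B := by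
  rw [h5_JM, h5_JM, h5_JM, Matrix.submatrix_mul_equiv, Matrix.fromBlocks_multiply]
  simp

theorem h5_JM_one : h5_JM (m := m) (1 : Matrix (Fin 2) (Fin 2) F) = 1 := by
  rw [h5_JM, Matrix.fromBlocks_one, Matrix.submatrix_one_equiv]

/-- The block embedding `SL_2(F) → SL_(m+3)(F)`, `A ↦ diag(A, 1)`. -/
def h5_J : SpecialLinearGroup (Fin 2) F →* SLn F m where
  toFun A := ⟨h5_JM (A : Matrix (Fin 2) (Fin 2) F), by rw [h5_JM_det]; exact A.2⟩
  map_one' := Subtype.ext h5_JM_one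
  map_mul' A B := Subtype.ext (h5_JM_mul _ _)

theorem h5_J_coe (A : SpecialLinearGroup (Fin 2) F) :
    ((h5_J A : SLn F m) : Matrix (Fin (m + 3)) (Fin (m + 3)) F) =
      h5_JM (A : Matrix (Fin 2) (Fin 2) F) := rfl

theorem h5_JM_e0 (A : Matrix (Fin 2) (Fin 2) F) :
    h5_JM (m := m) A *ᵥ e0 F m = A 0 0 • e0 F m + A 1 0 • e1 F m := by
  rw [Cfsg.Agent.Helper8.SLTrans.mulVec_e0]
  funext i
  obtain ⟨a, rfl⟩ := (h5_e m).surjective i
  rw [← h5_e_inl0, h5_JM_apply]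
  rcases a with a | k
  · fin_cases a <;> simp [e0, e1, ← h5_e_inl0, ← h5_e_inl1]
  · have h0 : (k.succ.succ : Fin (m + 3)) ≠ 0 := Fin.succ_ne_zero _
    have h1 : (k.succ.succ : Fin (m + 3)) ≠ 1 := by
      intro h
      have := congrArg Fin.val h
      simp at this
    simp [e0, e1, h5_e_inr, Pi.single_eq_of_ne h1]

theorem h5_JM_e1 (A : Matrix (Fin 2) (Fin 2) F) :
    h5_JM (m := m) A *ᵥ e1 F m = A 0 1 • e0 F m + A 1 1 • e1 F m := by
  rw [Cfsg.Agent.Helper8.SLTrans.mulVec_e1]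
  funext i
  obtain ⟨a, rfl⟩ := (h5_e m).surjective i
  rw [← h5_e_inl1, h5_JM_apply]
  rcases a with a | k
  · fin_cases a <;> simp [e0, e1, ← h5_e_inl0, ← h5_e_inl1]
  · have h0 : (k.succ.succ : Fin (m + 3)) ≠ 0 := Fin.succ_ne_zero _
    have h1 : (k.succ.succ : Fin (m + 3)) ≠ 1 := by
      intro h
      have := congrArg Fin.val h
      simp at this
    simp [e0, e1, h5_e_inr, Pi.single_eq_of_ne h1]

/-- Commutation of `diag(A, 1)` with diagonal matrices. -/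
theorem h5_diag_JM (d d' : Fin (m + 3) → F) (A A' : Matrix (Fin 2) (Fin 2) F)
    (h00 : d 0 * A 0 0 = A' 0 0 * d' 0) (h01 : d 0 * A 0 1 = A' 0 1 * d' 1)
    (h10 : d 1 * A 1 0 = A' 1 0 * d' 0) (h11 : d 1 * A 1 1 = A' 1 1 * d' 1)
    (hk : ∀ k : Fin (m + 1), d k.succ.succ = d' k.succ.succ) :
    Matrix.diagonal d * h5_JM A = h5_JM A' * Matrix.diagonal d' := by
  ext i j
  rw [Matrix.diagonal_mul, Matrix.mul_diagonal]
  obtain ⟨a, rfl⟩ := (h5_e m).surjective i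
  obtain ⟨b, rfl⟩ := (h5_e m).surjective j
  rw [h5_JM_apply, h5_JM_apply]
  rcases a with a | a <;> rcases b with b | b
  · fin_cases a <;> fin_cases b
    · simpa [h5_e_inl0] using h00
    · simpa [h5_e_inl0, h5_e_inl1] using h01
    · simpa [h5_e_inl0, h5_e_inl1] using h10
    · simpa [h5_e_inl1] using h11
  · simp
  · simp
  · by_cases hab : a = b
    · subst hab
      simp [h5_e_inr, hk]
    · simp [Matrix.one_apply_ne hab]


theorem h5_J_e0 (A : SpecialLinearGroup (Fin 2) F) :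
    ((h5_J A : SLn F m) : Matrix (Fin (m + 3)) (Fin (m + 3)) F) *ᵥ e0 F m =
      (A : Matrix (Fin 2) (Fin 2) F) 0 0 • e0 F m + (A : Matrix (Fin 2) (Fin 2) F) 1 0 • e1 F m :=
  h5_JM_e0 _

theorem h5_J_e1 (A : SpecialLinearGroup (Fin 2) F) :
    ((h5_J A : SLn F m) : Matrix (Fin (m + 3)) (Fin (m + 3)) F) *ᵥ e1 F m =
      (A : Matrix (Fin 2) (Fin 2) F) 0 1 • e0 F m + (A : Matrix (Fin 2) (Fin 2) F) 1 1 • e1 F m :=
  h5_JM_e1 _

theorem h5_dvec_ss (a b : Fˣ) (k : Fin (m + 1)) :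
    dvec (m := m) a b k.succ.succ =
      (Fin.cons ((((a * b)⁻¹ : Fˣ) : F)) (fun _ => (1 : F)) : Fin (m + 1) → F) k := rfl

/-- `dmat a b · diag(A,1) = diag(A',1) · dmat a' b'`. -/
theorem h5_dmat_J (a b a' b' : Fˣ) (A A' : SpecialLinearGroup (Fin 2) F)
    (h00 : (a : F) * (A : Matrix (Fin 2) (Fin 2) F) 0 0 = (A' : Matrix (Fin 2) (Fin 2) F) 0 0 * (a' : F))
    (h01 : (a : F) * (A : Matrix (Fin 2) (Fin 2) F) 0 1 = (A' : Matrix (Fin 2) (Fin 2) F) 0 1 * (b' : F))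
    (h10 : (b : F) * (A : Matrix (Fin 2) (Fin 2) F) 1 0 = (A' : Matrix (Fin 2) (Fin 2) F) 1 0 * (a' : F))
    (h11 : (b : F) * (A : Matrix (Fin 2) (Fin 2) F) 1 1 = (A' : Matrix (Fin 2) (Fin 2) F) 1 1 * (b' : F))
    (hab : a * b = a' * b') :
    dmat (m := m) a b * h5_J A = h5_J A' * dmat a' b' := by
  apply Subtype.ext
  change Matrix.diagonal (dvec a b) * h5_JM (A : Matrix (Fin 2) (Fin 2) F) =
    h5_JM (A' : Matrix (Fin 2) (Fin 2) F) * Matrix.diagonal (dvec a' b')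
  refine h5_diag_JM _ _ _ _ h00 h01 h10 h11 (fun k => ?_)
  rw [h5_dvec_ss, h5_dvec_ss, hab]

/-- `t x(b) = x(c⁻¹ b) t` for `t = diag(1, c, c⁻¹, 1, …)`. -/
theorem h5_t_x (c : Fˣ) (b : F) :
    dmat (m := m) 1 c * h5_J (s7_x b) = h5_J (s7_x (((c⁻¹ : Fˣ) : F) * b)) * dmat 1 c := by
  refine h5_dmat_J 1 c 1 c _ _ ?_ ?_ ?_ ?_ rfl <;> simp [s7_x]
  have hc : (c : F) ≠ 0 := c.ne_zero
  field_simp

/-- `t s = s t'` for `t = diag(1, c, c⁻¹, 1, …)`, `t' = diag(c, 1, c⁻¹, 1, …)`. -/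
theorem h5_t_s (c : Fˣ) :
    dmat (m := m) 1 c * h5_J (s7_s : SpecialLinearGroup (Fin 2) F) = h5_J s7_s * dmat c 1 := by
  refine h5_dmat_J 1 c c 1 _ _ ?_ ?_ ?_ ?_ (by rw [one_mul, mul_one]) <;> simp [s7_s]

/-- `t' = h(c) t`. -/
theorem h5_t'_eq (c : Fˣ) :
    dmat (m := m) c 1 = h5_J (s7_h c) * dmat 1 c := by
  have h := h5_dmat_J (m := m) c 1 1 c (1 : SpecialLinearGroup (Fin 2) F) (s7_h c)
    (by simp [s7_h]) (by simp [s7_h]) (by simp [s7_h]) (by simp [s7_h])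
    (by rw [one_mul, mul_one])
  rwa [map_one, mul_one] at h

/-! ### Membership in the subgroups of `H3_Defs` -/

/-- A group element mapping a subspace into itself stabilises it. -/
theorem h5_mem_stabS (S : Submodule F (Fin (m + 3) → F)) (g : SLn F m)
    (h : ∀ x ∈ S, (g : Matrix (Fin (m + 3)) (Fin (m + 3)) F) *ᵥ x ∈ S) : g ∈ s_stabS S := by
  rw [s_mem_stabS]
  intro x
  refine ⟨fun hx => ?_, h x⟩
  have hf : ∀ x ∈ S, Matrix.mulVecLin (g : Matrix (Fin (m + 3)) (Fin (m + 3)) F) x ∈ S :=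
    fun x hx => h x hx
  have hinj : Function.Injective
      ((Matrix.mulVecLin (g : Matrix (Fin (m + 3)) (Fin (m + 3)) F)).restrict hf) := by
    intro a b hab
    have h1 := congrArg Subtype.val hab
    rw [LinearMap.coe_restrict_apply, LinearMap.coe_restrict_apply, Matrix.mulVecLin_apply,
      Matrix.mulVecLin_apply] at h1
    apply Subtype.ext
    rw [← s_inv_mulVec g (a : Fin (m + 3) → F), h1, s_inv_mulVec]
  obtain ⟨⟨x', hx'⟩, hxx⟩ := (LinearMap.injective_iff_surjective.mp hinj) ⟨_, hx⟩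
  have h1 := congrArg Subtype.val hxx
  rw [LinearMap.coe_restrict_apply, Matrix.mulVecLin_apply] at h1
  have h2 : x' = x := by
    rw [← s_inv_mulVec g x', h1, s_inv_mulVec]
  rw [← h2]
  exact hx'

theorem h5_e0_mem_L0 : e0 F m ∈ s_L0 F m := Submodule.mem_span_singleton_self _

theorem h5_e0_mem_E : e0 F m ∈ s_E F m := Submodule.subset_span (by simp)

theorem h5_e1_mem_E : e1 F m ∈ s_E F m := Submodule.subset_span (by simp)

theorem h5_L0_le_E : s_L0 F m ≤ s_E F m :=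
  Submodule.span_mono (by simp)

/-- Two vectors of `E` as images of `e0`, `e1` ⇒ in the stabiliser of `E`. -/
theorem h5_mem_stabE (g : SLn F m)
    (h0 : (g : Matrix (Fin (m + 3)) (Fin (m + 3)) F) *ᵥ e0 F m ∈ s_E F m)
    (h1 : (g : Matrix (Fin (m + 3)) (Fin (m + 3)) F) *ᵥ e1 F m ∈ s_E F m) :
    g ∈ s_stabS (s_E F m) := by
  apply h5_mem_stabS
  intro x hx
  obtain ⟨a, b, rfl⟩ := Submodule.mem_span_pair.mp hx
  rw [Matrix.mulVec_add, Matrix.mulVec_smul, Matrix.mulVec_smul]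
  exact add_mem (Submodule.smul_mem _ _ h0) (Submodule.smul_mem _ _ h1)

theorem h5_mem_stabL0 (g : SLn F m)
    (h0 : (g : Matrix (Fin (m + 3)) (Fin (m + 3)) F) *ᵥ e0 F m ∈ s_L0 F m) :
    g ∈ s_stabS (s_L0 F m) := by
  apply h5_mem_stabS
  intro x hx
  obtain ⟨a, rfl⟩ := Submodule.mem_span_singleton.mp hx
  rw [Matrix.mulVec_smul]
  exact Submodule.smul_mem _ _ h0

theorem h5_J_mem_stabE (A : SpecialLinearGroup (Fin 2) F) :
    (h5_J A : SLn F m) ∈ s_stabS (s_E F m) := by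
  apply h5_mem_stabE
  · rw [h5_J_e0]
    exact add_mem (Submodule.smul_mem _ _ h5_e0_mem_E) (Submodule.smul_mem _ _ h5_e1_mem_E)
  · rw [h5_J_e1]
    exact add_mem (Submodule.smul_mem _ _ h5_e0_mem_E) (Submodule.smul_mem _ _ h5_e1_mem_E)

theorem h5_J_h_e0 (a : Fˣ) :
    ((h5_J (s7_h a) : SLn F m) : Matrix (Fin (m + 3)) (Fin (m + 3)) F) *ᵥ e0 F m =
      (a : F) • e0 F m := by
  rw [h5_J_e0]
  simp [s7_h]

theorem h5_J_h_mem_P (a : Fˣ) : (h5_J (s7_h a) : SLn F m) ∈ s_P F m := by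
  refine ⟨h5_mem_stabL0 _ ?_, h5_J_mem_stabE _⟩
  rw [h5_J_h_e0]
  exact Submodule.smul_mem _ _ h5_e0_mem_L0

theorem h5_J_x_e0 (b : F) :
    ((h5_J (s7_x b) : SLn F m) : Matrix (Fin (m + 3)) (Fin (m + 3)) F) *ᵥ e0 F m = e0 F m := by
  rw [h5_J_e0]
  simp [s7_x]

theorem h5_J_x_e1 (b : F) :
    ((h5_J (s7_x b) : SLn F m) : Matrix (Fin (m + 3)) (Fin (m + 3)) F) *ᵥ e1 F m =
      b • e0 F m + e1 F m := by
  rw [h5_J_e1]
  simp [s7_x]

theorem h5_J_x_mem_Q (b : F) : (h5_J (s7_x b) : SLn F m) ∈ s_Q F m := by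
  rw [s_mem_Q]
  refine ⟨h5_J_x_e0 b, ?_⟩
  rw [h5_J_x_e1, add_sub_cancel_right]
  exact Submodule.smul_mem _ _ h5_e0_mem_L0

theorem h5_RE_le_Q : s_RE F m ≤ s_Q F m := by
  intro r hr
  rw [s_mem_Q]
  refine ⟨hr.1, ?_⟩
  have h1 : (r : Matrix (Fin (m + 3)) (Fin (m + 3)) F) *ᵥ e1 F m = e1 F m := hr.2
  rw [h1, sub_self]
  exact Submodule.zero_mem _

/-- `Q = X · R^E`. -/
theorem h5_Q_decomp {g : SLn F m} (hg : g ∈ s_Q F m) :
    ∃ β : F, (h5_J (s7_x β))⁻¹ * g ∈ s_RE F m := by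
  rw [s_mem_Q] at hg
  obtain ⟨hg0, hg1⟩ := hg
  obtain ⟨β, hβ⟩ := Submodule.mem_span_singleton.mp hg1
  refine ⟨β, ?_, ?_⟩
  · change ((((h5_J (s7_x β))⁻¹ * g : SLn F m)) : Matrix (Fin (m + 3)) (Fin (m + 3)) F) *ᵥ
      e0 F m = e0 F m
    rw [s_coe_mul, ← Matrix.mulVec_mulVec, hg0]
    conv_lhs => rw [← h5_J_x_e0 (m := m) β]
    exact s_inv_mulVec _ _
  · change ((((h5_J (s7_x β))⁻¹ * g : SLn F m)) : Matrix (Fin (m + 3)) (Fin (m + 3)) F) *ᵥ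
      e1 F m = e1 F m
    rw [s_coe_mul, ← Matrix.mulVec_mulVec]
    have h1 : (g : Matrix (Fin (m + 3)) (Fin (m + 3)) F) *ᵥ e1 F m =
        ((h5_J (s7_x β) : SLn F m) : Matrix (Fin (m + 3)) (Fin (m + 3)) F) *ᵥ e1 F m := by
      rw [h5_J_x_e1, hβ]
      abel
    rw [h1]
    exact s_inv_mulVec _ _

/-- `R^E` is normalised by the stabiliser of `E`. -/
theorem h5_RE_conj {k r : SLn F m} (hk : k ∈ s_stabS (s_E F m)) (hr : r ∈ s_RE F m) :
    k⁻¹ * r * k ∈ s_RE F m := by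
  have hfix : ∀ x ∈ s_E F m, (r : Matrix (Fin (m + 3)) (Fin (m + 3)) F) *ᵥ x = x := by
    intro x hx
    obtain ⟨a, b, rfl⟩ := Submodule.mem_span_pair.mp hx
    have h0 : (r : Matrix (Fin (m + 3)) (Fin (m + 3)) F) *ᵥ e0 F m = e0 F m := hr.1
    have h1 : (r : Matrix (Fin (m + 3)) (Fin (m + 3)) F) *ᵥ e1 F m = e1 F m := hr.2
    rw [Matrix.mulVec_add, Matrix.mulVec_smul, Matrix.mulVec_smul, h0, h1]
  have hconj : ∀ x ∈ s_E F m,
      ((k⁻¹ * r * k : SLn F m) : Matrix (Fin (m + 3)) (Fin (m + 3)) F) *ᵥ x = x := by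
    intro x hx
    rw [s_coe_mul, s_coe_mul, ← Matrix.mulVec_mulVec, ← Matrix.mulVec_mulVec,
      hfix _ (((s_mem_stabS _ k).mp hk x).mpr hx)]
    exact s_inv_mulVec _ _
  exact ⟨hconj _ h5_e0_mem_E, hconj _ h5_e1_mem_E⟩

/-- `P` normalises `Q`. -/
theorem h5_P_conj_Q {p g : SLn F m} (hp : p ∈ s_P F m) (hg : g ∈ s_Q F m) :
    p⁻¹ * g * p ∈ s_Q F m := by
  obtain ⟨hpL, hpE⟩ := hp
  rw [s_mem_Q] at hg
  obtain ⟨hg0, hg1⟩ := hg
  obtain ⟨β, hβ⟩ := Submodule.mem_span_singleton.mp hg1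
  have hg1' : (g : Matrix (Fin (m + 3)) (Fin (m + 3)) F) *ᵥ e1 F m = e1 F m + β • e0 F m := by
    rw [hβ]; abel
  obtain ⟨a, ha⟩ := Submodule.mem_span_singleton.mp
    (((s_mem_stabS _ p).mp hpL (e0 F m)).mpr h5_e0_mem_L0)
  obtain ⟨α, δ, hαδ⟩ := Submodule.mem_span_pair.mp
    (((s_mem_stabS _ p).mp hpE (e1 F m)).mpr h5_e1_mem_E)
  have hpi : ((p⁻¹ : SLn F m) : Matrix (Fin (m + 3)) (Fin (m + 3)) F) *ᵥ e0 F m ∈ s_L0 F m :=
    ((s_mem_stabS _ p⁻¹).mp ((s_stabS (s_L0 F m)).inv_mem hpL) (e0 F m)).mpr h5_e0_mem_L0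
  rw [s_mem_Q]
  constructor
  · rw [s_coe_mul, s_coe_mul, ← Matrix.mulVec_mulVec, ← Matrix.mulVec_mulVec, ← ha,
      Matrix.mulVec_smul, hg0, ha]
    exact s_inv_mulVec _ _
  · have h1 : (g : Matrix (Fin (m + 3)) (Fin (m + 3)) F) *ᵥ
        ((p : Matrix (Fin (m + 3)) (Fin (m + 3)) F) *ᵥ e1 F m) =
        (p : Matrix (Fin (m + 3)) (Fin (m + 3)) F) *ᵥ e1 F m + (δ * β) • e0 F m := by
      rw [← hαδ, Matrix.mulVec_add, Matrix.mulVec_smul, Matrix.mulVec_smul, hg0, hg1', smul_add,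
        smul_smul]
      abel
    rw [s_coe_mul, s_coe_mul, ← Matrix.mulVec_mulVec, ← Matrix.mulVec_mulVec, h1,
      Matrix.mulVec_add, s_inv_mulVec, Matrix.mulVec_smul, add_sub_cancel_left]
    exact Submodule.smul_mem _ _ hpi

/-- `P = H · P^0`. -/
theorem h5_P_decomp {g : SLn F m} (hg : g ∈ s_P F m) :
    ∃ a : Fˣ, (h5_J (s7_h a))⁻¹ * g ∈ s_P0 F m := by
  obtain ⟨hgL, hgE⟩ := hg
  obtain ⟨a, ha⟩ := Submodule.mem_span_singleton.mp
    (((s_mem_stabS _ g).mp hgL (e0 F m)).mpr h5_e0_mem_L0)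
  have ha0 : a ≠ 0 := by
    intro h
    rw [h, zero_smul] at ha
    exact Cfsg.Agent.Helper8.SLTrans.mulVec_ne_zero g
      (Cfsg.Agent.Helper8.SLTrans.e0_ne_zero (F := F) (m := m)) ha.symm
  refine ⟨Units.mk0 a ha0, ?_, ?_⟩
  · change ((((h5_J (s7_h (Units.mk0 a ha0)))⁻¹ * g : SLn F m)) :
      Matrix (Fin (m + 3)) (Fin (m + 3)) F) *ᵥ e0 F m = e0 F m
    rw [s_coe_mul, ← Matrix.mulVec_mulVec, ← ha]
    have h1 : a • e0 F m = ((h5_J (s7_h (Units.mk0 a ha0)) : SLn F m) :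
        Matrix (Fin (m + 3)) (Fin (m + 3)) F) *ᵥ e0 F m := by
      rw [h5_J_h_e0, Units.val_mk0]
    rw [h1]
    exact s_inv_mulVec _ _
  · exact (s_stabS (s_E F m)).mul_mem ((s_stabS (s_E F m)).inv_mem (h5_J_mem_stabE _)) hgE

/-- The torus element `diag(1, c, c⁻¹, 1, …)` lies in `P^0`. -/
theorem h5_dmat_mem_P0 (c : Fˣ) : dmat (m := m) 1 c ∈ s_P0 F m := by
  refine ⟨?_, h5_mem_stabE _ ?_ ?_⟩
  · change (dmat (m := m) 1 c : Matrix (Fin (m + 3)) (Fin (m + 3)) F) *ᵥ e0 F m = e0 F m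
    rw [Cfsg.Agent.Helper8.SLTrans.dmat_e0, Units.val_one, one_smul]
  · rw [Cfsg.Agent.Helper8.SLTrans.dmat_e0]
    exact Submodule.smul_mem _ _ h5_e0_mem_E
  · rw [Cfsg.Agent.Helper8.SLTrans.dmat_e1]
    exact Submodule.smul_mem _ _ h5_e1_mem_E

end Cfsg.Agent.SLMin
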