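import Mathlib
import Cfsg.Agent.SLMin.H3_Defs
import Cfsg.Agent.SLMin.H5_Intertwiner
import Cfsg.Agent.SLMin.H5_Blk

set_option autoImplicit false

/-!
# S2332, piece S8 (helper5): the bad case ⇒ `y` is `P`-fixed

If `C_V(Q) = ℂ y` and `y` is `P^0`-fixed, then `y` is `P`-fixed (blueprint Step 6): the torus
`H = {diag(a, a⁻¹, 1, …)}` acts on `y` by a character `ϑ`; the intertwined vector `y_s` lies in
`C_V(Q) = ℂ y` and is nonzero; the torus element `t = diag(1, c, c⁻¹, 1, …) ∈ P^0` fixes `y`, hence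
`y_s`, but acts on `y_s` by `ϑ(c)`; so `ϑ = 1`.
-/

namespace Cfsg.Agent.SLMin

open Matrix Module
open Cfsg.Agent.Helper8.SLTrans (e0 e1 dvec dmat)

variable {F : Type*} [Field F] [Fintype F] [DecidableEq F] {m : ℕ}
variable {V : Type*} [AddCommGroup V] [Module ℂ V] [FiniteDimensional ℂ V]

omit [DecidableEq F] [FiniteDimensional ℂ V] in
/-- `y_s` is `Q`-fixed when `y` is. -/
theorem h5_ys_mem_fixQ (ρ : Representation ℂ (SLn F m) V) (y : V)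
    (hyQ : y ∈ s_fix ρ (s_Q F m)) :
    (∑ b : F, ρ (h5_J (s7_x b * s7_s)) y) ∈ s_fix ρ (s_Q F m) := by
  rw [s_mem_fix]
  intro g hg
  obtain ⟨β, hβ⟩ := h5_Q_decomp hg
  rw [map_sum]
  refine Fintype.sum_equiv (Equiv.addLeft β) _ _ (fun b => ?_)
  rw [Equiv.coe_addLeft]
  have hk : (h5_J (s7_x b * s7_s) : SLn F m) ∈ s_stabS (s_E F m) := h5_J_mem_stabE _
  have hr := h5_RE_le_Q (h5_RE_conj hk hβ)
  have h1 : g * h5_J (s7_x b * s7_s) =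
      h5_J (s7_x (β + b) * s7_s) *
        ((h5_J (s7_x b * s7_s))⁻¹ * ((h5_J (s7_x β))⁻¹ * g) * h5_J (s7_x b * s7_s)) := by
    rw [h5_s7_x_add, mul_assoc (s7_x β), map_mul h5_J (s7_x β)]
    group
  rw [← h5_rho_mul, h1, h5_rho_mul, (s_mem_fix ρ _ y).mp hyQ _ hr]

theorem s8_P_fixed (ρ : Representation ℂ (SLn F m) V)
    (hk : finrank ℂ (s_fix ρ (s_Q F m)) = 1)
    (hP0 : s_fix ρ (s_Q F m) ≤ s_fix ρ (s_P0 F m)) :
    s_fix ρ (s_Q F m) ≤ s_fix ρ (s_P F m) := by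
  obtain ⟨⟨y, hyQ⟩, hy0, hspan⟩ := finrank_eq_one_iff'.mp hk
  have hy : y ≠ 0 := fun h => hy0 (Subtype.ext h)
  have hspan' : ∀ w ∈ s_fix ρ (s_Q F m), ∃ c : ℂ, c • y = w := by
    intro w hw
    obtain ⟨c, hc⟩ := hspan ⟨w, hw⟩
    exact ⟨c, congrArg Subtype.val hc⟩
  have hyQ' : ∀ g ∈ s_Q F m, ρ g y = y := (s_mem_fix ρ _ y).mp hyQ
  have hyP0 : ∀ g ∈ s_P0 F m, ρ g y = y := (s_mem_fix ρ _ y).mp (hP0 hyQ)
  -- `P` normalises `Q`
  have hPy : ∀ p ∈ s_P F m, ρ p y ∈ s_fix ρ (s_Q F m) := by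
    intro p hp
    rw [s_mem_fix]
    intro g hg
    have h1 : g * p = p * (p⁻¹ * g * p) := by group
    rw [← h5_rho_mul, h1, h5_rho_mul, hyQ' _ (h5_P_conj_Q hp hg)]
  -- the character `ϑ` of the torus
  have hϑ : ∀ a : Fˣ, ∃ c : ℂ, c • y = ρ (h5_J (s7_h a)) y :=
    fun a => hspan' _ (hPy _ (h5_J_h_mem_P a))
  choose ϑ hϑ using hϑ
  -- the intertwined vector
  have hysQ := h5_ys_mem_fixQ ρ y hyQ
  obtain ⟨c0, hc0⟩ := hspan' _ hysQ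
  have hys0 : (∑ b : F, ρ (h5_J (s7_x b * s7_s)) y) ≠ 0 :=
    h5_s7_ne (ρ.comp h5_J) y hy (fun b => hyQ' _ (h5_J_x_mem_Q b)) ϑ (fun a => (hϑ a).symm)
  -- the torus argument
  have hϑ1 : ∀ c : Fˣ, ϑ c = 1 := by
    intro c
    have ht : ρ (dmat 1 c) y = y := hyP0 _ (h5_dmat_mem_P0 c)
    have ht' : ρ (dmat c 1) y = ϑ c • y := by
      rw [h5_t'_eq, h5_rho_mul, ht, hϑ]
    have h1 := s7_torus h5_J ρ y (dmat 1 c) (dmat c 1) c⁻¹ (h5_t_x c) (h5_t_s c) (ϑ c) ht'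
    have h2 : ρ (dmat 1 c) (∑ b : F, ρ (h5_J (s7_x b * s7_s)) y) =
        ∑ b : F, ρ (h5_J (s7_x b * s7_s)) y := by
      rw [← hc0, map_smul, ht]
    rw [h2] at h1
    by_contra hne
    apply hys0
    have h3 : (ϑ c - 1) • (∑ b : F, ρ (h5_J (s7_x b * s7_s)) y) = 0 := by
      rw [sub_smul, one_smul, ← h1, sub_self]
    rcases smul_eq_zero.mp h3 with h | h
    · exact absurd (sub_eq_zero.mp h) hne
    · exact h
  -- conclusion
  intro w hw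
  rw [s_mem_fix]
  intro g hg
  obtain ⟨c, rfl⟩ := hspan' w hw
  rw [map_smul]
  congr 1
  obtain ⟨a, ha⟩ := h5_P_decomp hg
  have h1 : g = h5_J (s7_h a) * ((h5_J (s7_h a))⁻¹ * g) := by group
  rw [h1, h5_rho_mul, hyP0 _ ha, ← hϑ, hϑ1, one_smul]

end Cfsg.Agent.SLMin
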