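import Mathlib
import Cfsg.Agent.SLMin.H6_Basic

set_option autoImplicit false
set_option linter.unusedSectionVars false
set_option linter.unusedVariables false

/-!
S2332, piece S5 (helper6): **Theorem C**.  If `C_V(Q) = 0` then the `q^(2(m+1))` translates
`ρ(Γ(a,b)) C_V(R^E)` (`Γ(a,b) : e0 ↦ e0 + a, e1 ↦ e1 + b`, `a, b` supported on the coordinates
`≥ 2`) are independent, so `q^(2(m+1)) · dim C_V(R^E) ≤ dim V`.
-/

namespace Cfsg.Agent.SLMin

open Matrix Module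
open Cfsg.Agent.Helper8.SLTrans (e0 e1 exists_mulVec_e0_e1 e0_ne_zero)
open Cfsg.Agent.MinIdx (h8_tv h8_tvM h8_tv_mulVec h8_tv_inv h8_tv_congr)

variable {F : Type*} [Field F] [Fintype F] [DecidableEq F] {m : ℕ}
variable {V : Type*} [AddCommGroup V] [Module ℂ V] [FiniteDimensional ℂ V]

/-- A vector of `C_V(R^E)` fixed by a full root group `{T(u, sφ)}` of `GL(E)` is `0` when
`C_V(Q) = 0`. -/
theorem h6_root_fixed_zero (ρ : Representation ℂ (SLn F m) V) (hQ : s_fix ρ (s_Q F m) = ⊥)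
    (φ : Fin (m + 3) → F) (hφ : φ 0 ≠ 0 ∨ φ 1 ≠ 0) (y : V) (hyR : y ∈ s_fix ρ (s_RE F m))
    (hyτ : ∀ (s : F) (h : (s • φ) ⬝ᵥ (φ 1 • e0 F m - φ 0 • e1 F m) = 0),
      ρ (h8_tv (φ 1 • e0 F m - φ 0 • e1 F m) (s • φ) h) y = y) : y = 0 := by
  set u : Fin (m + 3) → F := φ 1 • e0 F m - φ 0 • e1 F m with hu
  have hφu : φ ⬝ᵥ u = 0 := by
    rw [hu, dotProduct_sub, dotProduct_smul, dotProduct_smul, h6_dot_e0, h6_dot_e1, smul_eq_mul,
      smul_eq_mul]
    ring
  obtain ⟨c0, c1, hc⟩ : ∃ c0 c1 : F, φ 0 * c0 + φ 1 * c1 = 1 := by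
    rcases hφ with h | h
    · exact ⟨(φ 0)⁻¹, 0, by rw [mul_inv_cancel₀ h, mul_zero, add_zero]⟩
    · exact ⟨0, (φ 1)⁻¹, by rw [mul_inv_cancel₀ h, mul_zero, zero_add]⟩
  set u' : Fin (m + 3) → F := c0 • e0 F m + c1 • e1 F m with hu'
  have hφu' : φ ⬝ᵥ u' = 1 := by
    rw [hu', dotProduct_add, dotProduct_smul, dotProduct_smul, h6_dot_e0, h6_dot_e1, smul_eq_mul,
      smul_eq_mul]
    linear_combination hc
  have hu0 : u ≠ 0 := by
    intro h
    rcases hφ with h' | h'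
    · apply h'
      have h1 := congrFun h 1
      simp [hu, h6_e0_apply, h6_e1_apply] at h1
      exact h1
    · apply h'
      have h1 := congrFun h 0
      simp [hu, h6_e0_apply, h6_e1_apply] at h1
      exact h1
  have hu'0 : u' ≠ 0 := by
    intro h
    rw [h, dotProduct_zero] at hφu'
    exact zero_ne_one hφu'
  have hind : ∀ c : F, u' ≠ c • u := by
    intro c h
    rw [h, dotProduct_smul, hφu, smul_zero] at hφu'
    exact zero_ne_one hφu'
  obtain ⟨h, hh0, hh1⟩ := exists_mulVec_e0_e1 hu0 hu'0 hind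
  have he0 : e0 F m = c1 • u + φ 0 • u' := by
    rw [hu, hu']
    linear_combination (norm := module) (-1 : F) • (hc • e0 F m)
  have he1 : e1 F m = (-c0) • u + φ 1 • u' := by
    rw [hu, hu']
    linear_combination (norm := module) (-1 : F) • (hc • e1 F m)
  have hinv0 : ((h⁻¹ : SLn F m) : Matrix (Fin (m + 3)) (Fin (m + 3)) F) *ᵥ u = e0 F m := by
    rw [← hh0]
    exact s_inv_mulVec h _
  have hinv1 : ((h⁻¹ : SLn F m) : Matrix (Fin (m + 3)) (Fin (m + 3)) F) *ᵥ u' = e1 F m := by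
    rw [← hh1]
    exact s_inv_mulVec h _
  have hz : ρ h⁻¹ y ∈ s_fix ρ (s_Q F m) := by
    intro k hk
    obtain ⟨hk0, hk1⟩ := (s_mem_Q k).mp hk
    obtain ⟨c, hc'⟩ := Submodule.mem_span_singleton.mp hk1
    have hk1' : (k : Matrix (Fin (m + 3)) (Fin (m + 3)) F) *ᵥ e1 F m = e1 F m + c • e0 F m := by
      rw [hc']
      abel
    have hk'u : ((h * k * h⁻¹ : SLn F m) : Matrix (Fin (m + 3)) (Fin (m + 3)) F) *ᵥ u = u := by
      rw [s_coe_mul, s_coe_mul, ← mulVec_mulVec, ← mulVec_mulVec, hinv0, hk0, hh0]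
    have hk'u' : ((h * k * h⁻¹ : SLn F m) : Matrix (Fin (m + 3)) (Fin (m + 3)) F) *ᵥ u'
        = u' + c • u := by
      rw [s_coe_mul, s_coe_mul, ← mulVec_mulVec, ← mulVec_mulVec, hinv1, hk1', mulVec_add,
        mulVec_smul, hh0, hh1]
    have hτd : (c • φ) ⬝ᵥ u = 0 := by rw [smul_dotProduct, hφu, smul_zero]
    have hτu : (h8_tv u (c • φ) hτd).1 *ᵥ u = u := by
      rw [h8_tv_mulVec, hτd, zero_smul, add_zero]
    have hτu' : (h8_tv u (c • φ) hτd).1 *ᵥ u' = u' + c • u := by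
      rw [h8_tv_mulVec, smul_dotProduct, hφu', smul_eq_mul, mul_one]
    have hr : (h8_tv u (c • φ) hτd)⁻¹ * (h * k * h⁻¹) ∈ s_RE F m := by
      rw [h6_mem_RE]
      have h1 : (((h8_tv u (c • φ) hτd)⁻¹ * (h * k * h⁻¹) : SLn F m) :
          Matrix (Fin (m + 3)) (Fin (m + 3)) F) *ᵥ u = u := by
        rw [s_coe_mul, ← mulVec_mulVec, hk'u]
        have h0 := s_inv_mulVec (h8_tv u (c • φ) hτd) u
        rw [hτu] at h0
        exact h0
      have h2 : (((h8_tv u (c • φ) hτd)⁻¹ * (h * k * h⁻¹) : SLn F m) :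
          Matrix (Fin (m + 3)) (Fin (m + 3)) F) *ᵥ u' = u' := by
        rw [s_coe_mul, ← mulVec_mulVec, hk'u', ← hτu']
        exact s_inv_mulVec _ u'
      constructor
      · rw [he0, mulVec_add, mulVec_smul, mulVec_smul, h1, h2]
      · rw [he1, mulVec_add, mulVec_smul, mulVec_smul, h1, h2]
    have hk'y : ρ (h * k * h⁻¹) y = y := by
      have h3 : h * k * h⁻¹ = h8_tv u (c • φ) hτd * ((h8_tv u (c • φ) hτd)⁻¹ * (h * k * h⁻¹)) := by
        group
      rw [h3, h6_rho_mul, hyR _ hr, hyτ c hτd]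
    have h4 : k * h⁻¹ = h⁻¹ * (h * k * h⁻¹) := by group
    rw [← h6_rho_mul, h4, h6_rho_mul, hk'y]
  rw [hQ, Submodule.mem_bot] at hz
  have h5 := h6_rho_self_inv ρ h y
  rw [hz, map_zero] at h5
  exact h5.symm

/-- `(0, 0, a)`. -/
def h6_ext2 (a : Fin (m + 1) → F) : Fin (m + 3) → F := Fin.cons 0 (Fin.cons 0 a)

theorem h6_ext2_zero (a : Fin (m + 1) → F) : h6_ext2 a 0 = 0 := rfl

theorem h6_ext2_one (a : Fin (m + 1) → F) : h6_ext2 a 1 = 0 := rfl

theorem h6_ext2_succ (a : Fin (m + 1) → F) (l : Fin (m + 1)) : h6_ext2 a l.succ.succ = a l := rfl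

theorem h6_ext2_add (a a' : Fin (m + 1) → F) : h6_ext2 (a + a') = h6_ext2 a + h6_ext2 a' := by
  funext i
  refine Fin.cases ?_ (fun i => ?_) i
  · simp [h6_ext2]
  · refine Fin.cases ?_ (fun i => ?_) i
    · simp [h6_ext2]
    · simp [h6_ext2]

theorem h6_single0_dot (a : Fin (m + 1) → F) :
    (Pi.single 0 1 : Fin (m + 3) → F) ⬝ᵥ h6_ext2 a = 0 := by
  rw [single_dotProduct, h6_ext2_zero, mul_zero]

theorem h6_single1_dot (a : Fin (m + 1) → F) :
    (Pi.single 1 1 : Fin (m + 3) → F) ⬝ᵥ h6_ext2 a = 0 := by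
  rw [single_dotProduct, h6_ext2_one, mul_zero]

/-- `Γ(a,b) : e0 ↦ e0 + a, e1 ↦ e1 + b`, identity on the other basis vectors. -/
def h6_Gam (a b : Fin (m + 1) → F) : SLn F m :=
  h8_tv (h6_ext2 a) (Pi.single 0 1) (h6_single0_dot a) *
    h8_tv (h6_ext2 b) (Pi.single 1 1) (h6_single1_dot b)

theorem h6_Gam_mulVec (a b : Fin (m + 1) → F) (x : Fin (m + 3) → F) :
    ((h6_Gam a b : SLn F m) : Matrix (Fin (m + 3)) (Fin (m + 3)) F) *ᵥ x
      = x + x 0 • h6_ext2 a + x 1 • h6_ext2 b := by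
  unfold h6_Gam
  rw [s_coe_mul, ← mulVec_mulVec, h8_tv_mulVec, h8_tv_mulVec, single_dotProduct,
    dotProduct_add, single_dotProduct, dotProduct_smul, h6_single0_dot, smul_zero, add_zero,
    one_mul, one_mul]
  abel

theorem h6_Gam_mul (a b a' b' : Fin (m + 1) → F) :
    h6_Gam a b * h6_Gam a' b' = h6_Gam (a + a') (b + b') := by
  apply h6_ext
  intro x
  rw [s_coe_mul, ← mulVec_mulVec, h6_Gam_mulVec, h6_Gam_mulVec, h6_Gam_mulVec, h6_ext2_add,
    h6_ext2_add]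
  simp only [Pi.add_apply, Pi.smul_apply, h6_ext2_zero, h6_ext2_one, smul_zero, add_zero]
  module

theorem h6_Gam_inv_mul (a b a' b' : Fin (m + 1) → F) :
    (h6_Gam a b)⁻¹ * h6_Gam a' b' = h6_Gam (a' - a) (b' - b) := by
  rw [inv_mul_eq_iff_eq_mul, h6_Gam_mul]
  congr 1 <;> abel

/-- the key vanishing: `π_E` kills `ρ(Γ(a,b)) C_V(R^E)` for `(a,b) ≠ 0`. -/
theorem h6_avg_Gam_zero (ρ : Representation ℂ (SLn F m) V) (hQ : s_fix ρ (s_Q F m) = ⊥)
    (a b : Fin (m + 1) → F) (l : Fin (m + 1)) (hl : a l ≠ 0 ∨ b l ≠ 0) (x : V)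
    (hx : x ∈ s_fix ρ (s_RE F m)) :
    h6_avg ρ (s_RE F m) (ρ (h6_Gam a b) x) = 0 := by
  set φ : Fin (m + 3) → F :=
    Pi.single l.succ.succ 1 - a l • Pi.single 0 1 - b l • Pi.single 1 1 with hφ
  have hφdot : ∀ x : Fin (m + 3) → F, φ ⬝ᵥ x = x l.succ.succ - a l * x 0 - b l * x 1 := by
    intro x
    rw [hφ, sub_dotProduct, sub_dotProduct, smul_dotProduct, smul_dotProduct, single_dotProduct,
      single_dotProduct, single_dotProduct, one_mul, one_mul, one_mul, smul_eq_mul, smul_eq_mul]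
  have hφ0 : φ 0 = - a l := by
    rw [← h6_dot_e0 φ, hφdot, h6_e0_apply, h6_e0_apply, h6_e0_apply]
    simp [Fin.succ_ne_zero]
  have hφ1 : φ 1 = - b l := by
    rw [← h6_dot_e1 φ, hφdot, h6_e1_apply, h6_e1_apply, h6_e1_apply]
    have h10 : (0 : Fin (m + 3)) ≠ 1 := by
      intro h
      have := congrArg Fin.val h
      simp at this
    have hl1 : l.succ.succ ≠ (1 : Fin (m + 3)) := by
      intro h
      have := congrArg Fin.val h
      simp at this
    simp [h10, hl1]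
  have hφ' : φ 0 ≠ 0 ∨ φ 1 ≠ 0 := by
    rw [hφ0, hφ1]
    rcases hl with h | h
    · exact Or.inl (neg_ne_zero.mpr h)
    · exact Or.inr (neg_ne_zero.mpr h)
  apply h6_root_fixed_zero ρ hQ φ hφ' _ (h6_avg_mem_fix ρ _ _)
  intro s h
  set u : Fin (m + 3) → F := φ 1 • e0 F m - φ 0 • e1 F m with hu
  -- the root elements normalise `R^E`
  have hnorm : ∀ (s' : F) (h' : (s' • φ) ⬝ᵥ u = 0), ∀ r ∈ s_RE F m,
      (h8_tv u (s' • φ) h')⁻¹ * r * h8_tv u (s' • φ) h' ∈ s_RE F m := by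
    intro s' h' r hr
    rw [h6_mem_RE] at hr ⊢
    have hru : (r : Matrix (Fin (m + 3)) (Fin (m + 3)) F) *ᵥ u = u := by
      rw [hu, mulVec_sub, mulVec_smul, mulVec_smul, hr.1, hr.2]
    constructor
    · rw [s_coe_mul, s_coe_mul, ← mulVec_mulVec, ← mulVec_mulVec]
      have h1 : (r : Matrix (Fin (m + 3)) (Fin (m + 3)) F) *ᵥ ((h8_tv u (s' • φ) h').1 *ᵥ e0 F m)
          = (h8_tv u (s' • φ) h').1 *ᵥ e0 F m := by
        rw [h8_tv_mulVec, mulVec_add, mulVec_smul, hr.1, hru]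
      rw [h1]
      exact s_inv_mulVec _ _
    · rw [s_coe_mul, s_coe_mul, ← mulVec_mulVec, ← mulVec_mulVec]
      have h1 : (r : Matrix (Fin (m + 3)) (Fin (m + 3)) F) *ᵥ ((h8_tv u (s' • φ) h').1 *ᵥ e1 F m)
          = (h8_tv u (s' • φ) h').1 *ᵥ e1 F m := by
        rw [h8_tv_mulVec, mulVec_add, mulVec_smul, hr.2, hru]
      rw [h1]
      exact s_inv_mulVec _ _
  have hτ1 : ∀ r ∈ s_RE F m, (h8_tv u (s • φ) h)⁻¹ * r * h8_tv u (s • φ) h ∈ s_RE F m :=
    hnorm s h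
  have hτ2 : ∀ r ∈ s_RE F m, h8_tv u (s • φ) h * r * (h8_tv u (s • φ) h)⁻¹ ∈ s_RE F m := by
    have hneg : ((-s) • φ) ⬝ᵥ u = 0 := by
      rw [neg_smul, neg_dotProduct, h, neg_zero]
    have hinv : (h8_tv u (s • φ) h)⁻¹ = h8_tv u ((-s) • φ) hneg := by
      rw [h8_tv_inv]
      exact h8_tv_congr _ _ _ _ (by rw [neg_smul])
    intro r hr
    have h1 := hnorm (-s) hneg r hr
    rw [← hinv, inv_inv] at h1
    exact h1
  rw [← h6_avg_conj ρ _ _ hτ1 hτ2]
  congr 1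
  have hmem : (h6_Gam a b)⁻¹ * h8_tv u (s • φ) h * h6_Gam a b ∈ s_RE F m := by
    rw [h6_mem_RE]
    constructor
    · rw [s_coe_mul, s_coe_mul, ← mulVec_mulVec, ← mulVec_mulVec]
      have h1 : (h8_tv u (s • φ) h).1 *ᵥ ((h6_Gam a b : SLn F m).1 *ᵥ e0 F m)
          = (h6_Gam a b : SLn F m).1 *ᵥ e0 F m := by
        rw [h8_tv_mulVec]
        have h2 : (s • φ) ⬝ᵥ ((h6_Gam a b : SLn F m).1 *ᵥ e0 F m) = 0 := by
          rw [smul_dotProduct, hφdot, h6_Gam_mulVec]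
          simp only [Pi.add_apply, Pi.smul_apply, h6_ext2_zero, h6_ext2_one, h6_ext2_succ,
            h6_e0_apply]
          simp [Fin.succ_ne_zero]
        rw [h2, zero_smul, add_zero]
      rw [h1]
      exact s_inv_mulVec _ _
    · rw [s_coe_mul, s_coe_mul, ← mulVec_mulVec, ← mulVec_mulVec]
      have h1 : (h8_tv u (s • φ) h).1 *ᵥ ((h6_Gam a b : SLn F m).1 *ᵥ e1 F m)
          = (h6_Gam a b : SLn F m).1 *ᵥ e1 F m := by
        rw [h8_tv_mulVec]
        have h2 : (s • φ) ⬝ᵥ ((h6_Gam a b : SLn F m).1 *ᵥ e1 F m) = 0 := by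
          rw [smul_dotProduct, hφdot, h6_Gam_mulVec]
          have h10 : (0 : Fin (m + 3)) ≠ 1 := by
            intro h
            have := congrArg Fin.val h
            simp at this
          have hl1 : l.succ.succ ≠ (1 : Fin (m + 3)) := by
            intro h
            have := congrArg Fin.val h
            simp at this
          simp only [Pi.add_apply, Pi.smul_apply, h6_ext2_zero, h6_ext2_one, h6_ext2_succ,
            h6_e1_apply]
          simp [h10, hl1]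
        rw [h2, zero_smul, add_zero]
      rw [h1]
      exact s_inv_mulVec _ _
  have h3 : h8_tv u (s • φ) h * h6_Gam a b
      = h6_Gam a b * ((h6_Gam a b)⁻¹ * h8_tv u (s • φ) h * h6_Gam a b) := by group
  rw [← h6_rho_mul, h3, h6_rho_mul, hx _ hmem]

/-- **Theorem C** (S2332, piece S5). -/
theorem s5_thmC (ρ : Representation ℂ (SLn F m) V) (hQ : s_fix ρ (s_Q F m) = ⊥) :
    Fintype.card F ^ (2 * (m + 1)) * finrank ℂ (s_fix ρ (s_RE F m)) ≤ finrank ℂ V := by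
  classical
  let L : (((Fin (m + 1) → F) × (Fin (m + 1) → F)) → s_fix ρ (s_RE F m)) →ₗ[ℂ] V :=
    ∑ i : (Fin (m + 1) → F) × (Fin (m + 1) → F),
      (ρ (h6_Gam i.1 i.2)) ∘ₗ (s_fix ρ (s_RE F m)).subtype ∘ₗ LinearMap.proj i
  have hL : ∀ f, L f = ∑ i : (Fin (m + 1) → F) × (Fin (m + 1) → F),
      ρ (h6_Gam i.1 i.2) (f i : V) := by
    intro f
    simp only [L, LinearMap.sum_apply, LinearMap.comp_apply, LinearMap.proj_apply,
      Submodule.subtype_apply]
  have hinj : Function.Injective L := by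
    rw [injective_iff_map_eq_zero]
    intro f hf
    funext j
    have h1 : h6_avg ρ (s_RE F m) (ρ (h6_Gam j.1 j.2)⁻¹ (L f)) = 0 := by
      rw [hf, map_zero, map_zero]
    rw [hL, map_sum, map_sum, Finset.sum_eq_single j] at h1
    · rw [h6_rho_inv_self, h6_avg_of_mem_fix ρ _ _ (f j).2] at h1
      have h2 := (smul_eq_zero.mp h1).resolve_left (h6_card_ne_zero _)
      exact Subtype.ext h2
    · intro i _ hij
      rw [← h6_rho_mul, h6_Gam_inv_mul]
      obtain ⟨l, hl⟩ : ∃ l, (i.1 - j.1) l ≠ 0 ∨ (i.2 - j.2) l ≠ 0 := by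
        by_contra hcon
        push Not at hcon
        apply hij
        apply Prod.ext
        · funext l
          exact sub_eq_zero.mp (hcon l).1
        · funext l
          exact sub_eq_zero.mp (hcon l).2
      exact h6_avg_Gam_zero ρ hQ _ _ l hl _ (f i).2
    · intro h
      exact absurd (Finset.mem_univ j) h
  have h3 := LinearMap.finrank_le_finrank_of_injective hinj
  rw [Module.finrank_pi_fintype, Finset.sum_const, Finset.card_univ, Fintype.card_prod,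
    Fintype.card_fun, Fintype.card_fin, smul_eq_mul] at h3
  calc Fintype.card F ^ (2 * (m + 1)) * finrank ℂ (s_fix ρ (s_RE F m))
      = Fintype.card F ^ (m + 1) * Fintype.card F ^ (m + 1)
          * finrank ℂ (s_fix ρ (s_RE F m)) := by
        rw [two_mul, pow_add]
    _ ≤ finrank ℂ V := h3

end Cfsg.Agent.SLMin
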