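import Mathlib
import Cfsg.Agent.SLMin.H3_Defs

set_option autoImplicit false

/-! S2332 (helper7): arithmetic of `N_n = (q^n-1)/(q-1)` and `b_n = (q^n-q)/(q-1)`. -/

namespace Cfsg.Agent.SLMin

/-- `N_n` is the geometric sum. -/
theorem h7_sN_eq_sum (q n : ℕ) (hq : 2 ≤ q) : s_N q n = ∑ i ∈ Finset.range n, q ^ i := by
  unfold s_N
  exact (Nat.geomSum_eq hq n).symm

theorem h7_sN_succ (q n : ℕ) (hq : 2 ≤ q) : s_N q (n + 1) = s_N q n + q ^ n := by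
  rw [h7_sN_eq_sum q _ hq, h7_sN_eq_sum q _ hq, Finset.sum_range_succ]

theorem h7_sN_mul (q n : ℕ) (_hq : 2 ≤ q) : s_N q n * (q - 1) = q ^ n - 1 := by
  unfold s_N
  apply Nat.div_mul_cancel
  exact Nat.sub_one_dvd_pow_sub_one q n |>.trans (dvd_refl _) |> fun h => by simpa using h

/-- `b_{n+1} = q N_n`. -/
theorem h7_sb_succ_eq (q n : ℕ) (hq : 2 ≤ q) : s_b q (n + 1) = q * s_N q n := by
  unfold s_b
  have h1 : q ^ (n + 1) - q = (q * s_N q n) * (q - 1) := by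
    rw [mul_assoc, h7_sN_mul q n hq, Nat.mul_sub, mul_one, pow_succ, mul_comm]
  rw [h1]
  exact Nat.mul_div_cancel _ (by omega)

theorem h7_sN_eq_sb (q n : ℕ) (hq : 2 ≤ q) (hn : 1 ≤ n) : s_N q n = s_b q n + 1 := by
  obtain ⟨k, rfl⟩ : ∃ k, n = k + 1 := ⟨n - 1, by omega⟩
  rw [h7_sb_succ_eq q k hq, h7_sN_eq_sum q _ hq, h7_sN_eq_sum q _ hq, Finset.sum_range_succ',
    Finset.mul_sum]
  simp [pow_succ, mul_comm]

theorem s9_arith_N (q n : ℕ) (hq : 2 ≤ q) (hn : 1 ≤ n) :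
    s_N q n = s_b q n + 1 ∧ s_b q (n + 1) = s_b q n + q ^ n ∧ s_N q (n + 1) = s_N q n + q ^ n := by
  refine ⟨h7_sN_eq_sb q n hq hn, ?_, h7_sN_succ q n hq⟩
  have h1 := h7_sN_eq_sb q n hq hn
  have h2 := h7_sN_eq_sb q (n + 1) hq (by omega)
  have h3 := h7_sN_succ q n hq
  omega

/-- `b_n ≤ q^n - q`. -/
theorem h7_sb_le (q n : ℕ) : s_b q n ≤ q ^ n - q := by
  unfold s_b
  exact Nat.div_le_self _ _

theorem s9_arith_two (q n : ℕ) (hq : 2 ≤ q) (hn : 3 ≤ n) : s_b q n ≤ 2 * (q ^ (n - 1) - 1) := by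
  obtain ⟨k, rfl⟩ : ∃ k, n = k + 2 := ⟨n - 2, by omega⟩
  have h1 : s_b q (k + 2) = s_b q (k + 1) + q ^ (k + 1) := (s9_arith_N q (k + 1) hq (by omega)).2.1
  have h2 := h7_sb_le q (k + 1)
  have h3 : q ≤ q ^ (k + 1) := by
    calc q = q ^ 1 := (pow_one q).symm
      _ ≤ q ^ (k + 1) := Nat.pow_le_pow_right (by omega) (by omega)
  have h4 : k + 2 - 1 = k + 1 := by omega
  rw [h4]
  omega

theorem s9_arith_C (q m : ℕ) (hq : 2 ≤ q) (hgood : s_good m q) :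
    s_b q (m + 3) ≤ q ^ (2 * (m + 1)) * (q - 1) := by
  rcases Nat.eq_zero_or_pos m with rfl | hm
  · -- `m = 0`: `q ≥ 3`
    have hq3 : 3 ≤ q := by
      rcases hgood with ⟨h1, -, -, -⟩
      by_contra hlt
      have : q = 2 := by omega
      exact h1 (by rw [this])
    have h1 : s_b q 3 = q + q ^ 2 := by
      have a1 := (s9_arith_N q 2 hq (by omega)).2.1
      have a2 := (s9_arith_N q 1 hq (by omega)).2.1
      have a3 : s_b q 1 = 0 := by
        unfold s_b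
        simp
      rw [a1, a2, a3]
      ring
    rw [h1]
    obtain ⟨r, rfl⟩ : ∃ r, q = r + 3 := ⟨q - 3, by omega⟩
    have : r + 3 - 1 = r + 2 := by omega
    rw [this]
    ring_nf
    nlinarith [sq_nonneg r, Nat.zero_le r]
  · have h1 := h7_sb_le q (m + 3)
    have h2 : q ^ (m + 3) ≤ q ^ (2 * (m + 1)) := Nat.pow_le_pow_right (by omega) (by omega)
    have h3 : q ^ (2 * (m + 1)) ≤ q ^ (2 * (m + 1)) * (q - 1) := Nat.le_mul_of_pos_right _ (by omega)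
    omega

end Cfsg.Agent.SLMin
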