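import Mathlib
import Cfsg.Agent.SLMin.H3_Defs
import Cfsg.Agent.SLMin.H8_S1
import Cfsg.Agent.Helper8.FlagE
import Cfsg.Agent.Helper8.FlagI

set_option autoImplicit false
set_option linter.unusedSectionVars false
set_option linter.unusedVariables false

/-!
# S2332, piece S2 (helper8): the stabilisers of the line, the plane and the flag are standard
parabolic subgroups
-/

namespace Cfsg.Agent.SLMin

open Matrix
open Cfsg.Agent.Helper8.SLTrans (e0 e1 mulVec_e0 mulVec_e1)
open Cfsg.Agent.Helper8.Flag

variable {F : Type*} [Field F] {m : ℕ}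

theorem s2_mem_parSL (ν : Fin (m + 3) → ℕ) (g : SLn F m) :
    g ∈ parSL (m + 3) F ν ↔
      (g : Matrix (Fin (m + 3)) (Fin (m + 3)) F).BlockTriangular (Cfsg.compLabel ν) := Iff.rfl

theorem s2_mem_par1 (g : SLn F m) : g ∈ parSL (m + 3) F (nu1 m) ↔
    ∀ i : Fin (m + 3), i ≠ 0 → (g : Matrix (Fin (m + 3)) (Fin (m + 3)) F) i 0 = 0 := by
  rw [s2_mem_parSL]
  constructor
  · intro h i hi
    apply h
    rw [label_nu1, label_nu1]
    have : i.val ≠ 0 := fun e => hi (Fin.ext e)
    simp [this]
  · intro h i j hij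
    rw [label_nu1, label_nu1] at hij
    by_cases hj : j.val = 0
    · by_cases hi : i.val = 0
      · simp [hi, hj] at hij
      · have : j = 0 := Fin.ext hj
        rw [this]
        exact h i (fun e => hi (by rw [e]; rfl))
    · by_cases hi : i.val = 0 <;> simp [hi, hj] at hij

theorem s2_mem_par2 (g : SLn F m) : g ∈ parSL (m + 3) F (nu2 m) ↔
    ∀ i : Fin (m + 3), 2 ≤ i.val → (g : Matrix (Fin (m + 3)) (Fin (m + 3)) F) i 0 = 0 ∧
      (g : Matrix (Fin (m + 3)) (Fin (m + 3)) F) i 1 = 0 := by
  rw [s2_mem_parSL]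
  constructor
  · intro h i hi
    constructor
    · apply h
      rw [label_nu2, label_nu2]
      have : ¬ i.val < 2 := by omega
      simp [this]
    · apply h
      rw [label_nu2, label_nu2]
      have : ¬ i.val < 2 := by omega
      simp [this]
  · intro h i j hij
    rw [label_nu2, label_nu2] at hij
    by_cases hj : j.val < 2
    · by_cases hi : i.val < 2
      · simp [hi, hj] at hij
      · have hj' : j = 0 ∨ j = 1 := by
          rcases Nat.lt_or_ge j.val 1 with a | a
          · left; exact Fin.ext (by rw [Fin.val_zero]; omega)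
          · right; exact Fin.ext (by rw [Fin.val_one]; omega)
        rcases hj' with rfl | rfl
        · exact (h i (by omega)).1
        · exact (h i (by omega)).2
    · by_cases hi : i.val < 2 <;> simp [hi, hj] at hij

theorem s2_mem_par12 (g : SLn F m) : g ∈ parSL (m + 3) F (nu12 m) ↔
    (∀ i : Fin (m + 3), i ≠ 0 → (g : Matrix (Fin (m + 3)) (Fin (m + 3)) F) i 0 = 0) ∧
    (∀ i : Fin (m + 3), 2 ≤ i.val → (g : Matrix (Fin (m + 3)) (Fin (m + 3)) F) i 1 = 0) := by
  rw [s2_mem_parSL]
  constructor
  · intro h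
    constructor
    · intro i hi
      apply h
      rw [label_nu12, label_nu12]
      have : i.val ≠ 0 := fun e => hi (Fin.ext e)
      by_cases h1 : i.val = 1 <;> simp [this, h1]
    · intro i hi
      apply h
      rw [label_nu12, label_nu12]
      have h0 : i.val ≠ 0 := by omega
      have h1 : i.val ≠ 1 := by omega
      simp [h0, h1]
  · rintro ⟨hA, hB⟩ i j hij
    rw [label_nu12, label_nu12] at hij
    by_cases hj : j.val = 0
    · have : j = 0 := Fin.ext hj
      rw [this]
      apply hA
      intro e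
      rw [e] at hij
      simp [hj] at hij
    · by_cases hj1 : j.val = 1
      · have : j = 1 := Fin.ext hj1
        rw [this]
        apply hB
        by_cases hi0 : i.val = 0
        · simp [hi0, hj, hj1] at hij
        · by_cases hi1 : i.val = 1
          · simp [hi0, hi1, hj, hj1] at hij
          · omega
      · by_cases hi0 : i.val = 0
        · simp [hi0, hj, hj1] at hij
        · by_cases hi1 : i.val = 1
          · simp [hi0, hi1, hj, hj1] at hij
          · simp [hi0, hi1, hj, hj1] at hij

/-- membership in the plane `E`. -/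
theorem s2_mem_E (x : Fin (m + 3) → F) :
    x ∈ s_E F m ↔ ∀ i : Fin (m + 3), 2 ≤ i.val → x i = 0 := by
  unfold s_E
  rw [Submodule.mem_span_pair]
  constructor
  · rintro ⟨a, b, rfl⟩ i hi
    have h0 : i ≠ 0 := fun e => by rw [e] at hi; simp at hi
    have h1 : i ≠ 1 := fun e => by rw [e] at hi; simp at hi
    simp [e0, e1, Pi.single_apply, h0, h1]
  · intro h
    refine ⟨x 0, x 1, ?_⟩
    funext i
    by_cases h0 : i = 0
    · rw [h0]
      simp [e0, e1, Pi.single_apply]
    · by_cases h1 : i = 1
      · rw [h1]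
        simp [e0, e1, Pi.single_apply]
      · have : 2 ≤ i.val := by
          have a0 : i.val ≠ 0 := fun e => h0 (Fin.ext e)
          have a1 : i.val ≠ 1 := fun e => h1 (Fin.ext e)
          omega
        rw [h i this]
        simp [e0, e1, Pi.single_apply, h0, h1]

/-- membership in the line `F e0`. -/
theorem s2_mem_L0 (x : Fin (m + 3) → F) :
    x ∈ s_L0 F m ↔ ∀ i : Fin (m + 3), i ≠ 0 → x i = 0 := by
  unfold s_L0
  rw [Submodule.mem_span_singleton]
  constructor
  · rintro ⟨a, rfl⟩ i hi
    simp [e0, Pi.single_apply, hi]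
  · intro h
    refine ⟨x 0, ?_⟩
    funext i
    by_cases h0 : i = 0
    · rw [h0]
      simp [e0, Pi.single_apply]
    · rw [h i h0]
      simp [e0, Pi.single_apply, h0]

/-- a subgroup preserving a subspace lies in its stabiliser. -/
theorem s2_le_stabS (K : Subgroup (SLn F m)) (S : Submodule F (Fin (m + 3) → F))
    (h : ∀ g ∈ K, ∀ x ∈ S, (g : Matrix (Fin (m + 3)) (Fin (m + 3)) F) *ᵥ x ∈ S) :
    K ≤ s_stabS S := by
  intro g hg
  rw [s_mem_stabS]
  intro x
  constructor
  · intro hx
    have := h g⁻¹ (K.inv_mem hg) _ hx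
    rwa [s_inv_mulVec] at this
  · exact h g hg x

theorem s2_e0_mem_L0 : e0 F m ∈ s_L0 F m := Submodule.mem_span_singleton_self _

theorem s2_e0_mem_E : e0 F m ∈ s_E F m := Submodule.subset_span (by simp)

theorem s2_e1_mem_E : e1 F m ∈ s_E F m := Submodule.subset_span (by simp)

/-- the stabiliser of the line is the parabolic subgroup of `(1, n-1)`. -/
theorem s2_stabL0_eq : s_stabS (s_L0 F m) = parSL (m + 3) F (nu1 m) := by
  apply le_antisymm
  · intro g hg
    rw [s2_mem_par1]
    have := ((s_mem_stabS _ g).mp hg (e0 F m)).mpr s2_e0_mem_L0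
    rw [s2_mem_L0, mulVec_e0] at this
    exact this
  · apply s2_le_stabS
    intro g hg x hx
    rw [s2_mem_par1] at hg
    obtain ⟨c, rfl⟩ := Submodule.mem_span_singleton.mp hx
    rw [Matrix.mulVec_smul]
    apply Submodule.smul_mem
    rw [s2_mem_L0, mulVec_e0]
    exact hg

/-- the stabiliser of the plane is the parabolic subgroup of `(2, n-2)`. -/
theorem s2_PE_eq : s_PE F m = parSL (m + 3) F (nu2 m) := by
  unfold s_PE
  apply le_antisymm
  · intro g hg
    rw [s2_mem_par2]
    have h0 := ((s_mem_stabS _ g).mp hg (e0 F m)).mpr s2_e0_mem_E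
    have h1 := ((s_mem_stabS _ g).mp hg (e1 F m)).mpr s2_e1_mem_E
    rw [s2_mem_E, mulVec_e0] at h0
    rw [s2_mem_E, mulVec_e1] at h1
    exact fun i hi => ⟨h0 i hi, h1 i hi⟩
  · apply s2_le_stabS
    intro g hg x hx
    rw [s2_mem_par2] at hg
    unfold s_E at hx
    obtain ⟨a, b, rfl⟩ := Submodule.mem_span_pair.mp hx
    rw [Matrix.mulVec_add, Matrix.mulVec_smul, Matrix.mulVec_smul]
    apply Submodule.add_mem
    · apply Submodule.smul_mem
      rw [s2_mem_E, mulVec_e0]
      exact fun i hi => (hg i hi).1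
    · apply Submodule.smul_mem
      rw [s2_mem_E, mulVec_e1]
      exact fun i hi => (hg i hi).2

/-- the flag stabiliser is the parabolic subgroup of `(1, 1, n-2)`. -/
theorem s2_P_eq : s_P F m = parSL (m + 3) F (nu12 m) := by
  unfold s_P
  rw [s2_stabL0_eq, ← s_PE, s2_PE_eq]
  ext g
  rw [Subgroup.mem_inf, s2_mem_par1, s2_mem_par2, s2_mem_par12]
  constructor
  · rintro ⟨hA, hB⟩
    exact ⟨hA, fun i hi => (hB i hi).2⟩
  · rintro ⟨hA, hB⟩
    refine ⟨hA, fun i hi => ⟨hA i ?_, hB i hi⟩⟩
    intro e
    rw [e] at hi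
    simp at hi

end Cfsg.Agent.SLMin
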