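import Mathlib
import Cfsg.Prelude.Def_Characters
import Cfsg.Agent.Helper6.IrrCrit
import Cfsg.Agent.Helper6.ClassInner
import Cfsg.Agent.Helper6.Constituent
import Cfsg.Agent.Helper6.OddReal

/-!
# S2332 / SLMin (lead): the abstract character lemma behind piece S2

From the six inner products `⟨π_1,π_1⟩ = 2`, `⟨π_2,π_1⟩ = 2`, `⟨π_2,π_2⟩ = 3`, `⟨π_P,π_1⟩ = 3`,
`⟨π_P,π_2⟩ = 4`, `⟨π_P,π_P⟩ = 7` of three transitive permutation characters we get
`π_P = 1 + 2χ_0 + χ_a + χ_b` with `χ_a = π_2 − π_1`, `χ_b = π_P − π_2 − π_1 + 1`; an irreducible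
`χ ≠ 1` with `⟨χ,π_P⟩ = 1` is `χ_a` or `χ_b`.  The rank-two version (`⟨π_B,π_B⟩ = 6`) gives
`χ = π_B − 2π_1 + 1`.
-/

set_option autoImplicit false

namespace Cfsg.Agent.SLMin

open Cfsg.Agent.Helper6
open scoped ComplexConjugate

universe u

variable {G : Type u} [Group G] [Fintype G]

/-- symmetric form of a real inner product -/
theorem l_ip_symm {φ ψ : G → ℂ} {r : ℂ} (hr : conj r = r) (h : Cfsg.classInner φ ψ = r) :
    Cfsg.classInner ψ φ = r := by
  rw [classInner_conj_symm φ ψ, h, hr]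

theorem l_irr_ip_le_one {χ ψ : G → ℂ} (hχ : Cfsg.IsIrrCharacter G χ) (hψ : Cfsg.IsIrrCharacter G ψ) :
    Cfsg.classInner χ ψ = 0 ∨ (χ = ψ ∧ Cfsg.classInner χ ψ = 1) := by
  by_cases h : χ = ψ
  · right
    refine ⟨h, ?_⟩
    rw [h]
    exact classInner_irr_self hψ
  · left
    exact classInner_irr_ne hχ hψ h

/-- **the rank-three flag lemma** -/
theorem l_flag_char (π1 π2 πP : G → ℂ)
    (h1c : Cfsg.IsCharacter G π1) (h2c : Cfsg.IsCharacter G π2) (hPc : Cfsg.IsCharacter G πP)
    (h1one : Cfsg.classInner π1 (fun _ => (1 : ℂ)) = 1)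
    (h2one : Cfsg.classInner π2 (fun _ => (1 : ℂ)) = 1)
    (hPone : Cfsg.classInner πP (fun _ => (1 : ℂ)) = 1)
    (h11 : Cfsg.classInner π1 π1 = 2) (h21 : Cfsg.classInner π2 π1 = 2)
    (h22 : Cfsg.classInner π2 π2 = 3) (hP1 : Cfsg.classInner πP π1 = 3)
    (hP2 : Cfsg.classInner πP π2 = 4) (hPP : Cfsg.classInner πP πP = 7)
    (χ : G → ℂ) (hχ : Cfsg.IsIrrCharacter G χ) (hne : χ ≠ fun _ => (1 : ℂ))
    (hχP : Cfsg.classInner χ πP = 1) :
    χ = π2 - π1 ∨ χ = πP - π2 - π1 + (fun _ => (1 : ℂ)) := by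
  classical
  set one : G → ℂ := fun _ => (1 : ℂ) with hone
  have hone_irr : Cfsg.IsIrrCharacter G one := isIrrCharacter_one
  have h11' : Cfsg.classInner one one = 1 := classInner_irr_self hone_irr
  have c1 : conj (1 : ℂ) = 1 := map_one _
  have c2 : conj (2 : ℂ) = 2 := map_ofNat _ 2
  have c3 : conj (3 : ℂ) = 3 := map_ofNat _ 3
  have c4 : conj (4 : ℂ) = 4 := map_ofNat _ 4
  have hone1 : Cfsg.classInner one π1 = 1 := l_ip_symm c1 h1one
  have hone2 : Cfsg.classInner one π2 = 1 := l_ip_symm c1 h2one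
  have honeP : Cfsg.classInner one πP = 1 := l_ip_symm c1 hPone
  have h12 : Cfsg.classInner π1 π2 = 2 := l_ip_symm c2 h21
  have h1P : Cfsg.classInner π1 πP = 3 := l_ip_symm c3 hP1
  have h2P : Cfsg.classInner π2 πP = 4 := l_ip_symm c4 hP2
  -- χ0 = π1 - 1
  have hχ0c : Cfsg.IsCharacter G (π1 - one) :=
    sub_isCharacter_of_constituent h1c hone_irr (by rw [h1one]; exact one_ne_zero)
  have hχ0n : Cfsg.classInner (π1 - one) (π1 - one) = 1 := by
    rw [classInner_sub_left, classInner_sub_right, classInner_sub_right, h11, h1one, hone1, h11']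
    norm_num
  have hχ0 : Cfsg.IsIrrCharacter G (π1 - one) := isIrrCharacter_of_classInner_self hχ0c hχ0n
  -- χa = π2 - π1
  have h2m1 : Cfsg.IsCharacter G (π2 - one) :=
    sub_isCharacter_of_constituent h2c hone_irr (by rw [h2one]; exact one_ne_zero)
  have hχac' : Cfsg.IsCharacter G (π2 - one - (π1 - one)) := by
    apply sub_isCharacter_of_constituent h2m1 hχ0
    rw [classInner_sub_left, classInner_sub_right, classInner_sub_right, h21, h2one, hone1, h11']
    norm_num
  have hae : π2 - one - (π1 - one) = π2 - π1 := by abel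
  have hχac : Cfsg.IsCharacter G (π2 - π1) := hae ▸ hχac'
  have hχan : Cfsg.classInner (π2 - π1) (π2 - π1) = 1 := by
    rw [classInner_sub_left, classInner_sub_right, classInner_sub_right, h22, h21, h12, h11]
    norm_num
  have hχa : Cfsg.IsIrrCharacter G (π2 - π1) := isIrrCharacter_of_classInner_self hχac hχan
  -- χb = πP - π2 - π1 + 1
  have hP1c : Cfsg.IsCharacter G (πP - one) :=
    sub_isCharacter_of_constituent hPc hone_irr (by rw [hPone]; exact one_ne_zero)
  have hP2c : Cfsg.IsCharacter G (πP - one - (π1 - one)) := by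
    apply sub_isCharacter_of_constituent hP1c hχ0
    rw [classInner_sub_left, classInner_sub_right, classInner_sub_right, hP1, hPone, hone1, h11']
    norm_num
  have hP3c : Cfsg.IsCharacter G (πP - one - (π1 - one) - (π1 - one)) := by
    apply sub_isCharacter_of_constituent hP2c hχ0
    rw [classInner_sub_left, classInner_sub_left, hχ0n, classInner_sub_right, classInner_sub_right,
      hP1, hPone, hone1, h11']
    norm_num
  have hP4c : Cfsg.IsCharacter G (πP - one - (π1 - one) - (π1 - one) - (π2 - π1)) := by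
    apply sub_isCharacter_of_constituent hP3c hχa
    rw [classInner_sub_left, classInner_sub_left, classInner_sub_left]
    rw [classInner_sub_right πP, classInner_sub_right one, classInner_sub_left π1 one,
      classInner_sub_right π1, classInner_sub_right one]
    rw [hP2, hP1, hone2, hone1, h12, h11]
    norm_num
  have hbe : πP - one - (π1 - one) - (π1 - one) - (π2 - π1) = πP - π2 - π1 + one := by abel
  have hχbc : Cfsg.IsCharacter G (πP - π2 - π1 + one) := hbe ▸ hP4c
  have hχbn : Cfsg.classInner (πP - π2 - π1 + one) (πP - π2 - π1 + one) = 1 := by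
    simp only [classInner_add_left, classInner_add_right, classInner_sub_left, classInner_sub_right]
    rw [hPP, hP2, hP1, hPone, h2P, h22, h21, h2one, h1P, h12, h11, h1one, honeP, hone2, hone1, h11']
    norm_num
  have hχb : Cfsg.IsIrrCharacter G (πP - π2 - π1 + one) :=
    isIrrCharacter_of_classInner_self hχbc hχbn
  -- the decomposition of πP
  have hdec : πP = one + (π1 - one) + (π1 - one) + (π2 - π1) + (πP - π2 - π1 + one) := by abel
  by_cases ha : χ = π2 - π1
  · exact Or.inl ha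
  by_cases hb : χ = πP - π2 - π1 + one
  · exact Or.inr hb
  exfalso
  have e1 : Cfsg.classInner χ one = 0 := classInner_irr_ne hχ hone_irr hne
  have ea : Cfsg.classInner χ (π2 - π1) = 0 := classInner_irr_ne hχ hχa ha
  have eb : Cfsg.classInner χ (πP - π2 - π1 + one) = 0 := classInner_irr_ne hχ hχb hb
  have key : Cfsg.classInner χ πP = 2 * Cfsg.classInner χ (π1 - one) := by
    conv_lhs => rw [hdec]
    rw [classInner_add_right, classInner_add_right, classInner_add_right, classInner_add_right,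
      e1, ea, eb]
    ring
  rw [hχP] at key
  rcases l_irr_ip_le_one hχ hχ0 with h0 | ⟨_, h0⟩
  · rw [h0] at key
    norm_num at key
  · rw [h0] at key
    norm_num at key

/-- **the rank-two (Borel of `SL_3`) flag lemma** -/
theorem l_flag_char_borel (π1 πB : G → ℂ)
    (h1c : Cfsg.IsCharacter G π1) (hBc : Cfsg.IsCharacter G πB)
    (h1one : Cfsg.classInner π1 (fun _ => (1 : ℂ)) = 1)
    (hBone : Cfsg.classInner πB (fun _ => (1 : ℂ)) = 1)
    (h11 : Cfsg.classInner π1 π1 = 2) (hB1 : Cfsg.classInner πB π1 = 3)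
    (hBB : Cfsg.classInner πB πB = 6)
    (χ : G → ℂ) (hχ : Cfsg.IsIrrCharacter G χ) (hne : χ ≠ fun _ => (1 : ℂ))
    (hχB : Cfsg.classInner χ πB = 1) :
    χ = πB - π1 - π1 + (fun _ => (1 : ℂ)) := by
  classical
  set one : G → ℂ := fun _ => (1 : ℂ) with hone
  have hone_irr : Cfsg.IsIrrCharacter G one := isIrrCharacter_one
  have h11' : Cfsg.classInner one one = 1 := classInner_irr_self hone_irr
  have c1 : conj (1 : ℂ) = 1 := map_one _
  have c3 : conj (3 : ℂ) = 3 := map_ofNat _ 3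
  have hone1 : Cfsg.classInner one π1 = 1 := l_ip_symm c1 h1one
  have honeB : Cfsg.classInner one πB = 1 := l_ip_symm c1 hBone
  have h1B : Cfsg.classInner π1 πB = 3 := l_ip_symm c3 hB1
  have hχ0c : Cfsg.IsCharacter G (π1 - one) :=
    sub_isCharacter_of_constituent h1c hone_irr (by rw [h1one]; exact one_ne_zero)
  have hχ0n : Cfsg.classInner (π1 - one) (π1 - one) = 1 := by
    rw [classInner_sub_left, classInner_sub_right, classInner_sub_right, h11, h1one, hone1, h11']
    norm_num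
  have hχ0 : Cfsg.IsIrrCharacter G (π1 - one) := isIrrCharacter_of_classInner_self hχ0c hχ0n
  have hB1c : Cfsg.IsCharacter G (πB - one) :=
    sub_isCharacter_of_constituent hBc hone_irr (by rw [hBone]; exact one_ne_zero)
  have hB2c : Cfsg.IsCharacter G (πB - one - (π1 - one)) := by
    apply sub_isCharacter_of_constituent hB1c hχ0
    rw [classInner_sub_left, classInner_sub_right, classInner_sub_right, hB1, hBone, hone1, h11']
    norm_num
  have hB3c : Cfsg.IsCharacter G (πB - one - (π1 - one) - (π1 - one)) := by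
    apply sub_isCharacter_of_constituent hB2c hχ0
    rw [classInner_sub_left, classInner_sub_left, hχ0n, classInner_sub_right, classInner_sub_right,
      hB1, hBone, hone1, h11']
    norm_num
  have hse : πB - one - (π1 - one) - (π1 - one) = πB - π1 - π1 + one := by abel
  have hStc : Cfsg.IsCharacter G (πB - π1 - π1 + one) := hse ▸ hB3c
  have hStn : Cfsg.classInner (πB - π1 - π1 + one) (πB - π1 - π1 + one) = 1 := by
    simp only [classInner_add_left, classInner_add_right, classInner_sub_left, classInner_sub_right]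
    rw [hBB, hB1, hBone, h1B, h11, h1one, honeB, hone1, h11']
    norm_num
  have hSt : Cfsg.IsIrrCharacter G (πB - π1 - π1 + one) :=
    isIrrCharacter_of_classInner_self hStc hStn
  have hdec : πB = one + (π1 - one) + (π1 - one) + (πB - π1 - π1 + one) := by abel
  by_contra hb
  have e1 : Cfsg.classInner χ one = 0 := classInner_irr_ne hχ hone_irr hne
  have eb : Cfsg.classInner χ (πB - π1 - π1 + one) = 0 := classInner_irr_ne hχ hSt hb
  have key : Cfsg.classInner χ πB = 2 * Cfsg.classInner χ (π1 - one) := by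
    conv_lhs => rw [hdec]
    rw [classInner_add_right, classInner_add_right, classInner_add_right, e1, eb]
    ring
  rw [hχB] at key
  rcases l_irr_ip_le_one hχ hχ0 with h0 | ⟨_, h0⟩
  · rw [h0] at key
    norm_num at key
  · rw [h0] at key
    norm_num at key

/-- degree form of `l_flag_char`: with `π_1(1) = a`, `π_2(1) = L`, `π_P(1) = L (q + 1)`, `2a ≤ L`,
`2 ≤ q`, the degree of `χ` is a natural number `≥ a − 1`. -/
theorem l_flag_deg (π1 π2 πP : G → ℂ)
    (h1c : Cfsg.IsCharacter G π1) (h2c : Cfsg.IsCharacter G π2) (hPc : Cfsg.IsCharacter G πP)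
    (h1one : Cfsg.classInner π1 (fun _ => (1 : ℂ)) = 1)
    (h2one : Cfsg.classInner π2 (fun _ => (1 : ℂ)) = 1)
    (hPone : Cfsg.classInner πP (fun _ => (1 : ℂ)) = 1)
    (h11 : Cfsg.classInner π1 π1 = 2) (h21 : Cfsg.classInner π2 π1 = 2)
    (h22 : Cfsg.classInner π2 π2 = 3) (hP1 : Cfsg.classInner πP π1 = 3)
    (hP2 : Cfsg.classInner πP π2 = 4) (hPP : Cfsg.classInner πP πP = 7)
    (χ : G → ℂ) (hχ : Cfsg.IsIrrCharacter G χ) (hne : χ ≠ fun _ => (1 : ℂ))
    (hχP : Cfsg.classInner χ πP = 1)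
    (a L c q : ℕ) (ha : π1 1 = (a : ℂ)) (hL : π2 1 = (L : ℂ)) (hc : πP 1 = (c : ℂ))
    (hcL : c = L * (q + 1)) (h2a : 2 * a ≤ L) (hq : 2 ≤ q) :
    ∃ d : ℕ, χ 1 = (d : ℂ) ∧ a - 1 ≤ d := by
  rcases l_flag_char π1 π2 πP h1c h2c hPc h1one h2one hPone h11 h21 h22 hP1 hP2 hPP χ hχ hne hχP
    with h | h
  · refine ⟨L - a, ?_, by omega⟩
    rw [h, Pi.sub_apply, hL, ha, Nat.cast_sub (by omega)]
  · have hLq : 2 * L ≤ L * q := by nlinarith
    refine ⟨L * q + 1 - a, ?_, by omega⟩
    rw [h, Pi.add_apply, Pi.sub_apply, Pi.sub_apply, hc, hL, ha, hcL, Nat.cast_sub (by omega)]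
    push_cast
    ring

/-- degree form of `l_flag_char_borel`: with `π_1(1) = a`, `π_B(1) = a (q + 1)`, `2 ≤ q`, the degree of
`χ` is the natural number `a (q − 1) + 1 ≥ a − 1`. -/
theorem l_flag_deg_borel (π1 πB : G → ℂ)
    (h1c : Cfsg.IsCharacter G π1) (hBc : Cfsg.IsCharacter G πB)
    (h1one : Cfsg.classInner π1 (fun _ => (1 : ℂ)) = 1)
    (hBone : Cfsg.classInner πB (fun _ => (1 : ℂ)) = 1)
    (h11 : Cfsg.classInner π1 π1 = 2) (hB1 : Cfsg.classInner πB π1 = 3)
    (hBB : Cfsg.classInner πB πB = 6)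
    (χ : G → ℂ) (hχ : Cfsg.IsIrrCharacter G χ) (hne : χ ≠ fun _ => (1 : ℂ))
    (hχB : Cfsg.classInner χ πB = 1)
    (a c q : ℕ) (ha : π1 1 = (a : ℂ)) (hc : πB 1 = (c : ℂ)) (hca : c = a * (q + 1)) (hq : 2 ≤ q) :
    ∃ d : ℕ, χ 1 = (d : ℂ) ∧ d = a * (q - 1) + 1 ∧ a - 1 ≤ d := by
  have h := l_flag_char_borel π1 πB h1c hBc h1one hBone h11 hB1 hBB χ hχ hne hχB
  obtain ⟨r, rfl⟩ : ∃ r, q = r + 2 := ⟨q - 2, by omega⟩
  refine ⟨a * (r + 2 - 1) + 1, ?_, rfl, ?_⟩
  · rw [h, Pi.add_apply, Pi.sub_apply, Pi.sub_apply, hc, ha, hca]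
    have : r + 2 - 1 = r + 1 := by omega
    rw [this]
    push_cast
    ring
  · have : r + 2 - 1 = r + 1 := by omega
    rw [this]
    have h2 : a ≤ a * (r + 1) := Nat.le_mul_of_pos_right _ (by omega)
    omega

end Cfsg.Agent.SLMin
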