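import Mathlib
import Cfsg.Agent.SLMin.H3_Defs

/-!
# S2332 / SLMin (lead): indices of the flag stabilisers, part A (counting pairs of vectors)
-/

set_option autoImplicit false

namespace Cfsg.Agent.SLMin

open Matrix
open Cfsg.Agent.Helper8.SLTrans (e0 e1)

variable {F : Type*} [Field F] [Fintype F] [DecidableEq F] {m : ℕ}

/-- the multiples of a non-zero vector: `q` of them. -/
theorem l_card_line {ι : Type*} [Fintype ι] [DecidableEq ι] (v : ι → F) (hv : v ≠ 0) :
    (Finset.univ.image (fun c : F => c • v)).card = Fintype.card F := by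
  rw [Finset.card_image_of_injective, Finset.card_univ]
  intro a b hab
  have hab' : a • v = b • v := hab
  by_contra hne
  apply hv
  have h1 : (a - b) • v = 0 := by rw [sub_smul, hab', sub_self]
  rcases smul_eq_zero.mp h1 with h | h
  · exact absurd (sub_eq_zero.mp h) hne
  · exact h

/-- counting pairs `(v, w)`, `v ∈ A`, `w ∈ B` not a multiple of `v`. -/
theorem l_count_pairs {ι : Type*} [Fintype ι] [DecidableEq ι] (A B : Finset (ι → F))
    (hA : ∀ v ∈ A, v ≠ 0) (hB : ∀ v ∈ A, ∀ c : F, c • v ∈ B) :
    ((A ×ˢ B).filter (fun p : (ι → F) × (ι → F) => ∀ c : F, p.2 ≠ c • p.1)).card =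
      A.card * (B.card - Fintype.card F) := by
  classical
  rw [Finset.card_filter, Finset.sum_product]
  have key : ∀ v ∈ A, (∑ w ∈ B, if (∀ c : F, w ≠ c • v) then 1 else 0) =
      B.card - Fintype.card F := by
    intro v hv
    rw [← Finset.card_filter]
    have hsub : Finset.univ.image (fun c : F => c • v) ⊆ B := by
      intro w hw
      obtain ⟨c, _, rfl⟩ := Finset.mem_image.mp hw
      exact hB v hv c
    have heq : B.filter (fun w => ∀ c : F, w ≠ c • v) =
        B \ Finset.univ.image (fun c : F => c • v) := by
      ext w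
      simp only [Finset.mem_filter, Finset.mem_sdiff, Finset.mem_image, Finset.mem_univ, true_and,
        not_exists]
      constructor
      · rintro ⟨hw, h⟩
        exact ⟨hw, fun c hc => h c hc.symm⟩
      · rintro ⟨hw, h⟩
        exact ⟨hw, fun c hc => h c hc.symm⟩
    rw [heq, Finset.card_sdiff_of_subset hsub, l_card_line v (hA v hv)]
  rw [Finset.sum_congr rfl key, Finset.sum_const, smul_eq_mul]

end Cfsg.Agent.SLMin
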