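import Mathlib
import Cfsg.Agent.SLMin.H3_Defs

/-!
# S2332 / SLMin (lead): indices of the flag stabilisers, part B
(membership criteria and the orbit–stabiliser relation for the action on pairs of vectors)
-/

set_option autoImplicit false

namespace Cfsg.Agent.SLMin

open Matrix
open Cfsg.Agent.Helper8.SLTrans (e0 e1)

variable {F : Type*} [Field F] [Fintype F] [DecidableEq F] {m : ℕ}

/-- `g` stabilises a subspace as soon as it maps it into itself. -/
theorem l_mem_stabS_of_maps (S : Submodule F (Fin (m + 3) → F)) (g : SLn F m)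
    (h : ∀ x ∈ S, (g : Matrix (Fin (m + 3)) (Fin (m + 3)) F) *ᵥ x ∈ S) : g ∈ s_stabS S := by
  classical
  rw [s_mem_stabS]
  intro x
  constructor
  · intro hx
    let φ : S → S := fun y => ⟨(g : Matrix (Fin (m + 3)) (Fin (m + 3)) F) *ᵥ y.1, h y.1 y.2⟩
    have hinj : Function.Injective φ := by
      intro a b hab
      have h1 : (g : Matrix (Fin (m + 3)) (Fin (m + 3)) F) *ᵥ a.1 =
          (g : Matrix (Fin (m + 3)) (Fin (m + 3)) F) *ᵥ b.1 := congrArg Subtype.val hab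
      apply Subtype.ext
      rw [← s_inv_mulVec g a.1, h1, s_inv_mulVec]
    have hsurj : Function.Surjective φ := Finite.injective_iff_surjective.mp hinj
    obtain ⟨y, hy⟩ := hsurj ⟨_, hx⟩
    have h1 : (g : Matrix (Fin (m + 3)) (Fin (m + 3)) F) *ᵥ y.1 =
        (g : Matrix (Fin (m + 3)) (Fin (m + 3)) F) *ᵥ x := congrArg Subtype.val hy
    have : y.1 = x := by rw [← s_inv_mulVec g y.1, h1, s_inv_mulVec]
    rw [← this]
    exact y.2
  · exact h x

/-- it is enough to map a spanning set into the subspace. -/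
theorem l_mem_stabS_span (T : Set (Fin (m + 3) → F)) (g : SLn F m)
    (h : ∀ x ∈ T, (g : Matrix (Fin (m + 3)) (Fin (m + 3)) F) *ᵥ x ∈ Submodule.span F T) :
    g ∈ s_stabS (Submodule.span F T) := by
  apply l_mem_stabS_of_maps
  intro x hx
  have hle : Submodule.span F T ≤ (Submodule.span F T).comap
      (Matrix.toLin' (g : Matrix (Fin (m + 3)) (Fin (m + 3)) F)) := by
    rw [Submodule.span_le]
    intro y hy
    rw [SetLike.mem_coe, Submodule.mem_comap, Matrix.toLin'_apply]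
    exact h y hy
  have := hle hx
  rwa [Submodule.mem_comap, Matrix.toLin'_apply] at this

theorem l_mem_stabS_L0 (g : SLn F m) : g ∈ s_stabS (s_L0 F m) ↔
    (g : Matrix (Fin (m + 3)) (Fin (m + 3)) F) *ᵥ e0 F m ∈ s_L0 F m := by
  constructor
  · intro hg
    exact ((s_mem_stabS _ g).mp hg _).mpr (Submodule.mem_span_singleton_self _)
  · intro h
    apply l_mem_stabS_span
    intro x hx
    rw [Set.mem_singleton_iff] at hx
    rw [hx]
    exact h

theorem l_mem_PE (g : SLn F m) : g ∈ s_PE F m ↔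
    (g : Matrix (Fin (m + 3)) (Fin (m + 3)) F) *ᵥ e0 F m ∈ s_E F m ∧
    (g : Matrix (Fin (m + 3)) (Fin (m + 3)) F) *ᵥ e1 F m ∈ s_E F m := by
  constructor
  · intro hg
    exact ⟨((s_mem_stabS _ g).mp hg _).mpr (Submodule.subset_span (by simp)),
      ((s_mem_stabS _ g).mp hg _).mpr (Submodule.subset_span (by simp))⟩
  · rintro ⟨h0, h1⟩
    apply l_mem_stabS_span
    intro x hx
    rcases hx with rfl | rfl
    · exact h0
    · exact h1

theorem l_mem_P (g : SLn F m) : g ∈ s_P F m ↔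
    (g : Matrix (Fin (m + 3)) (Fin (m + 3)) F) *ᵥ e0 F m ∈ s_L0 F m ∧
    (g : Matrix (Fin (m + 3)) (Fin (m + 3)) F) *ᵥ e1 F m ∈ s_E F m := by
  have hLE : s_L0 F m ≤ s_E F m := by
    apply Submodule.span_mono
    intro x hx
    rw [Set.mem_singleton_iff] at hx
    rw [hx]
    simp
  constructor
  · intro hg
    exact ⟨(l_mem_stabS_L0 g).mp hg.1, ((l_mem_PE g).mp hg.2).2⟩
  · rintro ⟨h0, h1⟩
    exact ⟨(l_mem_stabS_L0 g).mpr h0, (l_mem_PE g).mpr ⟨hLE h0, h1⟩⟩

/-- the action of `SL_n` on pairs of vectors. -/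
@[reducible] def l_pairAct (F : Type*) [Field F] (m : ℕ) :
    MulAction (SLn F m) ((Fin (m + 3) → F) × (Fin (m + 3) → F)) where
  smul g p := ((g : Matrix (Fin (m + 3)) (Fin (m + 3)) F) *ᵥ p.1,
    (g : Matrix (Fin (m + 3)) (Fin (m + 3)) F) *ᵥ p.2)
  one_smul p := by
    change (((1 : SLn F m) : Matrix (Fin (m + 3)) (Fin (m + 3)) F) *ᵥ p.1,
      ((1 : SLn F m) : Matrix (Fin (m + 3)) (Fin (m + 3)) F) *ᵥ p.2) = p
    rw [s_coe_one, Matrix.one_mulVec, Matrix.one_mulVec]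
  mul_smul a b p := by
    change (((a * b : SLn F m) : Matrix (Fin (m + 3)) (Fin (m + 3)) F) *ᵥ p.1,
      ((a * b : SLn F m) : Matrix (Fin (m + 3)) (Fin (m + 3)) F) *ᵥ p.2) =
      ((a : Matrix (Fin (m + 3)) (Fin (m + 3)) F) *ᵥ
        ((b : Matrix (Fin (m + 3)) (Fin (m + 3)) F) *ᵥ p.1),
       (a : Matrix (Fin (m + 3)) (Fin (m + 3)) F) *ᵥ
        ((b : Matrix (Fin (m + 3)) (Fin (m + 3)) F) *ᵥ p.2))
    rw [s_coe_mul, Matrix.mulVec_mulVec, Matrix.mulVec_mulVec]

/-- **orbit–stabiliser** for a subgroup `H ≥ R^E`: `[G : H] · #{(h e0, h e1) : h ∈ H} = [G : R^E]`. -/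
theorem l_index_mul (H : Subgroup (SLn F m)) (hRH : s_RE F m ≤ H) :
    H.index * Set.ncard {p : (Fin (m + 3) → F) × (Fin (m + 3) → F) | ∃ h ∈ H,
      p = ((h : Matrix (Fin (m + 3)) (Fin (m + 3)) F) *ᵥ e0 F m,
        (h : Matrix (Fin (m + 3)) (Fin (m + 3)) F) *ᵥ e1 F m)} = (s_RE F m).index := by
  classical
  letI := l_pairAct F m
  set x : (Fin (m + 3) → F) × (Fin (m + 3) → F) := (e0 F m, e1 F m) with hx
  have hsmul : ∀ (g : SLn F m) (p : (Fin (m + 3) → F) × (Fin (m + 3) → F)),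
      g • p = ((g : Matrix (Fin (m + 3)) (Fin (m + 3)) F) *ᵥ p.1,
        (g : Matrix (Fin (m + 3)) (Fin (m + 3)) F) *ᵥ p.2) := fun _ _ => rfl
  have hstabG : MulAction.stabilizer (SLn F m) x = s_RE F m := by
    ext g
    rw [MulAction.mem_stabilizer_iff, hsmul, hx, Prod.mk.injEq]
    rfl
  have hstabH : MulAction.stabilizer H x = (s_RE F m).subgroupOf H := by
    ext g
    rw [MulAction.mem_stabilizer_iff, Subgroup.mem_subgroupOf, ← hstabG,
      MulAction.mem_stabilizer_iff]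
    rfl
  have horb : MulAction.orbit H x = {p : (Fin (m + 3) → F) × (Fin (m + 3) → F) | ∃ h ∈ H,
      p = ((h : Matrix (Fin (m + 3)) (Fin (m + 3)) F) *ᵥ e0 F m,
        (h : Matrix (Fin (m + 3)) (Fin (m + 3)) F) *ᵥ e1 F m)} := by
    ext p
    rw [MulAction.mem_orbit_iff]
    constructor
    · rintro ⟨h, rfl⟩
      exact ⟨h.1, h.2, rfl⟩
    · rintro ⟨h, hh, rfl⟩
      exact ⟨⟨h, hh⟩, rfl⟩
  have h1 := MulAction.index_stabilizer H x
  rw [hstabH, horb] at h1
  rw [← h1, mul_comm]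
  exact Subgroup.relIndex_mul_index hRH

end Cfsg.Agent.SLMin
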