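import Mathlib
import Cfsg.Agent.SLMin.H3_Defs
import Cfsg.Agent.SLMin.L_FlagDegA
import Cfsg.Agent.SLMin.L_FlagDegB
import Cfsg.Agent.MinIdx.H8_L3

/-!
# S2332 / SLMin (lead): indices of the flag stabilisers, part C (the index formula)
-/

set_option autoImplicit false

namespace Cfsg.Agent.SLMin

open Matrix
open Cfsg.Agent.Helper8.SLTrans (e0 e1 e0_ne_zero e1_ne_zero mulVec_ne_zero exists_mulVec_e0_e1)

variable {F : Type*} [Field F] [Fintype F] [DecidableEq F] {m : ℕ}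

theorem l_e1_ne_smul_e0 (c : F) : e1 F m ≠ c • e0 F m := by
  intro h
  have := congrFun h 1
  simp [e0, e1] at this

/-- the orbit of `(e0, e1)` under a subgroup cut out by conditions on `g e0`, `g e1`. -/
theorem l_orbit_eq (S₁ S₂ : Submodule F (Fin (m + 3) → F)) (H : Subgroup (SLn F m))
    (hH : ∀ g : SLn F m, g ∈ H ↔
      (g : Matrix (Fin (m + 3)) (Fin (m + 3)) F) *ᵥ e0 F m ∈ S₁ ∧
      (g : Matrix (Fin (m + 3)) (Fin (m + 3)) F) *ᵥ e1 F m ∈ S₂) :
    {p : (Fin (m + 3) → F) × (Fin (m + 3) → F) | ∃ h ∈ H,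
      p = ((h : Matrix (Fin (m + 3)) (Fin (m + 3)) F) *ᵥ e0 F m,
        (h : Matrix (Fin (m + 3)) (Fin (m + 3)) F) *ᵥ e1 F m)} =
    {p | (p.1 ≠ 0 ∧ p.1 ∈ S₁) ∧ p.2 ∈ S₂ ∧ ∀ c : F, p.2 ≠ c • p.1} := by
  ext p
  constructor
  · rintro ⟨h, hh, rfl⟩
    obtain ⟨h1, h2⟩ := (hH h).mp hh
    refine ⟨⟨mulVec_ne_zero h e0_ne_zero, h1⟩, h2, ?_⟩
    intro c hc
    apply l_e1_ne_smul_e0 (F := F) (m := m) c
    change (h : Matrix (Fin (m + 3)) (Fin (m + 3)) F) *ᵥ e1 F m =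
      c • ((h : Matrix (Fin (m + 3)) (Fin (m + 3)) F) *ᵥ e0 F m) at hc
    rw [← Matrix.mulVec_smul] at hc
    rw [← s_inv_mulVec h (e1 F m), hc, s_inv_mulVec]
  · rintro ⟨⟨hv, h1⟩, h2, hc⟩
    have hw : p.2 ≠ 0 := by
      intro h0
      apply hc 0
      rw [h0, zero_smul]
    obtain ⟨g, hg0, hg1⟩ := exists_mulVec_e0_e1 hv hw hc
    refine ⟨g, (hH g).mpr ⟨by rw [hg0]; exact h1, by rw [hg1]; exact h2⟩, ?_⟩
    rw [hg0, hg1]

/-- **the index formula**. -/
theorem l_index_formula (S₁ S₂ : Submodule F (Fin (m + 3) → F)) (h12 : S₁ ≤ S₂)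
    (he0 : e0 F m ∈ S₁) (he1 : e1 F m ∈ S₂) (H : Subgroup (SLn F m))
    (hH : ∀ g : SLn F m, g ∈ H ↔
      (g : Matrix (Fin (m + 3)) (Fin (m + 3)) F) *ᵥ e0 F m ∈ S₁ ∧
      (g : Matrix (Fin (m + 3)) (Fin (m + 3)) F) *ᵥ e1 F m ∈ S₂) :
    H.index * ((Nat.card S₁ - 1) * (Nat.card S₂ - Fintype.card F)) = (s_RE F m).index := by
  classical
  have hRH : s_RE F m ≤ H := by
    intro g hg
    rw [hH]
    have h0 : (g : Matrix (Fin (m + 3)) (Fin (m + 3)) F) *ᵥ e0 F m = e0 F m := hg.1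
    have h1 : (g : Matrix (Fin (m + 3)) (Fin (m + 3)) F) *ᵥ e1 F m = e1 F m := hg.2
    rw [h0, h1]
    exact ⟨he0, he1⟩
  rw [← l_index_mul H hRH, l_orbit_eq S₁ S₂ H hH]
  congr 1
  set A : Finset (Fin (m + 3) → F) := Finset.univ.filter (fun v => v ≠ 0 ∧ v ∈ S₁) with hA
  set B : Finset (Fin (m + 3) → F) := Finset.univ.filter (fun v => v ∈ S₂) with hB
  have hset : {p : (Fin (m + 3) → F) × (Fin (m + 3) → F) |
      (p.1 ≠ 0 ∧ p.1 ∈ S₁) ∧ p.2 ∈ S₂ ∧ ∀ c : F, p.2 ≠ c • p.1} =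
      ↑((A ×ˢ B).filter (fun p : (Fin (m + 3) → F) × (Fin (m + 3) → F) =>
        ∀ c : F, p.2 ≠ c • p.1)) := by
    ext p
    simp only [Set.mem_setOf_eq, Finset.coe_filter, Finset.mem_product, hA, hB, Finset.mem_filter,
      Finset.mem_univ, true_and]
    tauto
  rw [hset, Set.ncard_coe_finset, l_count_pairs A B]
  · have hBc : B.card = Nat.card S₂ := by
      rw [Nat.card_eq_fintype_card, Fintype.card_subtype]
    have hAc : A.card = Nat.card S₁ - 1 := by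
      have h1 : A = (Finset.univ.filter (fun v => v ∈ S₁)).erase 0 := by
        ext v
        simp only [hA, Finset.mem_filter, Finset.mem_univ, true_and, Finset.mem_erase]
      rw [h1, Finset.card_erase_of_mem, Nat.card_eq_fintype_card, Fintype.card_subtype]
      simp only [Finset.mem_filter, Finset.mem_univ, true_and]
      exact S₁.zero_mem
    rw [hAc, hBc]
  · intro v hv
    rw [hA, Finset.mem_filter] at hv
    exact hv.2.1
  · intro v hv c
    rw [hA, Finset.mem_filter] at hv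
    rw [hB, Finset.mem_filter]
    exact ⟨Finset.mem_univ _, S₂.smul_mem c (h12 hv.2.2)⟩

theorem l_card_top : Nat.card (⊤ : Submodule F (Fin (m + 3) → F)) = Fintype.card F ^ (m + 3) := by
  rw [Nat.card_congr (Submodule.topEquiv (R := F) (M := Fin (m + 3) → F)).toEquiv,
    Nat.card_eq_fintype_card, Fintype.card_fun, Fintype.card_fin]

theorem l_card_L0 : Nat.card (s_L0 F m) = Fintype.card F := by
  have h : Module.finrank F (s_L0 F m) = 1 := finrank_span_singleton e0_ne_zero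
  rw [Module.natCard_eq_pow_finrank (K := F), h, pow_one, Nat.card_eq_fintype_card]

theorem l_card_E : Nat.card (s_E F m) = Fintype.card F ^ 2 := by
  have h : Module.finrank F (s_E F m) = 2 :=
    Cfsg.Agent.MinIdx.h8_finrank_pair e0_ne_zero (l_e1_ne_smul_e0 (F := F) (m := m))
  rw [Module.natCard_eq_pow_finrank (K := F), h, Nat.card_eq_fintype_card]

end Cfsg.Agent.SLMin
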