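import Mathlib
import Cfsg.Agent.SLMin.H3_Defs
import Cfsg.Agent.SLMin.L_FlagDegC

/-!
# S2332 / SLMin (lead): the indices of the point, line and flag stabilisers of `SL_n(q)`

With `a = [G : Stab(F e0)]`, `L = [G : Stab(E)]`, `c = [G : Stab(F e0 < E)]`, `n = m + 3`:
`a (q − 1) = qⁿ − 1`, `c (q − 1) = a (q^(n−1) − 1)`, `c = L (q + 1)`; for `n ≥ 4` also `2 a ≤ L`.
-/

set_option autoImplicit false

namespace Cfsg.Agent.SLMin

open Matrix
open Cfsg.Agent.Helper8.SLTrans (e0 e1)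

variable {F : Type*} [Field F] [Fintype F] [DecidableEq F] {m : ℕ}

theorem l_e0_mem_L0 : e0 F m ∈ s_L0 F m := Submodule.mem_span_singleton_self _

theorem l_e0_mem_E : e0 F m ∈ s_E F m := Submodule.subset_span (by simp)

theorem l_e1_mem_E : e1 F m ∈ s_E F m := Submodule.subset_span (by simp)

theorem l_L0_le_E : s_L0 F m ≤ s_E F m := by
  apply Submodule.span_mono
  intro x hx
  rw [Set.mem_singleton_iff] at hx
  rw [hx]
  simp

/-- the four orbit–stabiliser relations. -/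
theorem l_four (q : ℕ) (hq : Fintype.card F = q) :
    (q ^ (m + 3) - 1) * (q ^ (m + 3) - q) = (s_RE F m).index ∧
    (s_stabS (s_L0 F m)).index * ((q - 1) * (q ^ (m + 3) - q)) = (s_RE F m).index ∧
    (s_PE F m).index * ((q ^ 2 - 1) * (q ^ 2 - q)) = (s_RE F m).index ∧
    (s_P F m).index * ((q - 1) * (q ^ 2 - q)) = (s_RE F m).index := by
  subst hq
  refine ⟨?_, ?_, ?_, ?_⟩
  · have h := l_index_formula (F := F) (m := m) ⊤ ⊤ le_rfl Submodule.mem_top Submodule.mem_top ⊤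
      (fun g => by simp)
    rw [Subgroup.index_top, one_mul, l_card_top] at h
    exact h
  · have h := l_index_formula (F := F) (m := m) (s_L0 F m) ⊤ le_top l_e0_mem_L0 Submodule.mem_top
      (s_stabS (s_L0 F m)) (fun g => by rw [l_mem_stabS_L0]; simp)
    rw [l_card_top, l_card_L0] at h
    exact h
  · have h := l_index_formula (F := F) (m := m) (s_E F m) (s_E F m) le_rfl l_e0_mem_E l_e1_mem_E
      (s_PE F m) (fun g => l_mem_PE g)
    rw [l_card_E] at h
    exact h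
  · have h := l_index_formula (F := F) (m := m) (s_L0 F m) (s_E F m) l_L0_le_E l_e0_mem_L0
      l_e1_mem_E (s_P F m) (fun g => l_mem_P g)
    rw [l_card_E, l_card_L0] at h
    exact h

/-- pure arithmetic behind `l_flag_index`. -/
theorem l_flag_arith (q k a L c R : ℕ) (hq : 2 ≤ q)
    (h0 : (q ^ (k + 3) - 1) * (q ^ (k + 3) - q) = R)
    (ha : a * ((q - 1) * (q ^ (k + 3) - q)) = R)
    (hL : L * ((q ^ 2 - 1) * (q ^ 2 - q)) = R)
    (hc : c * ((q - 1) * (q ^ 2 - q)) = R) :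
    a * (q - 1) = q ^ (k + 3) - 1 ∧ c * (q - 1) = a * (q ^ (k + 2) - 1) ∧ c = L * (q + 1) := by
  obtain ⟨r, rfl⟩ : ∃ r, q = r + 2 := ⟨q - 2, by omega⟩
  have hT : 1 ≤ (r + 2) ^ (k + 2) := Nat.one_le_pow _ _ (by omega)
  obtain ⟨T, hTe⟩ : ∃ T, (r + 2) ^ (k + 2) = T + 1 := ⟨(r + 2) ^ (k + 2) - 1, by omega⟩
  have hT3 : 3 ≤ T := by
    have : (r + 2) ^ 2 ≤ (r + 2) ^ (k + 2) := Nat.pow_le_pow_right (by omega) (by omega)
    nlinarith
  have hpow : (r + 2) ^ (k + 3) = (r + 2) * T + (r + 2) := by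
    rw [pow_succ, hTe]
    ring
  have e1 : (r + 2) ^ (k + 3) - 1 = (r + 2) * T + (r + 1) := by rw [hpow]; omega
  have e2 : (r + 2) ^ (k + 3) - (r + 2) = (r + 2) * T := by rw [hpow]; omega
  have e3 : r + 2 - 1 = r + 1 := by omega
  have e4 : (r + 2) ^ 2 - 1 = (r + 3) * (r + 1) := by
    have : (r + 2) ^ 2 = (r + 3) * (r + 1) + 1 := by ring
    omega
  have e5 : (r + 2) ^ 2 - (r + 2) = (r + 2) * (r + 1) := by
    have : (r + 2) ^ 2 = (r + 2) * (r + 1) + (r + 2) := by ring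
    omega
  have e6 : (r + 2) ^ (k + 2) - 1 = T := by omega
  rw [e1, e2] at h0
  rw [e3, e2] at ha
  rw [e4, e5] at hL
  rw [e3, e5] at hc
  rw [e3, e1, e6]
  have hpos : 0 < (r + 2) * T := by positivity
  have g1 : a * (r + 1) = (r + 2) * T + (r + 1) := by
    apply Nat.eq_of_mul_eq_mul_right hpos
    rw [h0, ← ha]
    ring
  have g3 : c * (r + 1) = a * T := by
    have hpos' : 0 < (r + 1) * (r + 2) := by positivity
    apply Nat.eq_of_mul_eq_mul_right hpos'
    have : c * (r + 1) * ((r + 1) * (r + 2)) = a * T * ((r + 1) * (r + 2)) := by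
      calc c * (r + 1) * ((r + 1) * (r + 2)) = c * ((r + 1) * ((r + 2) * (r + 1))) := by ring
        _ = R := hc
        _ = a * ((r + 1) * ((r + 2) * T)) := ha.symm
        _ = a * T * ((r + 1) * (r + 2)) := by ring
    exact this
  have g2 : c = L * (r + 2 + 1) := by
    have hpos' : 0 < (r + 1) * ((r + 2) * (r + 1)) := by positivity
    apply Nat.eq_of_mul_eq_mul_right hpos'
    calc c * ((r + 1) * ((r + 2) * (r + 1))) = R := hc
      _ = L * ((r + 3) * (r + 1) * ((r + 2) * (r + 1))) := hL.symm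
      _ = L * (r + 2 + 1) * ((r + 1) * ((r + 2) * (r + 1))) := by ring
  exact ⟨g1, g3, g2⟩

/-- **the indices** of the stabilisers of the point `F e0`, the line `E` and the flag `F e0 < E`. -/
theorem l_flag_index (q : ℕ) (hq : Fintype.card F = q) :
    (s_stabS (s_L0 F m)).index * (q - 1) = q ^ (m + 3) - 1 ∧
    (s_P F m).index * (q - 1) = (s_stabS (s_L0 F m)).index * (q ^ (m + 2) - 1) ∧
    (s_P F m).index = (s_PE F m).index * (q + 1) := by
  have hq2 : 2 ≤ q := by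
    rw [← hq]
    exact Fintype.one_lt_card
  obtain ⟨h0, ha, hL, hc⟩ := l_four (F := F) (m := m) q hq
  exact l_flag_arith q m _ _ _ _ hq2 h0 ha hL hc

/-- for `n ≥ 4`: twice the number of points is at most the number of lines. -/
theorem l_two_points_le_lines (q : ℕ) (hq : Fintype.card F = q) (hm : 1 ≤ m) :
    2 * (s_stabS (s_L0 F m)).index ≤ (s_PE F m).index := by
  have hq2 : 2 ≤ q := by
    rw [← hq]
    exact Fintype.one_lt_card
  obtain ⟨_, h2, h3⟩ := l_flag_index (F := F) (m := m) q hq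
  set a := (s_stabS (s_L0 F m)).index
  set L := (s_PE F m).index
  set c := (s_P F m).index
  obtain ⟨r, rfl⟩ : ∃ r, q = r + 2 := ⟨q - 2, by omega⟩
  obtain ⟨k, rfl⟩ : ∃ k, m = k + 1 := ⟨m - 1, by omega⟩
  have e3 : r + 2 - 1 = r + 1 := by omega
  rw [e3] at h2
  -- L (r+3)(r+1) = a ((r+2)^(k+3) - 1)
  have hT : (r + 2) ^ 3 ≤ (r + 2) ^ (k + 1 + 2) := Nat.pow_le_pow_right (by omega) (by omega)
  obtain ⟨T, hTe⟩ : ∃ T, (r + 2) ^ (k + 1 + 2) = T + 1 :=
    ⟨(r + 2) ^ (k + 1 + 2) - 1, by have := Nat.one_le_pow (k + 1 + 2) (r + 2) (by omega); omega⟩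
  have e6 : (r + 2) ^ (k + 1 + 2) - 1 = T := by omega
  rw [e6, h3] at h2
  have hTbig : 2 * ((r + 3) * (r + 1)) ≤ T := by
    have h8 : (r + 2) ^ 3 = 2 * ((r + 3) * (r + 1)) + (r ^ 3 + 4 * r ^ 2 + 4 * r + 2) := by ring
    omega
  by_contra hlt
  push_neg at hlt
  -- L < 2a, so a T = L (r+3)(r+1) < 2a (r+3)(r+1) ≤ a T
  have hapos : 0 < a := by
    rcases Nat.eq_zero_or_pos a with h | h
    · rw [h] at hlt
      omega
    · exact h
  have h5 : a * T < a * T := by
    calc a * T = L * (r + 2 + 1) * (r + 1) := h2.symm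
      _ = L * ((r + 3) * (r + 1)) := by ring
      _ < (2 * a) * ((r + 3) * (r + 1)) := by
          apply Nat.mul_lt_mul_of_pos_right hlt
          positivity
      _ = a * (2 * ((r + 3) * (r + 1))) := by ring
      _ ≤ a * T := Nat.mul_le_mul_left a hTbig
  exact lt_irrefl _ h5

end Cfsg.Agent.SLMin
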