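import Mathlib
import Cfsg.Agent.SLMin.H3_Defs
import Cfsg.Agent.SLMin.H8_Par
import Cfsg.Agent.SLMin.L_FlagChar
import Cfsg.Agent.SLMin.L_FlagDeg
import Cfsg.Agent.Helper8.FlagD
import Cfsg.Agent.Helper8.FlagE
import Cfsg.Agent.Helper8.FlagI
import Cfsg.Agent.Lead.SteinCharA
import Cfsg.Agent.Helper4.PermCharOrbits
import Cfsg.Prelude.Def_ParabolicCharacters

set_option autoImplicit false

/-!
# S2332, piece S2 (helper8): the flag characters of `SL_n(q)`

An irreducible character `χ ≠ 1` of `SL_n(q)` occurring exactly once in the permutation character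
on the flags (point, line) has degree at least `b_n = (q^n - q)/(q - 1)`.
-/

namespace Cfsg.Agent.SLMin

open Matrix MulAction
open Cfsg.Agent.Helper8.SLTrans (e0 e1)
open Cfsg.Agent.Helper8.Flag

/-- a permutation character on cosets contains the trivial character once. -/
theorem s2_inner_one {G : Type*} [Group G] [Fintype G] (H : Subgroup G) :
    Cfsg.classInner (Cfsg.fixedPointCharacter H) (fun _ => (1 : ℂ)) = 1 := by
  apply l_ip_symm (map_one _)
  have h := Cfsg.Agent.Helper4.classInner_one_permChar (K := G) (G ⧸ H)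
  change Cfsg.classInner (fun _ => (1 : ℂ)) (Cfsg.fixedPointCharacter H) = _ at h
  rw [h]
  have hs : Subsingleton (orbitRel.Quotient G (G ⧸ H)) :=
    (MulAction.pretransitive_iff_subsingleton_quotient G (G ⧸ H)).mp inferInstance
  have hn : Nonempty (orbitRel.Quotient G (G ⧸ H)) := ⟨Quotient.mk'' ((1 : G) : G ⧸ H)⟩
  have : Nat.card (orbitRel.Quotient G (G ⧸ H)) = 1 := Nat.card_eq_one_iff_unique.mpr ⟨hs, hn⟩
  rw [this]
  simp

/-- the degree of a permutation character on cosets is the index. -/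
theorem s2_fpc_one {G : Type*} [Group G] [Fintype G] (H : Subgroup G) :
    Cfsg.fixedPointCharacter H 1 = (H.index : ℂ) := by
  rw [Cfsg.Agent.Lead.SteinChar.fixedPointCharacter_eq]
  exact Cfsg.Agent.Helper4.indFun_one_apply_one H

variable {F : Type*} [Field F] [Fintype F] [DecidableEq F] {m : ℕ}

/-- inner products of parabolic permutation characters of `SL_n` are double coset numbers of
Young subgroups. -/
theorem s2_inner_par (ν μ : Fin (m + 3) → ℕ) :
    Cfsg.classInner (Cfsg.fixedPointCharacter (parSL (m + 3) F ν))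
        (Cfsg.fixedPointCharacter (parSL (m + 3) F μ)) =
      (Nat.card (orbitRel.Quotient (Cfsg.youngSubgroup ν)
        (Equiv.Perm (Fin (m + 3)) ⧸ Cfsg.youngSubgroup μ)) : ℂ) := by
  rw [Cfsg.Agent.Lead.SteinChar.classInner_fixedPointCharacter, card_orbits_SL, card_orbits_eq]

/-- `b_n = N_n - 1`. -/
theorem s2_b_eq (q k a : ℕ) (hq : 2 ≤ q) (ha : a * (q - 1) = q ^ (k + 3) - 1) :
    s_b q (k + 3) = a - 1 := by
  obtain ⟨r, rfl⟩ : ∃ r, q = r + 2 := ⟨q - 2, by omega⟩
  have e : r + 2 - 1 = r + 1 := by omega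
  rw [e] at ha
  unfold s_b
  rw [e]
  have hpow : r + 2 ≤ (r + 2) ^ (k + 3) := by
    calc r + 2 = (r + 2) ^ 1 := (pow_one _).symm
      _ ≤ (r + 2) ^ (k + 3) := Nat.pow_le_pow_right (by omega) (by omega)
  have ha1 : 1 ≤ a := by
    rcases Nat.eq_zero_or_pos a with h0 | h0
    · rw [h0, zero_mul] at ha
      omega
    · exact h0
  have : (r + 2) ^ (k + 3) - (r + 2) = (a - 1) * (r + 1) := by
    have h2 : (a - 1) * (r + 1) = a * (r + 1) - (r + 1) := by
      rw [Nat.sub_mul, one_mul]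
    rw [h2, ha]
    omega
  rw [this, Nat.mul_div_cancel _ (by omega)]

theorem s2_flag (χ : SLn F m → ℂ) (hχ : Cfsg.IsIrrCharacter (SLn F m) χ) (h1 : χ ≠ fun _ => 1)
    (hP : Cfsg.classInner χ (Cfsg.fixedPointCharacter (s_P F m)) = 1) :
    ∃ d : ℕ, χ 1 = d ∧ s_b (Fintype.card F) (m + 3) ≤ d := by
  have hq2 : 2 ≤ Fintype.card F := Fintype.one_lt_card
  obtain ⟨i1, i2, i3⟩ := l_flag_index (F := F) (m := m) (Fintype.card F) rfl
  rw [s2_b_eq _ m _ hq2 i1]
  have c2 : (starRingEnd ℂ) (2 : ℂ) = 2 := map_ofNat _ 2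
  have c3 : (starRingEnd ℂ) (3 : ℂ) = 3 := map_ofNat _ 3
  have c4 : (starRingEnd ℂ) (4 : ℂ) = 4 := map_ofNat _ 4
  have h11 : Cfsg.classInner (Cfsg.fixedPointCharacter (s_stabS (s_L0 F m)))
      (Cfsg.fixedPointCharacter (s_stabS (s_L0 F m))) = 2 := by
    rw [s2_stabL0_eq, s2_inner_par, young_11]
    norm_num
  have hP1 : Cfsg.classInner (Cfsg.fixedPointCharacter (s_P F m))
      (Cfsg.fixedPointCharacter (s_stabS (s_L0 F m))) = 3 := by
    rw [s2_stabL0_eq, s2_P_eq, s2_inner_par, young_P1]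
    norm_num
  rcases Nat.eq_zero_or_pos m with rfl | hm
  · -- `n = 3`: the Borel subgroup
    have hBB : Cfsg.classInner (Cfsg.fixedPointCharacter (s_P F 0))
        (Cfsg.fixedPointCharacter (s_P F 0)) = 6 := by
      rw [s2_P_eq, s2_inner_par, young_PP_zero]
      norm_num
    have hca : (s_P F 0).index = (s_stabS (s_L0 F 0)).index * (Fintype.card F + 1) := by
      obtain ⟨r, hr⟩ : ∃ r, Fintype.card F = r + 2 := ⟨Fintype.card F - 2, by omega⟩
      rw [hr] at i2 ⊢
      have e : r + 2 - 1 = r + 1 := by omega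
      have e2 : (r + 2) ^ (0 + 2) - 1 = (r + 1) * (r + 2 + 1) := by
        have : (r + 2) ^ (0 + 2) = (r + 1) * (r + 2 + 1) + 1 := by ring
        omega
      rw [e, e2] at i2
      have : (s_P F 0).index * (r + 1) =
          ((s_stabS (s_L0 F 0)).index * (r + 2 + 1)) * (r + 1) := by
        rw [i2]
        ring
      exact Nat.eq_of_mul_eq_mul_right (by omega) this
    obtain ⟨d, hd, -, hle⟩ := l_flag_deg_borel
      (Cfsg.fixedPointCharacter (s_stabS (s_L0 F 0))) (Cfsg.fixedPointCharacter (s_P F 0))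
      (Cfsg.Agent.Lead.SteinChar.isCharacter_fixedPointCharacter _)
      (Cfsg.Agent.Lead.SteinChar.isCharacter_fixedPointCharacter _)
      (s2_inner_one _) (s2_inner_one _) h11 hP1 hBB χ hχ h1 hP
      (s_stabS (s_L0 F 0)).index (s_P F 0).index (Fintype.card F)
      (s2_fpc_one _) (s2_fpc_one _) hca hq2
    exact ⟨d, hd, hle⟩
  · have h21 : Cfsg.classInner (Cfsg.fixedPointCharacter (s_PE F m))
        (Cfsg.fixedPointCharacter (s_stabS (s_L0 F m))) = 2 := by
      rw [s2_stabL0_eq, s2_PE_eq, s2_inner_par, young_21]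
      norm_num
    have h22 : Cfsg.classInner (Cfsg.fixedPointCharacter (s_PE F m))
        (Cfsg.fixedPointCharacter (s_PE F m)) = 3 := by
      rw [s2_PE_eq, s2_inner_par, young_22 hm]
      norm_num
    have h2P : Cfsg.classInner (Cfsg.fixedPointCharacter (s_PE F m))
        (Cfsg.fixedPointCharacter (s_P F m)) = 4 := by
      rw [s2_P_eq, s2_PE_eq, s2_inner_par, young_2P hm]
      norm_num
    have hPP : Cfsg.classInner (Cfsg.fixedPointCharacter (s_P F m))
        (Cfsg.fixedPointCharacter (s_P F m)) = 7 := by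
      rw [s2_P_eq, s2_inner_par, young_PP hm]
      norm_num
    obtain ⟨d, hd, hle⟩ := l_flag_deg
      (Cfsg.fixedPointCharacter (s_stabS (s_L0 F m))) (Cfsg.fixedPointCharacter (s_PE F m))
      (Cfsg.fixedPointCharacter (s_P F m))
      (Cfsg.Agent.Lead.SteinChar.isCharacter_fixedPointCharacter _)
      (Cfsg.Agent.Lead.SteinChar.isCharacter_fixedPointCharacter _)
      (Cfsg.Agent.Lead.SteinChar.isCharacter_fixedPointCharacter _)
      (s2_inner_one _) (s2_inner_one _) (s2_inner_one _) h11 h21 h22 hP1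
      (l_ip_symm c4 h2P) hPP χ hχ h1 hP
      (s_stabS (s_L0 F m)).index (s_PE F m).index (s_P F m).index (Fintype.card F)
      (s2_fpc_one _) (s2_fpc_one _) (s2_fpc_one _) i3
      (l_two_points_le_lines (Fintype.card F) rfl hm) hq2
    exact ⟨d, hd, hle⟩

end Cfsg.Agent.SLMin
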