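import Mathlib
import Cfsg.Agent.SLMin.H3_Defs
import Cfsg.Agent.MinIdx.H8_Tv
import Cfsg.Agent.MinIdx.H4_Block
import Cfsg.Agent.Helper7.Transvections

/-!
# S2332 piece S4 (helper9): Theorem B

If the weight space `L = s_wt ψ ρ (t • e1)` of `B^u` is a line, then `R^E` (the pointwise stabiliser
of `E = ⟨e0, e1⟩`) fixes it pointwise, for all good `(m, q)`.
-/

set_option autoImplicit false

namespace Cfsg.Agent.SLMin

open Matrix Module
open Cfsg.Agent.Helper8.SLTrans (e0 e1)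
open Cfsg.Agent.Helper8.LS (USL z0 Uhom)
open Cfsg.Agent.MinIdx

variable {F : Type*} [Field F] {m : ℕ}
variable {V : Type*} [AddCommGroup V] [Module ℂ V]

/-! ### scaling elements -/

/-- `g` scales `v`. -/
def h9_Scales {G : Type*} [Group G] (ρ : Representation ℂ G V) (v : V) (g : G) : Prop :=
  ∃ c : ℂ, ρ g v = c • v

theorem h9_rho_inv_apply {G : Type*} [Group G] (ρ : Representation ℂ G V) (g : G) (v : V) :
    ρ g⁻¹ (ρ g v) = v := by
  rw [← Module.End.mul_apply, ← map_mul, inv_mul_cancel, map_one, Module.End.one_apply]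

theorem h9_rho_apply_inv {G : Type*} [Group G] (ρ : Representation ℂ G V) (g : G) (v : V) :
    ρ g (ρ g⁻¹ v) = v := by
  rw [← Module.End.mul_apply, ← map_mul, mul_inv_cancel, map_one, Module.End.one_apply]

/-- a commutator of scaling elements fixes the vector. -/
theorem h9_comm_fixes {G : Type*} [Group G] (ρ : Representation ℂ G V) {v : V} (hv : v ≠ 0)
    {g h : G} (hg : h9_Scales ρ v g) (hh : h9_Scales ρ v h) :
    ρ (g * h * g⁻¹ * h⁻¹) v = v := by
  obtain ⟨a, ha⟩ := hg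
  obtain ⟨b, hb⟩ := hh
  have ha0 : a ≠ 0 := by
    intro h0
    rw [h0, zero_smul] at ha
    have := h9_rho_inv_apply ρ g v
    rw [ha, map_zero] at this
    exact hv this.symm
  have hb0 : b ≠ 0 := by
    intro h0
    rw [h0, zero_smul] at hb
    have := h9_rho_inv_apply ρ h v
    rw [hb, map_zero] at this
    exact hv this.symm
  have hgi : ρ g⁻¹ v = a⁻¹ • v := by
    have := h9_rho_inv_apply ρ g v
    rw [ha, map_smul] at this
    calc ρ g⁻¹ v = a⁻¹ • (a • ρ g⁻¹ v) := by rw [smul_smul, inv_mul_cancel₀ ha0, one_smul]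
      _ = a⁻¹ • v := by rw [this]
  have hhi : ρ h⁻¹ v = b⁻¹ • v := by
    have := h9_rho_inv_apply ρ h v
    rw [hb, map_smul] at this
    calc ρ h⁻¹ v = b⁻¹ • (b • ρ h⁻¹ v) := by rw [smul_smul, inv_mul_cancel₀ hb0, one_smul]
      _ = b⁻¹ • v := by rw [this]
  rw [map_mul, map_mul, map_mul, Module.End.mul_apply, Module.End.mul_apply, Module.End.mul_apply,
    hhi, map_smul, hgi, map_smul, map_smul, map_smul, hb, map_smul, map_smul, ha, smul_smul,
    smul_smul, smul_smul]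
  have : b⁻¹ * a⁻¹ * b * a = 1 := by
    field_simp
  rw [this, one_smul]

/-- the fixer of a vector, as a subgroup. -/
def h9_fixer {G : Type*} [Group G] (ρ : Representation ℂ G V) (v : V) : Subgroup G where
  carrier := {g | ρ g v = v}
  mul_mem' := by
    intro a b ha hb
    show ρ (a * b) v = v
    rw [map_mul, Module.End.mul_apply, hb, ha]
  one_mem' := by
    show ρ 1 v = v
    rw [map_one, Module.End.one_apply]
  inv_mem' := by
    intro a ha
    show ρ a⁻¹ v = v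
    have := h9_rho_inv_apply ρ a v
    rwa [ha] at this

theorem h9_mem_fixer {G : Type*} [Group G] (ρ : Representation ℂ G V) (v : V) (g : G) :
    g ∈ h9_fixer ρ v ↔ ρ g v = v := Iff.rfl

/-! ### `Q` preserves the weight space of `t • e1` -/

theorem h9_z0_dot_smul_e1 (φ : Fin (m + 3) → F) (t : F) :
    z0 φ ⬝ᵥ (t • e1 F m) = t * φ 1 := by
  rw [dotProduct_smul, smul_eq_mul]
  congr 1
  unfold e1
  rw [dotProduct_single, mul_one]
  exact Cfsg.Agent.Helper8.LS.z0_succ φ (by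
    intro h
    have := congrArg Fin.val h
    simp at this)

/-- an element fixing `e0` with `g e1 ∈ e1 + F e0` maps the weight space of `t • e1` to itself. -/
theorem h9_Q_preserves (ρ : Representation ℂ (SLn F m) V) (ψ : Multiplicative F →* ℂˣ) (t : F)
    (g : SLn F m) (hg0 : (g : Matrix (Fin (m + 3)) (Fin (m + 3)) F) *ᵥ e0 F m = e0 F m)
    (hg1 : ∃ c : F, (g : Matrix (Fin (m + 3)) (Fin (m + 3)) F) *ᵥ e1 F m = e1 F m + c • e0 F m)
    {v : V} (hv : v ∈ s_wt ψ ρ (t • e1 F m)) : ρ g v ∈ s_wt ψ ρ (t • e1 F m) := by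
  rw [s_mem_wt] at hv ⊢
  intro φ
  have hconj := Cfsg.Agent.Helper8.LS.conj_Uhom g hg0 φ
  have h1 : ρ (USL φ) (ρ g v) = ρ (USL φ * g) v := by
    rw [map_mul, Module.End.mul_apply]
  have h2 : USL φ * g = g * USL (z0 φ ᵥ* (g : Matrix (Fin (m + 3)) (Fin (m + 3)) F)) :=
    hconj.symm
  rw [h1, h2, map_mul, Module.End.mul_apply, hv, map_smul]
  congr 3
  rw [h9_z0_dot_smul_e1, h9_z0_dot_smul_e1]
  congr 1
  obtain ⟨c, hc⟩ := hg1
  have h3 : (z0 φ ᵥ* (g : Matrix (Fin (m + 3)) (Fin (m + 3)) F)) 1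
      = z0 φ ⬝ᵥ ((g : Matrix (Fin (m + 3)) (Fin (m + 3)) F) *ᵥ e1 F m) := by
    rw [Cfsg.Agent.Helper8.SLTrans.mulVec_e1]
    rfl
  rw [h3, hc, dotProduct_add, dotProduct_smul, Cfsg.Agent.Helper8.LS.z0_dot_e0, smul_zero,
    add_zero]
  have := h9_z0_dot_smul_e1 (m := m) φ (1 : F)
  rw [one_smul, one_mul] at this
  rw [this]

/-! ### block matrices `diag(1, 1, A)` -/

section blocks

variable {k : ℕ}

theorem h9_blk_mul (A B : Matrix (Fin k) (Fin k) F) : h4_blk (A * B) = h4_blk A * h4_blk B := by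
  ext i j
  refine Fin.cases ?_ (fun i' => ?_) i <;> refine Fin.cases ?_ (fun j' => ?_) j <;>
    simp [Matrix.mul_apply, Fin.sum_univ_succ]

theorem h9_blk_one : h4_blk (1 : Matrix (Fin k) (Fin k) F) = 1 := by
  ext i j
  refine Fin.cases ?_ (fun i' => ?_) i <;> refine Fin.cases ?_ (fun j' => ?_) j <;>
    simp [Matrix.one_apply, Fin.succ_ne_zero, eq_comm]

/-- `diag(1, 1, A)`. -/
def h9_blk2 (A : Matrix (Fin k) (Fin k) F) : Matrix (Fin (k + 2)) (Fin (k + 2)) F :=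
  h4_blk (h4_blk A)

theorem h9_blk2_zero (A : Matrix (Fin k) (Fin k) F) (j : Fin (k + 2)) :
    h9_blk2 A 0 j = (1 : Matrix (Fin (k + 2)) (Fin (k + 2)) F) 0 j := by
  unfold h9_blk2
  refine Fin.cases ?_ (fun j' => ?_) j
  · simp
  · rw [h4_blk_zero_succ, Matrix.one_apply_ne (Fin.succ_ne_zero j').symm]

theorem h9_blk2_one (A : Matrix (Fin k) (Fin k) F) (j : Fin (k + 2)) :
    h9_blk2 A 1 j = (1 : Matrix (Fin (k + 2)) (Fin (k + 2)) F) 1 j := by
  unfold h9_blk2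
  have h1 : (1 : Fin (k + 2)) = (0 : Fin (k + 1)).succ := rfl
  rw [h1]
  refine Fin.cases ?_ (fun j' => ?_) j
  · rw [h4_blk_succ_zero, Matrix.one_apply_ne (Fin.succ_ne_zero _)]
  · rw [h4_blk_succ_succ]
    refine Fin.cases ?_ (fun j'' => ?_) j'
    · rw [h4_blk_zero_zero, Matrix.one_apply_eq]
    · rw [h4_blk_zero_succ, Matrix.one_apply_ne]
      intro h
      have := Fin.succ_injective _ h
      exact (Fin.succ_ne_zero j'') this.symm

theorem h9_blk2_succ_zero (A : Matrix (Fin k) (Fin k) F) (i : Fin k) :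
    h9_blk2 A i.succ.succ 0 = 0 := by
  unfold h9_blk2
  rw [h4_blk_succ_zero]

theorem h9_blk2_succ_one (A : Matrix (Fin k) (Fin k) F) (i : Fin k) :
    h9_blk2 A i.succ.succ 1 = 0 := by
  unfold h9_blk2
  have h1 : (1 : Fin (k + 2)) = (0 : Fin (k + 1)).succ := rfl
  rw [h1, h4_blk_succ_succ, h4_blk_succ_zero]

theorem h9_blk2_succ_succ (A : Matrix (Fin k) (Fin k) F) (i j : Fin k) :
    h9_blk2 A i.succ.succ j.succ.succ = A i j := by
  unfold h9_blk2
  rw [h4_blk_succ_succ, h4_blk_succ_succ]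

theorem h9_fin_cases2 (i : Fin (k + 2)) : i = 0 ∨ i = 1 ∨ ∃ i' : Fin k, i = i'.succ.succ := by
  refine Fin.cases (Or.inl rfl) (fun i' => ?_) i
  refine Fin.cases (Or.inr (Or.inl rfl)) (fun i'' => ?_) i'
  exact Or.inr (Or.inr ⟨i'', rfl⟩)

theorem h9_sum_univ_two {M : Type*} [AddCommMonoid M] (f : Fin (k + 2) → M) :
    ∑ i, f i = f 0 + (f 1 + ∑ i : Fin k, f i.succ.succ) := by
  rw [Fin.sum_univ_succ, Fin.sum_univ_succ]
  rfl

/-- the unipotent factor. -/
def h9_Y (g : Matrix (Fin (k + 2)) (Fin (k + 2)) F) : Matrix (Fin (k + 2)) (Fin (k + 2)) F :=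
  1 + vecMulVec (Pi.single 0 1) (fun j => g 0 j - (1 : Matrix (Fin (k + 2)) (Fin (k + 2)) F) 0 j)
    + vecMulVec (Pi.single 1 1) (fun j => g 1 j - (1 : Matrix (Fin (k + 2)) (Fin (k + 2)) F) 1 j)

/-- the lower right block. -/
def h9_low (g : Matrix (Fin (k + 2)) (Fin (k + 2)) F) : Matrix (Fin k) (Fin k) F :=
  Matrix.of fun i j => g i.succ.succ j.succ.succ

theorem h9_low_apply (g : Matrix (Fin (k + 2)) (Fin (k + 2)) F) (i j : Fin k) :
    h9_low g i j = g i.succ.succ j.succ.succ := rfl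

/-- the matrix decomposition of an element fixing the first two basis vectors. -/
theorem h9_decomp_matrix (g : Matrix (Fin (k + 2)) (Fin (k + 2)) F)
    (h0 : ∀ i, g i 0 = (1 : Matrix (Fin (k + 2)) (Fin (k + 2)) F) i 0)
    (h1 : ∀ i, g i 1 = (1 : Matrix (Fin (k + 2)) (Fin (k + 2)) F) i 1) :
    g = h9_blk2 (h9_low g) * h9_Y g := by
  have h01 : (0 : Fin (k + 2)) ≠ 1 := by
    intro h
    have := congrArg Fin.val h
    simp at this
  have hs0 : ∀ i : Fin k, i.succ.succ ≠ (0 : Fin (k + 2)) := fun i => Fin.succ_ne_zero _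
  have hs1 : ∀ i : Fin k, i.succ.succ ≠ (1 : Fin (k + 2)) := by
    intro i h
    have := congrArg Fin.val h
    simp at this
  -- entries of the second factor
  have hY0 : ∀ j, h9_Y g 0 j = g 0 j := by
    intro j
    unfold h9_Y
    rw [Matrix.add_apply, Matrix.add_apply, vecMulVec_apply, vecMulVec_apply, Pi.single_eq_same,
      Pi.single_eq_of_ne h01, one_mul, zero_mul, add_zero, add_sub_cancel]
  have hY1 : ∀ j, h9_Y g 1 j = g 1 j := by
    intro j
    unfold h9_Y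
    rw [Matrix.add_apply, Matrix.add_apply, vecMulVec_apply, vecMulVec_apply, Pi.single_eq_same,
      Pi.single_eq_of_ne h01.symm, one_mul, zero_mul, add_zero, add_sub_cancel]
  have hYs : ∀ (i : Fin k) j, h9_Y g i.succ.succ j
        = (1 : Matrix (Fin (k + 2)) (Fin (k + 2)) F) i.succ.succ j := by
    intro i j
    unfold h9_Y
    rw [Matrix.add_apply, Matrix.add_apply, vecMulVec_apply, vecMulVec_apply,
      Pi.single_eq_of_ne (hs0 i), Pi.single_eq_of_ne (hs1 i), zero_mul, zero_mul, add_zero,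
      add_zero]
  ext i j
  rw [Matrix.mul_apply, h9_sum_univ_two, hY0, hY1]
  simp only [hYs]
  rcases h9_fin_cases2 i with rfl | rfl | ⟨i'', rfl⟩
  · rw [h9_blk2_zero, h9_blk2_zero, Matrix.one_apply_eq, Matrix.one_apply_ne h01, one_mul,
      zero_mul, zero_add]
    have : ∑ x : Fin k, h9_blk2 (h9_low g) 0 x.succ.succ *
        (1 : Matrix (Fin (k + 2)) (Fin (k + 2)) F) x.succ.succ j = 0 := by
      apply Finset.sum_eq_zero
      intro x _
      rw [h9_blk2_zero, Matrix.one_apply_ne (hs0 x).symm, zero_mul]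
    rw [this, add_zero]
  · rw [h9_blk2_one, h9_blk2_one, Matrix.one_apply_eq, Matrix.one_apply_ne h01.symm,
      one_mul, zero_mul, zero_add]
    have : ∑ x : Fin k, h9_blk2 (h9_low g) 1 x.succ.succ *
        (1 : Matrix (Fin (k + 2)) (Fin (k + 2)) F) x.succ.succ j = 0 := by
      apply Finset.sum_eq_zero
      intro x _
      rw [h9_blk2_one, Matrix.one_apply_ne (hs1 x).symm, zero_mul]
    rw [this, add_zero]
  · rw [h9_blk2_succ_zero, h9_blk2_succ_one, zero_mul, zero_mul, zero_add, zero_add]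
    simp only [h9_blk2_succ_succ, h9_low_apply]
    rcases h9_fin_cases2 j with rfl | rfl | ⟨j'', rfl⟩
    · rw [h0, Matrix.one_apply_ne (hs0 i'')]
      symm
      apply Finset.sum_eq_zero
      intro x _
      rw [Matrix.one_apply_ne (hs0 x), mul_zero]
    · rw [h1, Matrix.one_apply_ne (hs1 i'')]
      symm
      apply Finset.sum_eq_zero
      intro x _
      rw [Matrix.one_apply_ne (hs1 x), mul_zero]
    · rw [Finset.sum_eq_single j'']
      · rw [Matrix.one_apply_eq, mul_one]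
      · intro x _ hx
        rw [Matrix.one_apply_ne, mul_zero]
        intro h
        exact hx (Fin.succ_injective _ (Fin.succ_injective _ h))
      · intro h
        exact absurd (Finset.mem_univ _) h


theorem h9_blk2_col_zero (A : Matrix (Fin k) (Fin k) F) (i : Fin (k + 2)) :
    h9_blk2 A i 0 = (1 : Matrix (Fin (k + 2)) (Fin (k + 2)) F) i 0 := by
  rcases h9_fin_cases2 i with rfl | rfl | ⟨i', rfl⟩
  · exact h9_blk2_zero A 0
  · exact h9_blk2_one A 0
  · rw [h9_blk2_succ_zero, Matrix.one_apply_ne (Fin.succ_ne_zero _)]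

theorem h9_blk2_col_one (A : Matrix (Fin k) (Fin k) F) (i : Fin (k + 2)) :
    h9_blk2 A i 1 = (1 : Matrix (Fin (k + 2)) (Fin (k + 2)) F) i 1 := by
  rcases h9_fin_cases2 i with rfl | rfl | ⟨i', rfl⟩
  · exact h9_blk2_zero A 1
  · exact h9_blk2_one A 1
  · rw [h9_blk2_succ_one, Matrix.one_apply_ne]
    intro h
    have := congrArg Fin.val h
    simp at this

theorem h9_blk2_det (A : Matrix (Fin k) (Fin k) F) : (h9_blk2 A).det = A.det := by
  unfold h9_blk2
  rw [h4_blk_det, h4_blk_det]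

/-- `A ↦ diag(1, 1, A)` as a homomorphism `SL_k → SL_(k+2)`. -/
def h9_emb2 : SpecialLinearGroup (Fin k) F →* SpecialLinearGroup (Fin (k + 2)) F where
  toFun A := ⟨h9_blk2 A.1, by rw [h9_blk2_det]; exact A.2⟩
  map_one' := by
    apply Subtype.ext
    show h9_blk2 (1 : Matrix (Fin k) (Fin k) F) = 1
    unfold h9_blk2
    rw [h9_blk_one, h9_blk_one]
  map_mul' := by
    intro A B
    apply Subtype.ext
    show h9_blk2 (A.1 * B.1) = h9_blk2 A.1 * h9_blk2 B.1
    unfold h9_blk2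
    rw [h9_blk_mul, h9_blk_mul]

theorem h9_emb2_coe (A : SpecialLinearGroup (Fin k) F) :
    ((h9_emb2 A : SpecialLinearGroup (Fin (k + 2)) F) : Matrix (Fin (k + 2)) (Fin (k + 2)) F)
      = h9_blk2 A.1 := rfl

/-- the unipotent factor is a product of two transvections. -/
theorem h9_Y_eq (g : Matrix (Fin (k + 2)) (Fin (k + 2)) F) (h01 : g 0 1 = 0) :
    h9_Y g = h8_tvM (Pi.single 0 1)
        (fun j => g 0 j - (1 : Matrix (Fin (k + 2)) (Fin (k + 2)) F) 0 j)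
      * h8_tvM (Pi.single 1 1)
        (fun j => g 1 j - (1 : Matrix (Fin (k + 2)) (Fin (k + 2)) F) 1 j) := by
  have hne : (0 : Fin (k + 2)) ≠ 1 := by
    intro h
    have := congrArg Fin.val h
    simp at this
  have hz : (fun j => g 0 j - (1 : Matrix (Fin (k + 2)) (Fin (k + 2)) F) 0 j)
      ⬝ᵥ (Pi.single 1 1 : Fin (k + 2) → F) = 0 := by
    rw [dotProduct_single, mul_one, h01, Matrix.one_apply_ne hne, sub_zero]
  unfold h9_Y h8_tvM
  have hAB := h8_vmv_mul (Pi.single 0 1 : Fin (k + 2) → F)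
    (fun j => g 0 j - (1 : Matrix (Fin (k + 2)) (Fin (k + 2)) F) 0 j)
    (Pi.single 1 1 : Fin (k + 2) → F)
    (fun j => g 1 j - (1 : Matrix (Fin (k + 2)) (Fin (k + 2)) F) 1 j)
  rw [hz, zero_smul] at hAB
  generalize vecMulVec (Pi.single 0 1 : Fin (k + 2) → F)
    (fun j => g 0 j - (1 : Matrix (Fin (k + 2)) (Fin (k + 2)) F) 0 j) = A at *
  generalize vecMulVec (Pi.single 1 1 : Fin (k + 2) → F)
    (fun j => g 1 j - (1 : Matrix (Fin (k + 2)) (Fin (k + 2)) F) 1 j) = B at *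
  calc 1 + A + B = 1 + A + B + A * B := by rw [hAB, add_zero]
    _ = (1 + A) * (1 + B) := by noncomm_ring

theorem h9_tvM_mulVec {n : ℕ} (e φ x : Fin n → F) :
    h8_tvM e φ *ᵥ x = x + (φ ⬝ᵥ x) • e := by
  unfold h8_tvM
  rw [Matrix.add_mulVec, Matrix.one_mulVec, Matrix.vecMulVec_mulVec]
  congr 1
  ext i
  simp [mul_comm]

end blocks

/-! ### the decomposition of `R^E` -/

/-- `A ↦ diag(1, 1, A)`, `SL_(m+1) → SL_(m+3)`. -/
def h9_embS (F : Type*) [Field F] (m : ℕ) : SpecialLinearGroup (Fin (m + 1)) F →* SLn F m :=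
  h9_emb2 (F := F) (k := m + 1)

theorem h9_col0_of_fix (g : Matrix (Fin (m + 3)) (Fin (m + 3)) F) (h : g *ᵥ e0 F m = e0 F m)
    (i : Fin (m + 3)) : g i 0 = (1 : Matrix (Fin (m + 3)) (Fin (m + 3)) F) i 0 := by
  have := congrFun h i
  rw [Cfsg.Agent.Helper8.SLTrans.mulVec_e0] at this
  have h2 : g i 0 = e0 F m i := this
  rw [h2]
  unfold e0
  rw [Matrix.one_apply, Pi.single_apply]

theorem h9_col1_of_fix (g : Matrix (Fin (m + 3)) (Fin (m + 3)) F) (h : g *ᵥ e1 F m = e1 F m)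
    (i : Fin (m + 3)) : g i 1 = (1 : Matrix (Fin (m + 3)) (Fin (m + 3)) F) i 1 := by
  have := congrFun h i
  rw [Cfsg.Agent.Helper8.SLTrans.mulVec_e1] at this
  have h2 : g i 1 = e1 F m i := this
  rw [h2]
  unfold e1
  rw [Matrix.one_apply, Pi.single_apply]

theorem h9_fix_of_col0 (g : Matrix (Fin (m + 3)) (Fin (m + 3)) F)
    (h : ∀ i, g i 0 = (1 : Matrix (Fin (m + 3)) (Fin (m + 3)) F) i 0) :
    g *ᵥ e0 F m = e0 F m := by
  rw [Cfsg.Agent.Helper8.SLTrans.mulVec_e0]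
  funext i
  rw [h i]
  unfold e0
  rw [Matrix.one_apply, Pi.single_apply]

theorem h9_fix_of_col1 (g : Matrix (Fin (m + 3)) (Fin (m + 3)) F)
    (h : ∀ i, g i 1 = (1 : Matrix (Fin (m + 3)) (Fin (m + 3)) F) i 1) :
    g *ᵥ e1 F m = e1 F m := by
  rw [Cfsg.Agent.Helper8.SLTrans.mulVec_e1]
  funext i
  rw [h i]
  unfold e1
  rw [Matrix.one_apply, Pi.single_apply]

theorem h9_embS_e0 (A : SpecialLinearGroup (Fin (m + 1)) F) :
    (h9_embS F m A : Matrix (Fin (m + 3)) (Fin (m + 3)) F) *ᵥ e0 F m = e0 F m :=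
  h9_fix_of_col0 _ (fun i => h9_blk2_col_zero (k := m + 1) A.1 i)

theorem h9_embS_e1 (A : SpecialLinearGroup (Fin (m + 1)) F) :
    (h9_embS F m A : Matrix (Fin (m + 3)) (Fin (m + 3)) F) *ᵥ e1 F m = e1 F m :=
  h9_fix_of_col1 _ (fun i => h9_blk2_col_one (k := m + 1) A.1 i)

/-- a transvection `T(e, φ)` with `φ ⊥ x` fixes `x`. -/
theorem h9_tv_fix (e φ x : Fin (m + 3) → F) (h : φ ⬝ᵥ e = 0) (hx : φ ⬝ᵥ x = 0) :
    (h8_tv e φ h : Matrix (Fin (m + 3)) (Fin (m + 3)) F) *ᵥ x = x := by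
  rw [h8_tv_coe, h9_tvM_mulVec, hx, zero_smul, add_zero]

/-- every element of `R^E` is `diag(1,1,A) · T(e0, φ₀) · T(e1, φ₁)` with `φ₀, φ₁ ⊥ E`. -/
theorem h9_RE_decomp (g : SLn F m) (hg : g ∈ s_RE F m) :
    ∃ (A : SpecialLinearGroup (Fin (m + 1)) F) (φ₀ φ₁ : Fin (m + 3) → F)
      (h00 : φ₀ ⬝ᵥ e0 F m = 0) (h11 : φ₁ ⬝ᵥ e1 F m = 0),
      φ₀ ⬝ᵥ e1 F m = 0 ∧ φ₁ ⬝ᵥ e0 F m = 0 ∧
      g = h9_embS F m A * h8_tv (e0 F m) φ₀ h00 * h8_tv (e1 F m) φ₁ h11 := by
  have hc0 := h9_col0_of_fix g.1 hg.1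
  have hc1 := h9_col1_of_fix g.1 hg.2
  have hne : (0 : Fin (m + 3)) ≠ 1 := by
    intro h
    have := congrArg Fin.val h
    simp at this
  set φ₀ : Fin (m + 3) → F :=
    fun j => g.1 0 j - (1 : Matrix (Fin (m + 3)) (Fin (m + 3)) F) 0 j with hφ₀
  set φ₁ : Fin (m + 3) → F :=
    fun j => g.1 1 j - (1 : Matrix (Fin (m + 3)) (Fin (m + 3)) F) 1 j with hφ₁
  have h00 : φ₀ ⬝ᵥ e0 F m = 0 := by
    unfold e0
    rw [dotProduct_single, mul_one, hφ₀]
    show g.1 0 0 - _ = 0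
    rw [hc0 0, sub_self]
  have h01 : φ₀ ⬝ᵥ e1 F m = 0 := by
    unfold e1
    rw [dotProduct_single, mul_one, hφ₀]
    show g.1 0 1 - _ = 0
    rw [hc1 0, sub_self]
  have h10 : φ₁ ⬝ᵥ e0 F m = 0 := by
    unfold e0
    rw [dotProduct_single, mul_one, hφ₁]
    show g.1 1 0 - _ = 0
    rw [hc0 1, sub_self]
  have h11 : φ₁ ⬝ᵥ e1 F m = 0 := by
    unfold e1
    rw [dotProduct_single, mul_one, hφ₁]
    show g.1 1 1 - _ = 0
    rw [hc1 1, sub_self]
  have hmat : g.1 = h9_blk2 (k := m + 1) (h9_low (k := m + 1) g.1)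
      * (h8_tvM (e0 F m) φ₀ * h8_tvM (e1 F m) φ₁) := by
    have h1 := h9_decomp_matrix (k := m + 1) g.1 hc0 hc1
    have h2 := h9_Y_eq (k := m + 1) g.1 (by rw [hc1 0, Matrix.one_apply_ne hne])
    rw [h2] at h1
    exact h1
  have hdet : (h9_low (k := m + 1) g.1).det = 1 := by
    have := congrArg Matrix.det hmat
    rw [Matrix.det_mul, Matrix.det_mul, h8_tvM_det, h8_tvM_det, h00, h11, add_zero, mul_one,
      mul_one, h9_blk2_det] at this
    rw [← this]
    exact g.2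
  refine ⟨⟨h9_low (k := m + 1) g.1, hdet⟩, φ₀, φ₁, h00, h11, h01, h10, ?_⟩
  apply Subtype.ext
  rw [s_coe_mul, s_coe_mul, h8_tv_coe, h8_tv_coe, mul_assoc]
  exact hmat

/-! ### elements normalising `B^u` compatibly preserve the weight space -/

/-- conjugation of `USL φ` by an element with `g e0 = a e0`. -/
theorem h9_USL_mul (g : SLn F m) (a : F) (ha : a ≠ 0)
    (hg0 : (g : Matrix (Fin (m + 3)) (Fin (m + 3)) F) *ᵥ e0 F m = a • e0 F m)
    (φ : Fin (m + 3) → F) :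
    USL φ * g = g * USL (a⁻¹ • (z0 φ ᵥ* (g : Matrix (Fin (m + 3)) (Fin (m + 3)) F))) := by
  apply Subtype.ext
  rw [s_coe_mul, s_coe_mul]
  show Cfsg.Agent.Helper8.LS.Umat φ * g.1 = g.1 * Cfsg.Agent.Helper8.LS.Umat _
  have h0 : (a⁻¹ • (z0 φ ᵥ* (g : Matrix (Fin (m + 3)) (Fin (m + 3)) F))) 0 = 0 := by
    have : (z0 φ ᵥ* (g : Matrix (Fin (m + 3)) (Fin (m + 3)) F)) 0
        = z0 φ ⬝ᵥ ((g : Matrix (Fin (m + 3)) (Fin (m + 3)) F) *ᵥ e0 F m) := by
      rw [Cfsg.Agent.Helper8.SLTrans.mulVec_e0]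
      rfl
    rw [Pi.smul_apply, this, hg0, dotProduct_smul, Cfsg.Agent.Helper8.LS.z0_dot_e0, smul_zero,
      smul_zero]
  unfold Cfsg.Agent.Helper8.LS.Umat
  rw [Cfsg.Agent.Helper8.LS.z0_of_zero h0, mul_add, add_mul, mul_one, one_mul, mul_vecMulVec, hg0,
    vecMulVec_mul, smul_vecMulVec, vecMulVec_smul, smul_smul, mul_inv_cancel₀ ha, one_smul]

/-- an element with `g e0 = a e0`, `g e1 ∈ a e1 + F e0` maps the weight space of `t • e1` to
itself. -/
theorem h9_T_preserves (ρ : Representation ℂ (SLn F m) V) (ψ : Multiplicative F →* ℂˣ) (t : F)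
    (g : SLn F m) (a : F) (ha : a ≠ 0)
    (hg0 : (g : Matrix (Fin (m + 3)) (Fin (m + 3)) F) *ᵥ e0 F m = a • e0 F m)
    (hg1 : ∃ c : F, (g : Matrix (Fin (m + 3)) (Fin (m + 3)) F) *ᵥ e1 F m
      = a • e1 F m + c • e0 F m)
    {v : V} (hv : v ∈ s_wt ψ ρ (t • e1 F m)) : ρ g v ∈ s_wt ψ ρ (t • e1 F m) := by
  rw [s_mem_wt] at hv ⊢
  intro φ
  have h1 : ρ (USL φ) (ρ g v) = ρ (USL φ * g) v := by
    rw [map_mul, Module.End.mul_apply]
  rw [h1, h9_USL_mul g a ha hg0 φ, map_mul, Module.End.mul_apply, hv, map_smul]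
  congr 3
  rw [h9_z0_dot_smul_e1, h9_z0_dot_smul_e1]
  congr 1
  obtain ⟨c, hc⟩ := hg1
  have h3 : (z0 φ ᵥ* (g : Matrix (Fin (m + 3)) (Fin (m + 3)) F)) 1
      = z0 φ ⬝ᵥ ((g : Matrix (Fin (m + 3)) (Fin (m + 3)) F) *ᵥ e1 F m) := by
    rw [Cfsg.Agent.Helper8.SLTrans.mulVec_e1]
    rfl
  rw [Pi.smul_apply, h3, hc, dotProduct_add, dotProduct_smul, dotProduct_smul,
    Cfsg.Agent.Helper8.LS.z0_dot_e0, smul_zero, add_zero]
  have := h9_z0_dot_smul_e1 (m := m) φ (1 : F)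
  rw [one_smul, one_mul] at this
  rw [this, smul_eq_mul, smul_eq_mul]
  field_simp

/-! ### the three kinds of factors fix the line -/

/-- `T(e0, φ)` with `φ ⊥ E` acts trivially on the weight space of `t • e1`. -/
theorem h9_tv_e0_fix (ρ : Representation ℂ (SLn F m) V) (ψ : Multiplicative F →* ℂˣ) (t : F)
    (φ : Fin (m + 3) → F) (h0 : φ ⬝ᵥ e0 F m = 0) (h1 : φ ⬝ᵥ e1 F m = 0)
    {v : V} (hv : v ∈ s_wt ψ ρ (t • e1 F m)) : ρ (h8_tv (e0 F m) φ h0) v = v := by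
  have hφ0 : φ 0 = 0 := by
    have := h0
    unfold e0 at this
    rwa [dotProduct_single, mul_one] at this
  have hφ1 : φ 1 = 0 := by
    have := h1
    unfold e1 at this
    rwa [dotProduct_single, mul_one] at this
  have hU : h8_tv (e0 F m) φ h0 = USL φ := by
    apply Subtype.ext
    show h8_tvM (e0 F m) φ = Cfsg.Agent.Helper8.LS.Umat φ
    unfold Cfsg.Agent.Helper8.LS.Umat h8_tvM
    rw [Cfsg.Agent.Helper8.LS.z0_of_zero hφ0]
  rw [hU, (s_mem_wt ψ ρ _ v).mp hv φ, h9_z0_dot_smul_e1, hφ1, mul_zero]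
  have : (Multiplicative.ofAdd (0 : F)) = 1 := rfl
  rw [this, map_one, Units.val_one, one_smul]

/-- `T(e1, φ)` with `φ ⊥ E` fixes `v`, if the elements of `R^E` scale `v` and `n ≥ 4`
(commutator argument). -/
theorem h9_tv_e1_fix (ρ : Representation ℂ (SLn F m) V) (hm : 1 ≤ m) {v : V} (hv : v ≠ 0)
    (hsc : ∀ g : SLn F m, (g : Matrix (Fin (m + 3)) (Fin (m + 3)) F) *ᵥ e0 F m = e0 F m →
      (g : Matrix (Fin (m + 3)) (Fin (m + 3)) F) *ᵥ e1 F m = e1 F m → h9_Scales ρ v g)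
    (φ : Fin (m + 3) → F) (h0 : φ ⬝ᵥ e0 F m = 0) (h1 : φ ⬝ᵥ e1 F m = 0) :
    ρ (h8_tv (e1 F m) φ h1) v = v := by
  have hφ0 : φ 0 = 0 := by
    have := h0
    unfold e0 at this
    rwa [dotProduct_single, mul_one] at this
  have hφ1 : φ 1 = 0 := by
    have := h1
    unfold e1 at this
    rwa [dotProduct_single, mul_one] at this
  by_cases hφ : φ = 0
  · subst hφ
    rw [h8_tv_zero, map_one, Module.End.one_apply]
  · obtain ⟨j, hj⟩ : ∃ j, φ j ≠ 0 := by
      by_contra hcon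
      push Not at hcon
      exact hφ (funext hcon)
    have hj0 : j ≠ 0 := fun h => hj (h ▸ hφ0)
    have hj1 : j ≠ 1 := fun h => hj (h ▸ hφ1)
    -- an index `l ∉ {0, 1, j}`
    obtain ⟨l, hl0, hl1, hlj⟩ : ∃ l : Fin (m + 3), l ≠ 0 ∧ l ≠ 1 ∧ l ≠ j := by
      by_cases hj2 : j = ⟨2, by omega⟩
      · refine ⟨⟨3, by omega⟩, ?_, ?_, ?_⟩
        · intro h
          have := congrArg Fin.val h
          simp at this
        · intro h
          have := congrArg Fin.val h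
          simp at this
        · rw [hj2]
          intro h
          have := congrArg Fin.val h
          simp at this
      · refine ⟨⟨2, by omega⟩, ?_, ?_, fun h => hj2 h.symm⟩
        · intro h
          have := congrArg Fin.val h
          simp at this
        · intro h
          have := congrArg Fin.val h
          simp at this
    set φ' : Fin (m + 3) → F := Pi.single l 1 with hφ'
    set w : Fin (m + 3) → F := Pi.single l 1 - (φ l / φ j) • Pi.single j 1 with hw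
    have hφ'e0 : φ' ⬝ᵥ e0 F m = 0 := by
      unfold e0
      rw [dotProduct_single, mul_one, hφ', Pi.single_eq_of_ne hl0.symm]
    have hφ'e1 : φ' ⬝ᵥ e1 F m = 0 := by
      unfold e1
      rw [dotProduct_single, mul_one, hφ', Pi.single_eq_of_ne hl1.symm]
    have hφw : φ ⬝ᵥ w = 0 := by
      rw [hw, dotProduct_sub, dotProduct_smul, dotProduct_single, dotProduct_single, mul_one,
        mul_one, smul_eq_mul, div_mul_cancel₀ _ hj, sub_self]
    have hφ'w : φ' ⬝ᵥ w = 1 := by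
      rw [hφ', single_dotProduct, one_mul, hw, Pi.sub_apply, Pi.smul_apply, Pi.single_eq_same,
        Pi.single_eq_of_ne hlj, smul_zero, sub_zero]
    have hcomm := h8_tv_comm (e1 F m) φ' w φ hφ'e1 hφw h1
    have hT : h8_tv (e1 F m) φ h1
        = h8_tv (e1 F m) φ' hφ'e1 * h8_tv w φ hφw * (h8_tv (e1 F m) φ' hφ'e1)⁻¹
          * (h8_tv w φ hφw)⁻¹ := by
      rw [hcomm]
      apply Subtype.ext
      rw [h8_tv_coe, h8_tv_coe, hφ'w, one_smul]
    rw [hT]
    exact h9_comm_fixes ρ hv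
      (hsc _ (h9_tv_fix _ _ _ _ hφ'e0) (h9_tv_fix _ _ _ _ hφ'e1))
      (hsc _ (h9_tv_fix _ _ _ _ h0) (h9_tv_fix _ _ _ _ h1))

/-- `diag(1,1,A)` fixes `v`, if the elements of `R^E` scale `v` and the elementary transvections
of `SL_(m+1)` are commutators. -/
theorem h9_emb_fix (ρ : Representation ℂ (SLn F m) V) (hm : 1 ≤ m) {v : V} (hv : v ≠ 0)
    (hsc : ∀ g : SLn F m, (g : Matrix (Fin (m + 3)) (Fin (m + 3)) F) *ᵥ e0 F m = e0 F m →
      (g : Matrix (Fin (m + 3)) (Fin (m + 3)) F) *ᵥ e1 F m = e1 F m → h9_Scales ρ v g)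
    (htr : ∀ (i j : Fin (m + 1)) (hij : i ≠ j) (c : F),
      (SpecialLinearGroup.transvection hij c : SpecialLinearGroup (Fin (m + 1)) F) ∈
        commutatorSet (SpecialLinearGroup (Fin (m + 1)) F))
    (A : SpecialLinearGroup (Fin (m + 1)) F) : ρ (h9_embS F m A) v = v := by
  have : Nontrivial (Fin (m + 1)) := Fin.nontrivial_iff_two_le.mpr (by omega)
  refine Cfsg.Agent.Helper7.Transv.transvection_induction
    (fun A => ρ (h9_embS F m A) v = v) ?_ ?_ A
  · intro i j hij c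
    obtain ⟨x, y, hxy⟩ := htr i j hij c
    have hE : h9_embS F m (SpecialLinearGroup.transvection hij c)
        = h9_embS F m x * h9_embS F m y * (h9_embS F m x)⁻¹ * (h9_embS F m y)⁻¹ := by
      rw [← hxy, commutatorElement_def, (h9_embS F m).map_mul, (h9_embS F m).map_mul,
        (h9_embS F m).map_mul, (h9_embS F m).map_inv, (h9_embS F m).map_inv]
    show ρ (h9_embS F m (SpecialLinearGroup.transvection hij c)) v = v
    rw [hE]
    exact h9_comm_fixes ρ hv (hsc _ (h9_embS_e0 x) (h9_embS_e1 x))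
      (hsc _ (h9_embS_e0 y) (h9_embS_e1 y))
  · intro A B hA hB
    show ρ (h9_embS F m (A * B)) v = v
    rw [(h9_embS F m).map_mul, ρ.map_mul, Module.End.mul_apply, hB, hA]

/-- `SL_1` is trivial. -/
theorem h9_SL1_eq_one (A : SpecialLinearGroup (Fin 1) F) : A = 1 := by
  apply Subtype.ext
  ext i j
  have hi : i = 0 := Subsingleton.elim _ _
  have hj : j = 0 := Subsingleton.elim _ _
  subst hi
  subst hj
  have := A.2
  rw [Matrix.det_fin_one] at this
  rw [this]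
  rfl

/-- the torus computation for `n = 3`: `diag(a,a,a⁻²) T(e1, φ) = T(e1, a³ φ) diag(a,a,a⁻²)`. -/
theorem h9_torus_conj (a : Fˣ) (φ : Fin (0 + 3) → F) (h0 : φ ⬝ᵥ e0 F 0 = 0)
    (h1 : φ ⬝ᵥ e1 F 0 = 0) :
    Cfsg.Agent.Helper8.SLTrans.dmat (m := 0) a a * h8_tv (e1 F 0) φ h1
      = h8_tv (e1 F 0) (((a : F) ^ 3) • φ) (by rw [smul_dotProduct, h1, smul_zero])
        * Cfsg.Agent.Helper8.SLTrans.dmat (m := 0) a a := by
  have hφ0 : φ 0 = 0 := by
    have := h0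
    unfold e0 at this
    rwa [dotProduct_single, mul_one] at this
  have hφ1 : φ 1 = 0 := by
    have := h1
    unfold e1 at this
    rwa [dotProduct_single, mul_one] at this
  apply Subtype.ext
  rw [s_coe_mul, s_coe_mul, h8_tv_coe, h8_tv_coe]
  have hd := Cfsg.Agent.Helper8.SLTrans.dmat_e1 (m := 0) a a
  unfold h8_tvM
  rw [mul_add, add_mul, mul_one, one_mul, mul_vecMulVec, hd, vecMulVec_mul, smul_vecMulVec,
    ← vecMulVec_smul]
  congr 2
  funext i
  show (a : F) * φ i = ((((a : F) ^ 3) • φ) ᵥ* Matrix.diagonal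
    (Cfsg.Agent.Helper8.SLTrans.dvec (m := 0) a a)) i
  rw [vecMul_diagonal, Pi.smul_apply, smul_eq_mul]
  rcases h9_fin_cases2 (k := 1) i with rfl | rfl | ⟨i', rfl⟩
  · rw [hφ0, mul_zero, mul_zero, zero_mul]
  · rw [hφ1, mul_zero, mul_zero, zero_mul]
  · have hi' : i' = 0 := Subsingleton.elim _ _
    subst hi'
    have hd2 : Cfsg.Agent.Helper8.SLTrans.dvec (m := 0) a a (Fin.succ (Fin.succ (0 : Fin 1)))
        = (((a * a)⁻¹ : Fˣ) : F) := rfl
    rw [hd2, Units.val_inv_eq_inv_val, Units.val_mul]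
    have ha : (a : F) ≠ 0 := a.ne_zero
    field_simp

/-- `T(e1, φ)` with `φ ⊥ E` fixes `v` for `n = 3`, via the torus element `diag(a,a,a⁻²)`,
`a³ ≠ 1`. -/
theorem h9_tv_e1_fix0 (ρ : Representation ℂ (SLn F 0) V) {v : V} (hv : v ≠ 0)
    (hsc : ∀ g : SLn F 0, (g : Matrix (Fin (0 + 3)) (Fin (0 + 3)) F) *ᵥ e0 F 0 = e0 F 0 →
      (g : Matrix (Fin (0 + 3)) (Fin (0 + 3)) F) *ᵥ e1 F 0 = e1 F 0 → h9_Scales ρ v g)
    (a : Fˣ) (ha3 : (a : F) ^ 3 ≠ 1)
    (hsa : h9_Scales ρ v (Cfsg.Agent.Helper8.SLTrans.dmat (m := 0) a a))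
    (φ : Fin (0 + 3) → F) (h0 : φ ⬝ᵥ e0 F 0 = 0) (h1 : φ ⬝ᵥ e1 F 0 = 0) :
    ρ (h8_tv (e1 F 0) φ h1) v = v := by
  have hne : (a : F) ^ 3 - 1 ≠ 0 := sub_ne_zero_of_ne ha3
  set φ' : Fin (0 + 3) → F := ((a : F) ^ 3 - 1)⁻¹ • φ with hφ'
  have h0' : φ' ⬝ᵥ e0 F 0 = 0 := by rw [hφ', smul_dotProduct, h0, smul_zero]
  have h1' : φ' ⬝ᵥ e1 F 0 = 0 := by rw [hφ', smul_dotProduct, h1, smul_zero]
  have hconj := h9_torus_conj a φ' h0' h1'
  have hT : h8_tv (e1 F 0) φ h1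
      = Cfsg.Agent.Helper8.SLTrans.dmat (m := 0) a a * h8_tv (e1 F 0) φ' h1'
        * (Cfsg.Agent.Helper8.SLTrans.dmat (m := 0) a a)⁻¹ * (h8_tv (e1 F 0) φ' h1')⁻¹ := by
    rw [hconj, mul_assoc (h8_tv (e1 F 0) (((a : F) ^ 3) • φ') _), mul_inv_cancel, mul_one,
      h8_tv_inv, h8_tv_mul]
    apply Subtype.ext
    rw [h8_tv_coe, h8_tv_coe]
    congr 1
    rw [hφ']
    funext i
    simp only [Pi.add_apply, Pi.smul_apply, Pi.neg_apply, smul_eq_mul]
    field_simp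
    ring
  rw [hT]
  exact h9_comm_fixes ρ hv hsa (hsc _ (h9_tv_fix _ _ _ _ h0') (h9_tv_fix _ _ _ _ h1'))

/-! ### existence of suitable field elements -/

theorem h9_exists_sq_ne_one [Fintype F] (h2 : Fintype.card F ≠ 2) (h3 : Fintype.card F ≠ 3) :
    ∃ a : F, a ≠ 0 ∧ a ^ 2 ≠ 1 := by
  classical
  by_contra hcon
  push Not at hcon
  have hsub : (Finset.univ : Finset F) ⊆ {0, 1, -1} := by
    intro a _
    by_cases ha : a = 0
    · simp [ha]
    · have := hcon a ha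
      have h' : (a - 1) * (a + 1) = 0 := by
        have : (a - 1) * (a + 1) = a ^ 2 - 1 := by ring
        rw [this, hcon a ha, sub_self]
      rcases mul_eq_zero.mp h' with h | h
      · simp [sub_eq_zero.mp h]
      · simp [eq_neg_of_add_eq_zero_left h]
  have hc := Finset.card_le_card hsub
  have h3' : ({0, 1, -1} : Finset F).card ≤ 3 := Finset.card_le_three
  rw [Finset.card_univ] at hc
  have h1 : 1 < Fintype.card F := Fintype.one_lt_card
  omega

theorem h9_exists_cube_ne_one [Fintype F] (h2 : Fintype.card F ≠ 2) (h4 : Fintype.card F ≠ 4) :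
    ∃ a : Fˣ, (a : F) ^ 3 ≠ 1 := by
  classical
  by_contra hcon
  push Not at hcon
  have hall : ∀ a : Fˣ, a ^ 3 = 1 := by
    intro a
    apply Units.ext
    rw [Units.val_pow_eq_pow_val, hcon a]
    rfl
  have hexp : Monoid.exponent Fˣ ∣ 3 := Monoid.exponent_dvd_of_forall_pow_eq_one hall
  have hcyc : Monoid.exponent Fˣ = Nat.card Fˣ := IsCyclic.exponent_eq_card
  rw [hcyc, Nat.card_eq_fintype_card, Fintype.card_units] at hexp
  have h1 : 1 < Fintype.card F := Fintype.one_lt_card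
  have : Fintype.card F - 1 = 1 ∨ Fintype.card F - 1 = 3 :=
    (Nat.dvd_prime Nat.prime_three).mp hexp
  omega

end Cfsg.Agent.SLMin

/-! ### Theorem B -/

namespace Cfsg.Agent.SLMin

open Matrix Module
open Cfsg.Agent.Helper8.SLTrans (e0 e1)
open Cfsg.Agent.Helper8.LS (USL z0 Uhom)
open Cfsg.Agent.MinIdx

variable {F : Type*} [Field F] [Fintype F] [DecidableEq F] {m : ℕ}
variable {V : Type*} [AddCommGroup V] [Module ℂ V] [FiniteDimensional ℂ V]

/-- **S2332 piece S4 (Theorem B).**  If the weight space of `t • e1` is a line, it is fixed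
pointwise by `R^E`. -/
theorem s4_thmB (ρ : Representation ℂ (SLn F m) V) (ψ : Multiplicative F →* ℂˣ)
    (hgood : s_good m (Fintype.card F)) (t : F) (ht : t ≠ 0)
    (h1 : finrank ℂ (s_wt ψ ρ (t • e1 F m)) = 1) :
    s_wt ψ ρ (t • e1 F m) ≤ s_fix ρ (s_RE F m) := by
  have _ := ht
  obtain ⟨v₀', hv₀', hspan⟩ := finrank_eq_one_iff'.mp h1
  have hv₀L : (v₀' : V) ∈ s_wt ψ ρ (t • e1 F m) := v₀'.2
  have hv₀ : (v₀' : V) ≠ 0 := fun h => hv₀' (Subtype.ext h)
  have hspan' : ∀ u ∈ s_wt ψ ρ (t • e1 F m), ∃ c : ℂ, u = c • (v₀' : V) := by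
    intro u hu
    obtain ⟨c, hc⟩ := hspan ⟨u, hu⟩
    refine ⟨c, ?_⟩
    have := congrArg Subtype.val hc
    exact this.symm
  have hscA : ∀ (g : SLn F m) (a : F), a ≠ 0 →
      (g : Matrix (Fin (m + 3)) (Fin (m + 3)) F) *ᵥ e0 F m = a • e0 F m →
      (∃ c : F, (g : Matrix (Fin (m + 3)) (Fin (m + 3)) F) *ᵥ e1 F m
        = a • e1 F m + c • e0 F m) → h9_Scales ρ (v₀' : V) g := by
    intro g a ha h0 h1'
    exact hspan' _ (h9_T_preserves ρ ψ t g a ha h0 h1' hv₀L)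
  have hsc : ∀ g : SLn F m, (g : Matrix (Fin (m + 3)) (Fin (m + 3)) F) *ᵥ e0 F m = e0 F m →
      (g : Matrix (Fin (m + 3)) (Fin (m + 3)) F) *ᵥ e1 F m = e1 F m →
      h9_Scales ρ (v₀' : V) g := by
    intro g h0 h1'
    refine hscA g 1 one_ne_zero (by rw [one_smul]; exact h0) ⟨0, ?_⟩
    rw [one_smul, zero_smul, add_zero]
    exact h1'
  have key : ∀ g ∈ s_RE F m, ρ g (v₀' : V) = (v₀' : V) := by
    intro g hg
    obtain ⟨A, φ₀, φ₁, h00, h11, h01, h10, rfl⟩ := h9_RE_decomp g hg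
    have hT0 := h9_tv_e0_fix ρ ψ t φ₀ h00 h01 hv₀L
    have hT1 : ρ (h8_tv (e1 F m) φ₁ h11) (v₀' : V) = (v₀' : V) := by
      rcases Nat.eq_zero_or_pos m with hm | hm
      · subst hm
        have hq2 : Fintype.card F ≠ 2 := fun h => hgood.1 (by rw [h])
        have hq4 : Fintype.card F ≠ 4 := fun h => hgood.2.1 (by rw [h])
        obtain ⟨a, ha⟩ := h9_exists_cube_ne_one (F := F) hq2 hq4
        refine h9_tv_e1_fix0 ρ hv₀ hsc a ha ?_ φ₁ h10 h11
        refine hscA _ (a : F) a.ne_zero (Cfsg.Agent.Helper8.SLTrans.dmat_e0 a a) ⟨0, ?_⟩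
        rw [Cfsg.Agent.Helper8.SLTrans.dmat_e1, zero_smul, add_zero]
      · exact h9_tv_e1_fix ρ hm hv₀ hsc φ₁ h10 h11
    have hA : ρ (h9_embS F m A) (v₀' : V) = (v₀' : V) := by
      rcases Nat.eq_zero_or_pos m with hm | hm
      · subst hm
        have hA1 : A = 1 := h9_SL1_eq_one A
        rw [hA1, (h9_embS F 0).map_one, ρ.map_one, Module.End.one_apply]
      · by_cases hm1 : m = 1
        · subst hm1
          have hq2 : Fintype.card F ≠ 2 := fun h => hgood.2.2.1 (by rw [h])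
          have hq3 : Fintype.card F ≠ 3 := fun h => hgood.2.2.2 (by rw [h])
          obtain ⟨a, ha0, ha2⟩ := h9_exists_sq_ne_one (F := F) hq2 hq3
          exact h9_emb_fix ρ hm hv₀ hsc (fun i j hij c =>
            Cfsg.Agent.Helper7.Transv.transvection_mem_commutatorSet_two ha0 ha2 hij c) A
        · exact h9_emb_fix ρ hm hv₀ hsc (fun i j hij c =>
            Cfsg.Agent.Helper7.Transv.transvection_mem_commutatorSet (by omega) hij c) A
    rw [ρ.map_mul, ρ.map_mul, Module.End.mul_apply, Module.End.mul_apply, hT1, hT0, hA]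
  intro v hv
  rw [s_mem_fix]
  intro g hg
  obtain ⟨c, rfl⟩ := hspan' v hv
  rw [map_smul, key g hg]

end Cfsg.Agent.SLMin
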