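import Mathlib
import Cfsg.Agent.SLMin.H3_Defs
import Cfsg.Agent.SLMin.H8_S1
import Cfsg.Agent.SLMin.H8_S2
import Cfsg.Agent.SLMin.H1_Weights
import Cfsg.Agent.SLMin.H9_ThmB
import Cfsg.Agent.SLMin.H6_ThmC
import Cfsg.Agent.SLMin.H6_DimFixRE
import Cfsg.Agent.SLMin.H4_Step5
import Cfsg.Agent.SLMin.H5_PFixed
import Cfsg.Agent.SLMin.H2_BFixed
import Cfsg.Agent.SLMin.H2_DimFixBu
import Cfsg.Agent.SLMin.H7_Arith

set_option autoImplicit false

/-! # S2332: assembly of the lower bound (helper3) -/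

namespace Cfsg.Agent.SLMin

open Matrix Module
open Cfsg.Agent.Helper8.SLTrans (e0 e1)

variable {F : Type*} [Field F] [Fintype F] [DecidableEq F] {m : ℕ}

/-- An irreducible representation of degree at least two is not trivial. -/
theorem s_exists_ne_one {G : Type*} [Group G] {k : ℕ}
    (ρ : Representation ℂ G (Fin k → ℂ)) (hirr : ρ.IsIrreducible) (hk : 2 ≤ k) :
    ∃ g : G, ρ g ≠ 1 := by
  classical
  by_contra hcon
  push_neg at hcon
  let i0 : Fin k := ⟨0, by omega⟩
  let i1 : Fin k := ⟨1, by omega⟩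
  let W : Subrepresentation ρ :=
    ⟨Submodule.span ℂ {(Pi.single i0 1 : Fin k → ℂ)}, fun g v hv => by
      rw [hcon g]
      exact hv⟩
  haveI := hirr
  rcases eq_bot_or_eq_top W with hW | hW
  · have h1 : W.toSubmodule = ⊥ := by rw [hW]; rfl
    have h2 : (Pi.single i0 1 : Fin k → ℂ) ∈ W.toSubmodule :=
      Submodule.subset_span (Set.mem_singleton _)
    rw [h1, Submodule.mem_bot] at h2
    have := congrFun h2 i0
    simp at this
  · have h1 : W.toSubmodule = ⊤ := by rw [hW]; rfl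
    have h2 : (Pi.single i1 1 : Fin k → ℂ) ∈ W.toSubmodule := by rw [h1]; exact Submodule.mem_top
    obtain ⟨a, ha⟩ := Submodule.mem_span_singleton.mp h2
    have := congrFun ha i1
    have hne : i1 ≠ i0 := by
      intro h
      have := congrArg Fin.val h
      simp [i0, i1] at this
    simp [Pi.single_apply, hne] at this

/-- `Q ≤ P`. -/
theorem s_Q_le_P : s_Q F m ≤ s_P F m := by
  intro g hg
  obtain ⟨h0, h1⟩ := (s_mem_Q g).mp hg
  have hi0 : ((g⁻¹ : SLn F m) : Matrix (Fin (m + 3)) (Fin (m + 3)) F) *ᵥ e0 F m = e0 F m :=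
    (s_stabV (e0 F m)).inv_mem h0
  obtain ⟨c, hc⟩ := Submodule.mem_span_singleton.mp h1
  have hg1 : (g : Matrix (Fin (m + 3)) (Fin (m + 3)) F) *ᵥ e1 F m = e1 F m + c • e0 F m := by
    rw [hc]; abel
  have hgi1 : ((g⁻¹ : SLn F m) : Matrix (Fin (m + 3)) (Fin (m + 3)) F) *ᵥ e1 F m =
      e1 F m - c • e0 F m := by
    have := s_inv_mulVec g (e1 F m)
    rw [hg1, Matrix.mulVec_add, Matrix.mulVec_smul, hi0] at this
    exact eq_sub_of_add_eq this
  have hL : ∀ (a : SLn F m), (a : Matrix (Fin (m + 3)) (Fin (m + 3)) F) *ᵥ e0 F m = e0 F m →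
      ∀ x, x ∈ s_L0 F m → (a : Matrix (Fin (m + 3)) (Fin (m + 3)) F) *ᵥ x ∈ s_L0 F m := by
    intro a ha x hx
    obtain ⟨r, rfl⟩ := Submodule.mem_span_singleton.mp hx
    rw [Matrix.mulVec_smul, ha]
    exact Submodule.smul_mem _ _ (Submodule.mem_span_singleton_self _)
  have hE : ∀ (a : SLn F m) (c' : F), (a : Matrix (Fin (m + 3)) (Fin (m + 3)) F) *ᵥ e0 F m = e0 F m →
      (a : Matrix (Fin (m + 3)) (Fin (m + 3)) F) *ᵥ e1 F m = e1 F m + c' • e0 F m →
      ∀ x, x ∈ s_E F m → (a : Matrix (Fin (m + 3)) (Fin (m + 3)) F) *ᵥ x ∈ s_E F m := by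
    intro a c' ha0 ha1 x hx
    obtain ⟨r, s, rfl⟩ := Submodule.mem_span_pair.mp hx
    rw [Matrix.mulVec_add, Matrix.mulVec_smul, Matrix.mulVec_smul, ha0, ha1]
    refine Submodule.mem_span_pair.mpr ⟨r + s * c', s, ?_⟩
    rw [smul_add, smul_smul, add_smul]; abel
  refine ⟨?_, ?_⟩
  · intro x
    refine ⟨fun hx => ?_, hL g h0 x⟩
    have := hL g⁻¹ hi0 _ hx
    rwa [s_inv_mulVec] at this
  · intro x
    refine ⟨fun hx => ?_, hE g c h0 hg1 x⟩
    have := hE g⁻¹ (-c) hi0 (by rw [hgi1, neg_smul, sub_eq_add_neg]) _ hx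
    rwa [s_inv_mulVec] at this

/-- The lower bound of S2332 for `SL_(m+3)(F)`. -/
theorem s_lower (hgood : s_good m (Fintype.card F)) {k : ℕ}
    (ρ : Representation ℂ (SLn F m) (Fin k → ℂ)) (hirr : ρ.IsIrreducible) (hk : 2 ≤ k) :
    s_b (Fintype.card F) (m + 3) ≤ k := by
  classical
  by_contra hlt
  push_neg at hlt
  have hq2 : 2 ≤ Fintype.card F := Fintype.one_lt_card
  obtain ⟨g0, hg0⟩ := s_exists_ne_one ρ hirr hk
  obtain ⟨ψ, hψ⟩ : ∃ ψ : Multiplicative F →* ℂˣ, ψ ≠ 1 :=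
    Cfsg.Agent.Helper8.LS.exists_char_ne_one (F := F) (K := ℂ)
  have hfin : finrank ℂ (Fin k → ℂ) = k := by simp
  -- the character
  have hχ : Cfsg.IsIrrCharacter (SLn F m) ρ.character := ⟨k, ρ, hirr, rfl⟩
  have hχ1 : ρ.character 1 = (k : ℂ) := by
    rw [Representation.char_one, hfin]
  have hχne : ρ.character ≠ fun _ => 1 := by
    intro h
    have h1 := congrFun h 1
    rw [hχ1] at h1
    have : k = 1 := by exact_mod_cast h1
    omega
  obtain ⟨mult, hm1, hwt, hdim⟩ := s3_weights ρ ψ hψ ⟨g0, hg0⟩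
  rw [hfin] at hdim
  have hqpow : 1 ≤ Fintype.card F ^ (m + 2) := Nat.one_le_pow _ _ (by omega)
  have hmult : mult = 1 := by
    by_contra hne
    have h2 : 2 ≤ mult := by omega
    have h3 := s9_arith_two (Fintype.card F) (m + 3) hq2 (by omega)
    have h4 : 2 * (Fintype.card F ^ (m + 2) - 1) ≤ mult * (Fintype.card F ^ (m + 2) - 1) :=
      Nat.mul_le_mul_right _ h2
    have h5 : m + 3 - 1 = m + 2 := by omega
    rw [h5] at h3
    omega
  subst hmult
  rw [one_mul] at hdim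
  have h1 : ∀ t : F, t ≠ 0 → finrank ℂ (s_wt ψ ρ (t • e1 F m)) = 1 := by
    intro t ht
    refine hwt _ ⟨1, ?_, ?_⟩
    · intro h
      have := congrArg Fin.val h
      simp at this
    · simp [e1, ht]
  have hB : ∀ t : F, t ≠ 0 → s_wt ψ ρ (t • e1 F m) ≤ s_fix ρ (s_RE F m) :=
    fun t ht => s4_thmB ρ ψ hgood t ht (h1 t ht)
  have hRE := s5_dim_fixRE ρ ψ hψ hB h1
  -- the end game: a `P`-fixed line
  have hend : finrank ℂ (s_fix ρ (s_Q F m)) = 1 → s_fix ρ (s_Q F m) ≤ s_fix ρ (s_P F m) → False := by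
    intro hk1 hle
    have heq : finrank ℂ (s_fix ρ (s_P F m)) = 1 := by
      have h1' : finrank ℂ (s_fix ρ (s_Q F m)) ≤ finrank ℂ (s_fix ρ (s_P F m)) :=
        Submodule.finrank_mono hle
      have h2' : finrank ℂ (s_fix ρ (s_P F m)) ≤ finrank ℂ (s_fix ρ (s_Q F m)) :=
        Submodule.finrank_mono (s_fix_anti ρ s_Q_le_P)
      omega
    have hin := h4_s0 ρ (s_P F m)
    rw [heq, Nat.cast_one] at hin
    obtain ⟨d, hd, hbd⟩ := s2_flag ρ.character hχ hχne hin
    rw [hχ1] at hd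
    have : k = d := by exact_mod_cast hd
    omega
  by_cases hQ : s_fix ρ (s_Q F m) = ⊥
  · -- Theorem C
    have hC := s5_thmC ρ hQ
    rw [hRE, hQ, finrank_bot, add_zero, hfin] at hC
    have := s9_arith_C (Fintype.card F) m hq2 hgood
    omega
  · have hkQ : 1 ≤ finrank ℂ (s_fix ρ (s_Q F m)) := by
      rcases Nat.eq_zero_or_pos (finrank ℂ (s_fix ρ (s_Q F m))) with h0 | h0
      · exact absurd (Submodule.finrank_eq_zero.mp h0) hQ
      · exact h0
    rcases m with _ | m'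
    · -- n = 3
      simp only [zero_add] at hdim hlt
      have h3 : s_b (Fintype.card F) 3 ≤ 2 * (Fintype.card F ^ 2 - 1) :=
        s9_arith_two (Fintype.card F) 3 hq2 (by omega)
      have hsmall : finrank ℂ (Fin k → ℂ) < 2 * (Fintype.card F ^ 2 - 1) := by
        rw [hfin]
        omega
      have hf := s8_dim_fixBu ρ ψ hψ hgood ⟨g0, hg0⟩ hsmall
      -- k = (q - 1) + kQ + (q^2 - 1)
      have hb3 : s_b (Fintype.card F) 3 = s_b (Fintype.card F) 2 + Fintype.card F ^ 2 :=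
        (s9_arith_N (Fintype.card F) 2 hq2 (by omega)).2.1
      have hb2 : s_b (Fintype.card F) 2 = s_b (Fintype.card F) 1 + Fintype.card F ^ 1 :=
        (s9_arith_N (Fintype.card F) 1 hq2 (by omega)).2.1
      have hb1 : s_b (Fintype.card F) 1 = 0 := by
        unfold s_b
        rw [pow_one, Nat.sub_self, Nat.zero_div]
      have hsq : 1 ≤ Fintype.card F ^ 2 := Nat.one_le_pow _ _ (by omega)
      rw [pow_one] at hb2
      have hk1 : finrank ℂ (s_fix ρ (s_Q F 0)) = 1 := by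
        omega
      exact hend hk1 (s8_B_fixed ρ hk1)
    · -- n ≥ 4
      rcases s6_step5 ρ hQ with hGu | hN | ⟨hf, hk1, hP0⟩
      · -- a vector fixed by the stabiliser of `e0`
        have hin := h4_s0 ρ (s_Gu F (m' + 1))
        have hne : Cfsg.classInner ρ.character (Cfsg.fixedPointCharacter (s_Gu F (m' + 1))) ≠ 0 := by
          rw [hin]
          have : finrank ℂ (s_fix ρ (s_Gu F (m' + 1))) ≠ 0 := by
            intro h0
            exact hGu (Submodule.finrank_eq_zero.mp h0)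
          exact_mod_cast this
        rcases s1_irr_of_inner ρ.character hχ hne with h | ⟨α, hα⟩
        · exact hχne h
        · have hdeg := s1_psi_deg (F := F) (m := m' + 1) α
          rw [← hα, hχ1] at hdeg
          obtain ⟨hN, -, -⟩ := s9_arith_N (Fintype.card F) (m' + 1 + 3) hq2 (by omega)
          by_cases h1α : α = 1
          · rw [if_pos h1α] at hdeg
            have : (k : ℂ) + 1 = ((s_N (Fintype.card F) (m' + 1 + 3) : ℕ) : ℂ) := by
              rw [hdeg]; ring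
            have : k + 1 = s_N (Fintype.card F) (m' + 1 + 3) := by exact_mod_cast this
            omega
          · rw [if_neg h1α, sub_zero] at hdeg
            have : k = s_N (Fintype.card F) (m' + 1 + 3) := by exact_mod_cast hdeg
            omega
      · -- `f ≥ N_(n-1)`
        obtain ⟨hN', hb', -⟩ := s9_arith_N (Fintype.card F) (m' + 3) hq2 (by omega)
        have h5 : m' + 1 + 2 = m' + 3 := by omega
        have h6 : m' + 1 + 3 = m' + 3 + 1 := by omega
        rw [h5] at hdim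
        rw [h6] at hlt
        have hqp : 1 ≤ Fintype.card F ^ (m' + 3) := Nat.one_le_pow _ _ (by omega)
        omega
      · exact hend hk1 (s8_P_fixed ρ hk1 hP0)

end Cfsg.Agent.SLMin
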