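import Mathlib
import Cfsg.Agent.SLMin.H3_Defs

set_option autoImplicit false

/-! S2332: inclusions between the subgroups of `H3_Defs` (helper2): `R^E ≤ Q ≤ P^0 ≤ P`, `Q ≤ G_u`. -/

namespace Cfsg.Agent.SLMin

open Matrix
open Cfsg.Agent.Helper8.SLTrans (e0 e1)

variable {F : Type*} [Field F] {m : ℕ}

/-- A subgroup mapping a subspace into itself lies in its stabiliser. -/
theorem h2_le_stabS (K : Subgroup (SLn F m)) (S : Submodule F (Fin (m + 3) → F))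
    (h : ∀ g ∈ K, ∀ x ∈ S, (g : Matrix (Fin (m + 3)) (Fin (m + 3)) F) *ᵥ x ∈ S) :
    K ≤ s_stabS S := by
  intro g hg
  rw [s_mem_stabS]
  intro x
  constructor
  · intro hx
    have := h g⁻¹ (K.inv_mem hg) _ hx
    rwa [s_inv_mulVec] at this
  · exact h g hg x

theorem h2_Q_map_L0 (g : SLn F m) (hg : g ∈ s_Q F m) (x : Fin (m + 3) → F) (hx : x ∈ s_L0 F m) :
    (g : Matrix (Fin (m + 3)) (Fin (m + 3)) F) *ᵥ x ∈ s_L0 F m := by
  obtain ⟨c, rfl⟩ := Submodule.mem_span_singleton.mp hx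
  rw [Matrix.mulVec_smul, ((s_mem_Q g).mp hg).1]
  exact Submodule.smul_mem _ _ (Submodule.mem_span_singleton_self _)

theorem h2_L0_le_E : s_L0 F m ≤ s_E F m := by
  unfold s_L0 s_E
  apply Submodule.span_mono
  intro x hx
  rw [Set.mem_singleton_iff] at hx
  rw [hx]
  exact Set.mem_insert _ _

theorem h2_Q_map_E (g : SLn F m) (hg : g ∈ s_Q F m) (x : Fin (m + 3) → F) (hx : x ∈ s_E F m) :
    (g : Matrix (Fin (m + 3)) (Fin (m + 3)) F) *ᵥ x ∈ s_E F m := by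
  obtain ⟨a, b, rfl⟩ := Submodule.mem_span_pair.mp hx
  obtain ⟨h0, h1⟩ := (s_mem_Q g).mp hg
  rw [Matrix.mulVec_add, Matrix.mulVec_smul, Matrix.mulVec_smul, h0]
  have e : (g : Matrix (Fin (m + 3)) (Fin (m + 3)) F) *ᵥ e1 F m =
      ((g : Matrix (Fin (m + 3)) (Fin (m + 3)) F) *ᵥ e1 F m - e1 F m) + e1 F m := by abel
  rw [e]
  refine (s_E F m).add_mem ((s_E F m).smul_mem _ ?_) ((s_E F m).smul_mem _ ?_)
  · exact Submodule.subset_span (Set.mem_insert _ _)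
  · refine (s_E F m).add_mem (h2_L0_le_E h1) ?_
    exact Submodule.subset_span (Set.mem_insert_of_mem _ (Set.mem_singleton _))

theorem h2_Q_le_Gu : s_Q F m ≤ s_Gu F m := fun g hg => ((s_mem_Q g).mp hg).1

theorem h2_Q_le_P0 : s_Q F m ≤ s_P0 F m := by
  intro g hg
  unfold s_P0
  rw [Subgroup.mem_inf]
  exact ⟨((s_mem_Q g).mp hg).1, h2_le_stabS (s_Q F m) (s_E F m) h2_Q_map_E hg⟩

theorem h2_P0_le_P : s_P0 F m ≤ s_P F m := by
  intro g hg
  unfold s_P0 at hg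
  unfold s_P
  rw [Subgroup.mem_inf] at hg ⊢
  refine ⟨?_, hg.2⟩
  refine h2_le_stabS (s_stabV (e0 F m)) (s_L0 F m) ?_ hg.1
  intro k hk x hx
  obtain ⟨c, rfl⟩ := Submodule.mem_span_singleton.mp hx
  rw [Matrix.mulVec_smul, (s_mem_stabV _ k).mp hk]
  exact Submodule.smul_mem _ _ (Submodule.mem_span_singleton_self _)

theorem h2_Q_le_P : s_Q F m ≤ s_P F m := h2_Q_le_P0.trans h2_P0_le_P

theorem h2_RE_le_Q : s_RE F m ≤ s_Q F m := by
  intro g hg
  unfold s_RE at hg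
  rw [Subgroup.mem_inf, s_mem_stabV, s_mem_stabV] at hg
  rw [s_mem_Q]
  refine ⟨hg.1, ?_⟩
  rw [hg.2, sub_self]
  exact (s_L0 F m).zero_mem

theorem h2_P_le_PE : s_P F m ≤ s_PE F m := by
  intro g hg
  unfold s_P at hg
  rw [Subgroup.mem_inf] at hg
  exact hg.2

end Cfsg.Agent.SLMin
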