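import Mathlib
import Cfsg.Agent.SLMin.H3_Defs
import Cfsg.Agent.SLDeg.H4_SLExist

set_option autoImplicit false

/-!
# S2332, piece S9a (helper4): existence of an irreducible representation of degree `b_n`
-/

namespace Cfsg.Agent.SLMin

open Matrix Module

variable {F : Type*} [Field F] [Fintype F] [DecidableEq F] {m : ℕ}

theorem s9_exists :
    ∃ ρ : Representation ℂ (SLn F m) (Fin (s_b (Fintype.card F) (m + 3)) → ℂ), ρ.IsIrreducible :=
  Cfsg.Agent.SLDeg.h4_sl_exists (F := F) (m + 3) (by omega)

end Cfsg.Agent.SLMin
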