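import Mathlib
import Cfsg.Agent.SLMin.H3_Defs
import Cfsg.Agent.SLMin.H5_Blk

set_option autoImplicit false

/-!
# S2332 (helper5): inclusions between the subgroups `Q ≤ P^0 ≤ P`, `R^E ≤ Q`, `B^u`-free part
-/

namespace Cfsg.Agent.SLMin

open Matrix Module
open Cfsg.Agent.Helper8.SLTrans (e0 e1)

variable {F : Type*} [Field F] {m : ℕ}

theorem h5_Q_le_P0 : s_Q F m ≤ s_P0 F m := by
  intro g hg
  rw [s_mem_Q] at hg
  obtain ⟨hg0, hg1⟩ := hg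
  refine ⟨hg0, h5_mem_stabE g ?_ ?_⟩
  · rw [hg0]
    exact h5_e0_mem_E
  · have h1 : (g : Matrix (Fin (m + 3)) (Fin (m + 3)) F) *ᵥ e1 F m =
        ((g : Matrix (Fin (m + 3)) (Fin (m + 3)) F) *ᵥ e1 F m - e1 F m) + e1 F m := by abel
    rw [h1]
    exact add_mem (h5_L0_le_E hg1) h5_e1_mem_E

theorem h5_P0_le_P : s_P0 F m ≤ s_P F m := by
  intro g hg
  obtain ⟨hg0, hgE⟩ := hg
  refine ⟨h5_mem_stabL0 g ?_, hgE⟩
  have h0 : (g : Matrix (Fin (m + 3)) (Fin (m + 3)) F) *ᵥ e0 F m = e0 F m := hg0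
  rw [h0]
  exact h5_e0_mem_L0

theorem h5_Q_le_P : s_Q F m ≤ s_P F m := h5_Q_le_P0.trans h5_P0_le_P

theorem h5_P_le_PE : s_P F m ≤ s_PE F m := fun _ hg => hg.2

theorem h5_RE_le_P0 : s_RE F m ≤ s_P0 F m := h5_RE_le_Q.trans h5_Q_le_P0

theorem h5_Q_le_Gu : s_Q F m ≤ s_Gu F m := fun _ hg => ((s_mem_Q _).mp hg).1

theorem h5_P0_le_Gu : s_P0 F m ≤ s_Gu F m := fun _ hg => hg.1

end Cfsg.Agent.SLMin
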