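import Mathlib
import Cfsg.Agent.SLMin.H3_Defs
import Cfsg.Agent.SLMin.H5_Blk

set_option autoImplicit false

/-!
# S2332, Theorem C, piece (3b) (helper5)

`R^E` together with a root group of `SL(E)` with centre `u = η1 e0 − η0 e1 ≠ 0` (given through its
action on `e0`, `e1`) contains a `P_E`-conjugate of `Q`; hence it has no non-zero fixed vector when
`C_V(Q) = 0`.
-/

namespace Cfsg.Agent.SLMin

open Matrix Module
open Cfsg.Agent.Helper8.SLTrans (e0 e1)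

variable {F : Type*} [Field F] {m : ℕ}

theorem h5_exists_col (η0 η1 : F) (hη : η0 ≠ 0 ∨ η1 ≠ 0) : ∃ c d : F, η1 * d + η0 * c = 1 := by
  rcases hη with h | h
  · exact ⟨η0⁻¹, 0, by rw [mul_zero, zero_add, mul_inv_cancel₀ h]⟩
  · exact ⟨0, η1⁻¹, by rw [mul_zero, add_zero, mul_inv_cancel₀ h]⟩

/-- `[[η1, c],[-η0, d]]`. -/
def h5_colA (η0 η1 c d : F) (h : η1 * d + η0 * c = 1) : SpecialLinearGroup (Fin 2) F :=
  ⟨!![η1, c; -η0, d], by rw [Matrix.det_fin_two_of, ← h]; ring⟩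

/-- `[[d, -c],[η0, η1]]`, the inverse of `h5_colA`. -/
def h5_colB (η0 η1 c d : F) (h : η1 * d + η0 * c = 1) : SpecialLinearGroup (Fin 2) F :=
  ⟨!![d, -c; η0, η1], by rw [Matrix.det_fin_two_of, ← h]; ring⟩

theorem h5_colA_mul_colB (η0 η1 c d : F) (h : η1 * d + η0 * c = 1) :
    h5_colA η0 η1 c d h * h5_colB η0 η1 c d h = 1 := by
  ext i j
  simp only [Matrix.SpecialLinearGroup.coe_mul]
  fin_cases i <;> fin_cases j <;>
    simp [h5_colA, h5_colB, Matrix.mul_apply, Fin.sum_univ_two]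
  · rw [← h]; ring
  · ring
  · ring
  · rw [← h]; ring

theorem h5_thmC_conj (η0 η1 : F) (hη : η0 ≠ 0 ∨ η1 ≠ 0) (j : F → SLn F m)
    (hj0 : ∀ t, (j t : Matrix (Fin (m + 3)) (Fin (m + 3)) F) *ᵥ e0 F m =
      e0 F m + (t * η0) • (η1 • e0 F m - η0 • e1 F m))
    (hj1 : ∀ t, (j t : Matrix (Fin (m + 3)) (Fin (m + 3)) F) *ᵥ e1 F m =
      e1 F m + (t * η1) • (η1 • e0 F m - η0 • e1 F m)) :
    ∃ p ∈ s_PE F m, ∀ q ∈ s_Q F m, ∃ t : F, ∃ r ∈ s_RE F m, p * q * p⁻¹ = j t * r := by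
  obtain ⟨c, d, h⟩ := h5_exists_col η0 η1 hη
  have hinv : (h5_J (h5_colA η0 η1 c d h) : SLn F m)⁻¹ = h5_J (h5_colB η0 η1 c d h) :=
    inv_eq_of_mul_eq_one_right (by rw [← map_mul, h5_colA_mul_colB, map_one])
  refine ⟨h5_J (h5_colA η0 η1 c d h), h5_J_mem_stabE _, ?_⟩
  intro q hq
  rw [s_mem_Q] at hq
  obtain ⟨hq0, hq1⟩ := hq
  obtain ⟨β, hβ⟩ := Submodule.mem_span_singleton.mp hq1
  have hq1' : (q : Matrix (Fin (m + 3)) (Fin (m + 3)) F) *ᵥ e1 F m = e1 F m + β • e0 F m := by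
    rw [hβ]; abel
  have hA0 : ((h5_J (h5_colA η0 η1 c d h) : SLn F m) : Matrix (Fin (m + 3)) (Fin (m + 3)) F) *ᵥ
      e0 F m = η1 • e0 F m + (-η0) • e1 F m := by
    rw [h5_J_e0]; simp [h5_colA]
  have hA1 : ((h5_J (h5_colA η0 η1 c d h) : SLn F m) : Matrix (Fin (m + 3)) (Fin (m + 3)) F) *ᵥ
      e1 F m = c • e0 F m + d • e1 F m := by
    rw [h5_J_e1]; simp [h5_colA]
  have hB0 : ((h5_J (h5_colB η0 η1 c d h) : SLn F m) : Matrix (Fin (m + 3)) (Fin (m + 3)) F) *ᵥ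
      e0 F m = d • e0 F m + η0 • e1 F m := by
    rw [h5_J_e0]; simp [h5_colB]
  have hB1 : ((h5_J (h5_colB η0 η1 c d h) : SLn F m) : Matrix (Fin (m + 3)) (Fin (m + 3)) F) *ᵥ
      e1 F m = (-c) • e0 F m + η1 • e1 F m := by
    rw [h5_J_e1]; simp [h5_colB]
  have hc0 : ((h5_J (h5_colA η0 η1 c d h) * q * (h5_J (h5_colA η0 η1 c d h))⁻¹ : SLn F m) :
      Matrix (Fin (m + 3)) (Fin (m + 3)) F) *ᵥ e0 F m =
      (j β : Matrix (Fin (m + 3)) (Fin (m + 3)) F) *ᵥ e0 F m := by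
    rw [hinv, s_coe_mul, s_coe_mul, ← Matrix.mulVec_mulVec, ← Matrix.mulVec_mulVec, hB0,
      Matrix.mulVec_add, Matrix.mulVec_smul, Matrix.mulVec_smul, hq0, hq1', Matrix.mulVec_add,
      Matrix.mulVec_smul, Matrix.mulVec_smul, Matrix.mulVec_add, Matrix.mulVec_smul, hA0, hA1, hj0]
    linear_combination (norm := module) h • e0 F m
  have hc1 : ((h5_J (h5_colA η0 η1 c d h) * q * (h5_J (h5_colA η0 η1 c d h))⁻¹ : SLn F m) :
      Matrix (Fin (m + 3)) (Fin (m + 3)) F) *ᵥ e1 F m =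
      (j β : Matrix (Fin (m + 3)) (Fin (m + 3)) F) *ᵥ e1 F m := by
    rw [hinv, s_coe_mul, s_coe_mul, ← Matrix.mulVec_mulVec, ← Matrix.mulVec_mulVec, hB1,
      Matrix.mulVec_add, Matrix.mulVec_smul, Matrix.mulVec_smul, hq0, hq1', Matrix.mulVec_add,
      Matrix.mulVec_smul, Matrix.mulVec_smul, Matrix.mulVec_add, Matrix.mulVec_smul, hA0, hA1, hj1]
    linear_combination (norm := module) h • e1 F m
  refine ⟨β, (j β)⁻¹ * (h5_J (h5_colA η0 η1 c d h) * q * (h5_J (h5_colA η0 η1 c d h))⁻¹),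
    ⟨?_, ?_⟩, by group⟩
  · change (((j β)⁻¹ * (h5_J (h5_colA η0 η1 c d h) * q * (h5_J (h5_colA η0 η1 c d h))⁻¹) :
      SLn F m) : Matrix (Fin (m + 3)) (Fin (m + 3)) F) *ᵥ e0 F m = e0 F m
    rw [s_coe_mul, ← Matrix.mulVec_mulVec, hc0]
    exact s_inv_mulVec _ _
  · change (((j β)⁻¹ * (h5_J (h5_colA η0 η1 c d h) * q * (h5_J (h5_colA η0 η1 c d h))⁻¹) :
      SLn F m) : Matrix (Fin (m + 3)) (Fin (m + 3)) F) *ᵥ e1 F m = e1 F m
    rw [s_coe_mul, ← Matrix.mulVec_mulVec, hc1]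
    exact s_inv_mulVec _ _

variable {V : Type*} [AddCommGroup V] [Module ℂ V]

theorem h5_thmC_fix (ρ : Representation ℂ (SLn F m) V) (η0 η1 : F) (hη : η0 ≠ 0 ∨ η1 ≠ 0)
    (j : F → SLn F m)
    (hj0 : ∀ t, (j t : Matrix (Fin (m + 3)) (Fin (m + 3)) F) *ᵥ e0 F m =
      e0 F m + (t * η0) • (η1 • e0 F m - η0 • e1 F m))
    (hj1 : ∀ t, (j t : Matrix (Fin (m + 3)) (Fin (m + 3)) F) *ᵥ e1 F m =
      e1 F m + (t * η1) • (η1 • e0 F m - η0 • e1 F m))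
    (v : V) (hR : v ∈ s_fix ρ (s_RE F m)) (hj : ∀ t, ρ (j t) v = v)
    (hQ : s_fix ρ (s_Q F m) = ⊥) : v = 0 := by
  obtain ⟨p, _, hp⟩ := h5_thmC_conj η0 η1 hη j hj0 hj1
  have h1 : ρ p⁻¹ v ∈ s_fix ρ (s_Q F m) := by
    rw [s_mem_fix]
    intro q hq
    obtain ⟨t, r, hr, hqr⟩ := hp q hq
    have h2 : q * p⁻¹ = p⁻¹ * (p * q * p⁻¹) := by group
    rw [← h5_rho_mul, h2, hqr, h5_rho_mul, h5_rho_mul, (s_mem_fix ρ _ v).mp hR r hr, hj]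
  rw [hQ, Submodule.mem_bot] at h1
  have h3 : ρ p (ρ p⁻¹ v) = v := by
    rw [← h5_rho_mul, mul_inv_cancel, map_one]
    rfl
  rw [← h3, h1, map_zero]

end Cfsg.Agent.SLMin
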