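import Mathlib
import Cfsg.Agent.MinIdx.H8_Conj

set_option autoImplicit false
set_option linter.unusedSectionVars false
set_option linter.unusedVariables false

/-!
S2332 support (helper6): the pointwise stabiliser in `SL_n(F)` of a subspace `U` of `F^n` is
generated by the transvections `T(e,φ)` with `φ ⊥ U`.
-/

namespace Cfsg.Agent.SLMin

open Matrix Cfsg.Agent.MinIdx

variable {F : Type*} [Field F] {n : ℕ}

/-- a functional vanishing on `W` with value `1` at `x ∉ W`. -/
theorem h6_exists_dot_one (W : Submodule F (Fin n → F)) (x : Fin n → F) (hx : x ∉ W) :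
    ∃ φ : Fin n → F, (∀ u ∈ W, φ ⬝ᵥ u = 0) ∧ φ ⬝ᵥ x = 1 := by
  obtain ⟨φ, h1, h2⟩ := h8_exists_dot W x hx
  refine ⟨(φ ⬝ᵥ x)⁻¹ • φ, ?_, ?_⟩
  · intro u hu
    rw [smul_dotProduct, h1 u hu, smul_zero]
  · rw [smul_dotProduct, smul_eq_mul, inv_mul_cancel₀ h2]

/-- one transvection `⊥ U` moving `x` to `y`. -/
theorem h6_step (U : Submodule F (Fin n → F)) (K : Subgroup (SpecialLinearGroup (Fin n) F))
    (hK : ∀ (e φ : Fin n → F) (hd : φ ⬝ᵥ e = 0), (∀ u ∈ U, φ ⬝ᵥ u = 0) → h8_tv e φ hd ∈ K)
    (x y : Fin n → F) (hxy : x ∉ U ⊔ Submodule.span F {y - x}) :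
    ∃ k ∈ K, (∀ u ∈ U, k.1 *ᵥ u = u) ∧ k.1 *ᵥ x = y := by
  obtain ⟨φ, h1, h2⟩ := h6_exists_dot_one _ x hxy
  have hU : ∀ u ∈ U, φ ⬝ᵥ u = 0 := fun u hu => h1 u (Submodule.mem_sup_left hu)
  have hd : φ ⬝ᵥ (y - x) = 0 :=
    h1 _ (Submodule.mem_sup_right (Submodule.mem_span_singleton_self _))
  refine ⟨h8_tv (y - x) φ hd, hK _ _ hd hU, ?_, ?_⟩
  · intro u hu
    rw [h8_tv_mulVec, hU u hu, zero_smul, add_zero]
  · rw [h8_tv_mulVec, h2, one_smul]
    abel

/-- a vector space is not the union of two proper subspaces. -/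
theorem h6_exists_notMem_two (A B : Submodule F (Fin n → F)) (hA : A ≠ ⊤) (hB : B ≠ ⊤) :
    ∃ w : Fin n → F, w ∉ A ∧ w ∉ B := by
  obtain ⟨a, ha⟩ : ∃ a : Fin n → F, a ∉ A := by
    by_contra hcon
    push Not at hcon
    exact hA (eq_top_iff.mpr fun x _ => hcon x)
  obtain ⟨b, hb⟩ : ∃ b : Fin n → F, b ∉ B := by
    by_contra hcon
    push Not at hcon
    exact hB (eq_top_iff.mpr fun x _ => hcon x)
  by_cases haB : a ∈ B
  · by_cases hbA : b ∈ A
    · refine ⟨a + b, ?_, ?_⟩
      · intro h
        exact ha (by simpa using A.sub_mem h hbA)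
      · intro h
        exact hb (by simpa using B.sub_mem h haB)
    · exact ⟨b, hbA, hb⟩
  · exact ⟨a, ha, haB⟩

theorem h6_gen_aux : ∀ (c : ℕ) (U : Submodule F (Fin n → F)), n - Module.finrank F U ≤ c →
    ∀ (K : Subgroup (SpecialLinearGroup (Fin n) F)),
    (∀ (e φ : Fin n → F) (hd : φ ⬝ᵥ e = 0), (∀ u ∈ U, φ ⬝ᵥ u = 0) → h8_tv e φ hd ∈ K) →
    ∀ g : SpecialLinearGroup (Fin n) F, (∀ u ∈ U, g.1 *ᵥ u = u) → g ∈ K := by
  intro c
  induction c with
  | zero =>
    intro U hc K hK g hg
    have hle : Module.finrank F U ≤ n := by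
      have := Submodule.finrank_le U
      rwa [Module.finrank_fin_fun] at this
    have htop : U = ⊤ := by
      apply Submodule.eq_top_of_finrank_eq
      rw [Module.finrank_fin_fun]
      omega
    have : g = 1 := by
      apply Subtype.ext
      apply Matrix.toLin'.injective
      apply LinearMap.ext
      intro v
      rw [Matrix.toLin'_apply, hg v (by rw [htop]; trivial)]
      simp
    rw [this]
    exact K.one_mem
  | succ c ih =>
    intro U hc K hK g hg
    by_cases htop : U = ⊤
    · have : g = 1 := by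
        apply Subtype.ext
        apply Matrix.toLin'.injective
        apply LinearMap.ext
        intro v
        rw [Matrix.toLin'_apply, hg v (by rw [htop]; trivial)]
        simp
      rw [this]
      exact K.one_mem
    obtain ⟨w, hw⟩ : ∃ w : Fin n → F, w ∉ U := by
      by_contra hcon
      push Not at hcon
      exact htop (eq_top_iff.mpr fun x _ => hcon x)
    have hlt : U < U ⊔ Submodule.span F {w} := by
      refine lt_of_le_of_ne le_sup_left ?_
      intro h
      apply hw
      rw [h]
      exact Submodule.mem_sup_right (Submodule.mem_span_singleton_self _)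
    have hfr := Submodule.finrank_lt_finrank_of_lt hlt
    have hle' : Module.finrank F (U ⊔ Submodule.span F {w} : Submodule F (Fin n → F)) ≤ n := by
      have := Submodule.finrank_le (U ⊔ Submodule.span F {w})
      rwa [Module.finrank_fin_fun] at this
    -- reduction: it suffices to find `k ∈ K` fixing `U` pointwise with `k (g w) = w`
    have hred : (∃ k ∈ K, (∀ u ∈ U, k.1 *ᵥ u = u) ∧ k.1 *ᵥ (g.1 *ᵥ w) = w) → g ∈ K := by
      rintro ⟨k, hkK, hkU, hkw⟩
      have hkg : k * g ∈ K := by
        apply ih (U ⊔ Submodule.span F {w}) (by omega) K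
        · intro e φ hd hφ
          exact hK e φ hd (fun u hu => hφ u (Submodule.mem_sup_left hu))
        · intro u hu
          rw [Submodule.mem_sup] at hu
          obtain ⟨u₁, hu₁, u₂, hu₂, rfl⟩ := hu
          rw [Submodule.mem_span_singleton] at hu₂
          obtain ⟨t, rfl⟩ := hu₂
          have hco : (k * g).1 = k.1 * g.1 := rfl
          rw [hco, ← mulVec_mulVec, mulVec_add, mulVec_add, mulVec_smul,
            mulVec_smul, hg u₁ hu₁, hkU u₁ hu₁, hkw]
      have : g = k⁻¹ * (k * g) := by group
      rw [this]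
      exact K.mul_mem (K.inv_mem hkK) hkg
    by_cases htop' : U ⊔ Submodule.span F {w} = ⊤
    · -- codimension one: `g` itself is a transvection
      obtain ⟨φ, hφU, hφw⟩ := h6_exists_dot_one U w hw
      have hmat : g.1 = h8_tvM (g.1 *ᵥ w - w) φ := by
        apply Matrix.toLin'.injective
        apply LinearMap.ext
        intro v
        have hv : v ∈ U ⊔ Submodule.span F {w} := by rw [htop']; trivial
        rw [Submodule.mem_sup] at hv
        obtain ⟨u₁, hu₁, u₂, hu₂, rfl⟩ := hv
        rw [Submodule.mem_span_singleton] at hu₂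
        obtain ⟨t, rfl⟩ := hu₂
        rw [Matrix.toLin'_apply, Matrix.toLin'_apply]
        unfold h8_tvM
        rw [add_mulVec, one_mulVec, vecMulVec_mulVec, op_smul_eq_smul, mulVec_add, mulVec_smul,
          hg u₁ hu₁, dotProduct_add, hφU u₁ hu₁, dotProduct_smul, hφw, zero_add, smul_eq_mul,
          mul_one, smul_sub]
        abel
      have hdet : φ ⬝ᵥ (g.1 *ᵥ w - w) = 0 := by
        have h1 : (g.1).det = 1 := g.2
        rw [hmat, h8_tvM_det] at h1
        exact add_eq_left.mp h1
      have : g = h8_tv (g.1 *ᵥ w - w) φ hdet := Subtype.ext hmat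
      rw [this]
      exact hK _ _ hdet hφU
    · -- codimension at least two: move `g w` to `w` in two steps
      apply hred
      set w' : Fin n → F := g.1 *ᵥ w with hw'
      have hw'U : w' ∉ U := by
        intro h
        have h1 : g.1 *ᵥ w' = g.1 *ᵥ w := hg w' h
        have h2 : w' = w := by
          have hinj : Function.Injective (g.1).mulVec := by
            apply Matrix.mulVec_injective_of_isUnit
            rw [Matrix.isUnit_iff_isUnit_det, g.2]
            exact isUnit_one
          exact hinj h1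
        rw [h2] at h
        exact hw h
      have htop'' : U ⊔ Submodule.span F {w'} ≠ ⊤ := by
        intro h
        -- `g` maps `U ⊔ ⟨w⟩` onto `U ⊔ ⟨w'⟩`
        apply htop'
        rw [eq_top_iff]
        intro v _
        have hv : g.1 *ᵥ v ∈ U ⊔ Submodule.span F {w'} := by rw [h]; trivial
        rw [Submodule.mem_sup] at hv
        obtain ⟨u₁, hu₁, u₂, hu₂, hsum⟩ := hv
        rw [Submodule.mem_span_singleton] at hu₂
        obtain ⟨t, rfl⟩ := hu₂
        have h3 : g.1 *ᵥ v = g.1 *ᵥ (u₁ + t • w) := by
          rw [mulVec_add, mulVec_smul, hg u₁ hu₁, ← hsum]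
        have hinj : Function.Injective (g.1).mulVec := by
          apply Matrix.mulVec_injective_of_isUnit
          rw [Matrix.isUnit_iff_isUnit_det, g.2]
          exact isUnit_one
        rw [hinj h3]
        exact Submodule.add_mem _ (Submodule.mem_sup_left hu₁)
          (Submodule.mem_sup_right (Submodule.smul_mem _ _ (Submodule.mem_span_singleton_self _)))
      obtain ⟨w'', hw''1, hw''2⟩ := h6_exists_notMem_two _ _ htop' htop''
      -- step 1: w' ↦ w''
      have hs1 : w' ∉ U ⊔ Submodule.span F {w'' - w'} := by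
        intro h
        rw [Submodule.mem_sup] at h
        obtain ⟨u₁, hu₁, u₂, hu₂, hsum⟩ := h
        rw [Submodule.mem_span_singleton] at hu₂
        obtain ⟨t, rfl⟩ := hu₂
        by_cases ht : t = 0
        · rw [ht, zero_smul, add_zero] at hsum
          rw [← hsum] at hw'U
          exact hw'U hu₁
        · apply hw''2
          have : w'' = (-t⁻¹) • u₁ + (t⁻¹ * (1 + t)) • w' := by
            have h5 : t • w'' = (1 + t) • w' - u₁ := by
              linear_combination (norm := module) hsum
            calc w'' = t⁻¹ • (t • w'') := by rw [smul_smul, inv_mul_cancel₀ ht, one_smul]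
              _ = _ := by
                rw [h5, smul_sub, smul_smul, neg_smul]
                abel
          rw [this]
          exact Submodule.add_mem _ (Submodule.mem_sup_left (U.smul_mem _ hu₁))
            (Submodule.mem_sup_right (Submodule.smul_mem _ _ (Submodule.mem_span_singleton_self _)))
      -- step 2: w'' ↦ w
      have hs2 : w'' ∉ U ⊔ Submodule.span F {w - w''} := by
        intro h
        rw [Submodule.mem_sup] at h
        obtain ⟨u₁, hu₁, u₂, hu₂, hsum⟩ := h
        rw [Submodule.mem_span_singleton] at hu₂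
        obtain ⟨t, rfl⟩ := hu₂
        have h5 : (1 + t) • w'' = u₁ + t • w := by
          linear_combination (norm := module) (-1 : F) • hsum
        by_cases ht : 1 + t = 0
        · rw [ht, zero_smul] at h5
          have ht' : t = -1 := by linear_combination ht
          rw [ht', neg_smul, one_smul] at h5
          apply hw
          have : w = u₁ := by
            have := sub_eq_zero.mp (by rw [← sub_eq_add_neg] at h5; exact h5.symm)
            exact this.symm
          rw [this]
          exact hu₁
        · apply hw''1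
          have : w'' = (1 + t)⁻¹ • u₁ + ((1 + t)⁻¹ * t) • w := by
            calc w'' = (1 + t)⁻¹ • ((1 + t) • w'') := by
                  rw [smul_smul, inv_mul_cancel₀ ht, one_smul]
              _ = _ := by rw [h5, smul_add, smul_smul]
          rw [this]
          exact Submodule.add_mem _ (Submodule.mem_sup_left (U.smul_mem _ hu₁))
            (Submodule.mem_sup_right (Submodule.smul_mem _ _ (Submodule.mem_span_singleton_self _)))
      obtain ⟨k₁, hk₁K, hk₁U, hk₁⟩ := h6_step U K hK w' w'' hs1
      obtain ⟨k₂, hk₂K, hk₂U, hk₂⟩ := h6_step U K hK w'' w hs2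
      refine ⟨k₂ * k₁, K.mul_mem hk₂K hk₁K, ?_, ?_⟩
      · intro u hu
        have hco : (k₂ * k₁).1 = k₂.1 * k₁.1 := rfl
        rw [hco, ← mulVec_mulVec, hk₁U u hu, hk₂U u hu]
      · have hco : (k₂ * k₁).1 = k₂.1 * k₁.1 := rfl
        rw [hco, ← mulVec_mulVec, hk₁, hk₂]

/-- **Generation of pointwise stabilisers by transvections.**  If a subgroup `K` of `SL_n(F)`
contains every transvection `T(e,φ)` whose functional `φ` vanishes on the subspace `U`, then it
contains every element of `SL_n(F)` fixing `U` pointwise. -/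
theorem h6_gen_fix (U : Submodule F (Fin n → F)) (K : Subgroup (SpecialLinearGroup (Fin n) F))
    (hK : ∀ (e φ : Fin n → F) (hd : φ ⬝ᵥ e = 0), (∀ u ∈ U, φ ⬝ᵥ u = 0) → h8_tv e φ hd ∈ K)
    (g : SpecialLinearGroup (Fin n) F) (hg : ∀ u ∈ U, g.1 *ᵥ u = u) : g ∈ K :=
  h6_gen_aux _ U le_rfl K hK g hg

end Cfsg.Agent.SLMin
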