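import Mathlib
import Cfsg.Agent.SLMin.H3_Defs
import Cfsg.Prelude.Def_ParabolicCharacters
import Cfsg.Agent.Helper6.Invariants
import Cfsg.Agent.Helper6.IndFun
import Cfsg.Agent.Lead.SteinCharA

set_option autoImplicit false

/-! S2332 / S0 (helper7): `dim C_V(H) = ⟨χ, π_(G/H)⟩`. -/

namespace Cfsg.Agent.SLMin

open Matrix Module
open scoped ComplexConjugate

universe u

variable {V : Type*} [AddCommGroup V] [Module ℂ V] [FiniteDimensional ℂ V]

/-- The fixed space of `H` is the space of invariants of the restriction to `H`. -/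
theorem h7_fix_eq_invariants {G : Type*} [Group G] (ρ : Representation ℂ G V) (H : Subgroup G) :
    s_fix ρ H = Representation.invariants (ρ.comp H.subtype) := by
  ext v
  rw [s_mem_fix, Representation.mem_invariants]
  constructor
  · intro h g
    exact h g.1 g.2
  · intro h g hg
    exact h ⟨g, hg⟩

/-- dim C_V(H) = ⟨χ, π_(G/H)⟩. -/
theorem s0_finrank_fix {G : Type*} [Group G] [Fintype G] (ρ : Representation ℂ G V) (H : Subgroup G) :
    Cfsg.classInner ρ.character (Cfsg.fixedPointCharacter H) = (finrank ℂ (s_fix ρ H) : ℂ) := by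
  classical
  haveI : Fintype H := Fintype.ofFinite H
  have hcf : Cfsg.IsClassFunction G ρ.character := by
    intro g h
    exact Representation.char_conj ρ g h
  rw [Cfsg.Agent.Lead.SteinChar.fixedPointCharacter_eq, Cfsg.Agent.Helper6.classInner_conj_symm,
    Cfsg.Agent.Helper6.frobenius_reciprocity H _ _ hcf,
    ← Cfsg.Agent.Helper6.classInner_conj_symm, h7_fix_eq_invariants,
    ← Cfsg.Agent.Helper6.classInner_one_eq_finrank_invariants]
  rfl

end Cfsg.Agent.SLMin
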