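import Mathlib
import Cfsg.Prelude.Def_ParabolicCharacters
import Cfsg.Agent.SLMin.H3_Defs
import Cfsg.Agent.SLMin.L_FlagDeg

/-!
# S2332 / SLMin (lead): the degrees of the three flag permutation characters, in the shapes asked
for by helper8 (D1, D2, D3)
-/

set_option autoImplicit false

namespace Cfsg.Agent.SLMin

open Matrix
open Cfsg.Agent.Helper8.SLTrans (e0 e1)

/-- the degree of a permutation character is the index. -/
theorem l_fpc_one {G : Type*} [Group G] (H : Subgroup G) :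
    Cfsg.fixedPointCharacter H 1 = (H.index : ℂ) := by
  unfold Cfsg.fixedPointCharacter
  have h : MulAction.fixedBy (G ⧸ H) (1 : G) = Set.univ := by
    ext x
    simp [MulAction.mem_fixedBy]
  rw [h, Nat.card_congr (Equiv.Set.univ _)]
  rfl

/-- `(q − 1) · N_k = q^k − 1`. -/
theorem l_N_mul (q k : ℕ) (hq : 2 ≤ q) : s_N q k * (q - 1) = q ^ k - 1 := by
  unfold s_N
  apply Nat.div_mul_cancel
  have := Nat.sub_dvd_pow_sub_pow q 1 k
  rwa [one_pow] at this

theorem l_N_two (q : ℕ) (hq : 2 ≤ q) : s_N q 2 = q + 1 := by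
  have h := l_N_mul q 2 hq
  obtain ⟨r, rfl⟩ : ∃ r, q = r + 2 := ⟨q - 2, by omega⟩
  have e : r + 2 - 1 = r + 1 := by omega
  rw [e] at h
  have e2 : (r + 2) ^ 2 - 1 = (r + 2 + 1) * (r + 1) := by
    have : (r + 2) ^ 2 = (r + 2 + 1) * (r + 1) + 1 := by ring
    omega
  rw [e2] at h
  exact Nat.eq_of_mul_eq_mul_right (by omega) h

theorem l_N_sub_one (q k : ℕ) (hq : 2 ≤ q) (hk : 1 ≤ k) : s_N q k - 1 = s_b q k := by
  have h := l_N_mul q k hq
  unfold s_b
  have hqk : q ≤ q ^ k := by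
    calc q = q ^ 1 := (pow_one q).symm
      _ ≤ q ^ k := Nat.pow_le_pow_right (by omega) hk
  have hpos : 0 < q - 1 := by omega
  symm
  apply Nat.div_eq_of_eq_mul_left hpos
  have h1 : 1 ≤ s_N q k := by
    rcases Nat.eq_zero_or_pos (s_N q k) with h0 | h0
    · rw [h0, zero_mul] at h
      omega
    · exact h0
  rw [Nat.sub_mul, h, one_mul]
  omega

/-- `N_k` is monotone and `N_3 ≥ 2 (q + 1)`. -/
theorem l_N_ge (q k : ℕ) (hq : 2 ≤ q) (hk : 3 ≤ k) : 2 * (q + 1) ≤ s_N q k := by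
  have h := l_N_mul q k hq
  have h3 : q ^ 3 ≤ q ^ k := Nat.pow_le_pow_right (by omega) hk
  obtain ⟨r, rfl⟩ : ∃ r, q = r + 2 := ⟨q - 2, by omega⟩
  have e : r + 2 - 1 = r + 1 := by omega
  rw [e] at h
  by_contra hlt
  push_neg at hlt
  have h4 : s_N (r + 2) k * (r + 1) < 2 * (r + 2 + 1) * (r + 1) :=
    Nat.mul_lt_mul_of_pos_right hlt (by omega)
  have h5 : (r + 2) ^ 3 = 2 * (r + 2 + 1) * (r + 1) + (r ^ 3 + 4 * r ^ 2 + 4 * r + 2) := by ring
  omega

variable {F : Type*} [Field F] [Fintype F] [DecidableEq F] {m : ℕ}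

/-- index of the point stabiliser. -/
theorem l_index_L0 : (s_stabS (s_L0 F m)).index = s_N (Fintype.card F) (m + 3) := by
  have hq : 2 ≤ Fintype.card F := Fintype.one_lt_card
  obtain ⟨h1, _, _⟩ := l_flag_index (F := F) (m := m) (Fintype.card F) rfl
  have hpos : 0 < Fintype.card F - 1 := by omega
  apply Nat.eq_of_mul_eq_mul_right hpos
  rw [h1, l_N_mul _ _ hq]

/-- index of the flag stabiliser. -/
theorem l_index_P :
    (s_P F m).index = s_N (Fintype.card F) (m + 3) * s_N (Fintype.card F) (m + 2) := by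
  have hq : 2 ≤ Fintype.card F := Fintype.one_lt_card
  obtain ⟨_, h2, _⟩ := l_flag_index (F := F) (m := m) (Fintype.card F) rfl
  have hpos : 0 < Fintype.card F - 1 := by omega
  apply Nat.eq_of_mul_eq_mul_right hpos
  rw [h2, l_index_L0, mul_assoc, l_N_mul _ _ hq]

/-- **(D1)** -/
theorem l_deg_P : Cfsg.fixedPointCharacter (s_P F m) 1 =
    ((s_N (Fintype.card F) (m + 3) * s_N (Fintype.card F) (m + 2) : ℕ) : ℂ) := by
  rw [l_fpc_one, l_index_P]

/-- **(D2)** -/
theorem l_deg_PE : ∃ L : ℕ, Cfsg.fixedPointCharacter (s_PE F m) 1 = (L : ℂ) ∧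
    s_N (Fintype.card F) (m + 3) * s_N (Fintype.card F) (m + 2) = L * (Fintype.card F + 1) := by
  refine ⟨(s_PE F m).index, l_fpc_one _, ?_⟩
  obtain ⟨_, _, h3⟩ := l_flag_index (F := F) (m := m) (Fintype.card F) rfl
  rw [← l_index_P, h3]

/-- the degree of the point permutation character. -/
theorem l_deg_L0 : Cfsg.fixedPointCharacter (s_stabS (s_L0 F m)) 1 =
    ((s_N (Fintype.card F) (m + 3) : ℕ) : ℂ) := by
  rw [l_fpc_one, l_index_L0]

/-- **(D3)** -/
theorem l_deg_ineq (q k : ℕ) (hq : 2 ≤ q) (L : ℕ)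
    (h : s_N q (k + 4) * s_N q (k + 3) = L * (q + 1)) : 2 * s_N q (k + 4) ≤ L := by
  have h1 := l_N_ge q (k + 3) hq (by omega)
  by_contra hlt
  push_neg at hlt
  have h2 : L * (q + 1) < 2 * s_N q (k + 4) * (q + 1) :=
    Nat.mul_lt_mul_of_pos_right hlt (by omega)
  have h3 : s_N q (k + 4) * (2 * (q + 1)) ≤ s_N q (k + 4) * s_N q (k + 3) :=
    Nat.mul_le_mul_left _ h1
  rw [h] at h3
  have h4 : s_N q (k + 4) * (2 * (q + 1)) = 2 * s_N q (k + 4) * (q + 1) := by ring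
  omega

end Cfsg.Agent.SLMin
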